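import Groth.Prelude.Def_NonAbH2
import Groth.Prelude.Def_GmPts
import Groth.Agent.S5427
import Mathlib.RingTheory.Finiteness.ModuleFinitePresentation
import Mathlib.RingTheory.Flat.FaithfullyFlat.Algebra
import Mathlib.AlgebraicGeometry.Sites.Fpqc
import Mathlib.AlgebraicGeometry.Morphisms.Finite

/-! The Kummer sequence `μ_n → 𝔾_m → 𝔾_m` is exact for the fppf topology. -/

set_option autoImplicit false
universe u

open CategoryTheory CategoryTheory.Limits MonoidalCategory CartesianMonoidalCategory MonObj GrpObj AlgebraicGeometry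
open Opposite

noncomputable section

namespace Groth.Agent.Pi1Ext.KummerSeq

section

set_option backward.isDefEq.respectTransparency false
set_option backward.isDefEq.respectTransparency.types false


/-- The coordinate ring of `D(M)` over the integers. -/
abbrev CM (M : Type) [AddCommGroup M] : Type u := MonoidAlgebra (ULift.{u} ℤ) (Multiplicative M)

variable {S : Scheme.{u}} {T : Over S} {M : Type} [AddCommGroup M]

/-- The ring map classified by a point of `D_S(M)`. -/
def homOf (y : T ⟶ Red.DS S M) : CM.{u} M →+* Γ(T.left, ⊤) :=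
  ((Scheme.ΓSpecIso (CommRingCat.of (CM.{u} M))).inv ≫ (y.left ≫ pullback.fst _ _).appTop).hom

theorem homOf_gm (t : T ⟶ Red.Gm S) : homOf t = GmPts.ringHomOfPt t := rfl

theorem homOf_DSmap {N : Type} [AddCommGroup N] (y : T ⟶ Red.DS S N) (φ : M →+ N) :
    homOf (y ≫ Red.DSmap S φ) = (homOf y).comp
      (MonoidAlgebra.mapDomainAlgHom (ULift.{u} ℤ) (ULift.{u} ℤ) (AddMonoidHom.toMultiplicative φ)).toRingHom := by
  have h : (y ≫ Red.DSmap S φ).left ≫ pullback.fst _ _ = (y.left ≫ pullback.fst _ _) ≫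
      Spec.map (CommRingCat.ofHom
        (MonoidAlgebra.mapDomainAlgHom (ULift.{u} ℤ) (ULift.{u} ℤ) (AddMonoidHom.toMultiplicative φ)).toRingHom) := by
    rw [Over.comp_left, Category.assoc, Category.assoc]
    simp only [Red.DSmap, Over.pullback_map_left, pullback.lift_fst]
    rfl
  simp only [homOf]
  rw [h, Scheme.Hom.comp_appTop, ← Category.assoc, ← Scheme.ΓSpecIso_inv_naturality, Category.assoc]
  rfl

theorem gmFn_DSmap (y : T ⟶ Red.DS S M) (φ : ℤ →+ M) :
    Red.gmFn (y ≫ Red.DSmap S φ) = homOf y (MonoidAlgebra.single (Multiplicative.ofAdd (φ 1)) 1) := by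
  rw [← GmPts.ringHomOfPt_tPow_one, ← homOf_gm, homOf_DSmap]
  exact congrArg (homOf y) (by simp [GmPts.tPow])

theorem unit_chi (t : T ⟶ Red.Gm S) (n : ℤ) :
    GmPts.unitOfPt (t ≫ Red.chi S n) = GmPts.unitOfPt t ^ n := by
  apply Units.ext
  rw [GmPts.val_unitOfPt, Red.chi, gmFn_DSmap, homOf_gm, ← GmPts.ringHomOfUnit_unitOfPt,
    ← GmPts.ringHomOfUnit_tPow]
  simp [GmPts.tPow]

theorem exists_pt (f : CM.{u} M →+* Γ(T.left, ⊤)) : ∃ y : T ⟶ Red.DS S M, homOf y = f := by
  let p : T.left ⟶ Spec (CommRingCat.of (CM.{u} M)) :=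
    ΓSpec.adjunction.homEquiv T.left (op (CommRingCat.of (CM.{u} M))) (CommRingCat.ofHom f).op
  refine ⟨Over.homMk (pullback.lift p T.hom (specULiftZIsTerminal.hom_ext _ _)) (pullback.lift_snd _ _ _), ?_⟩
  simp only [homOf]
  rw [show (Over.homMk (pullback.lift p T.hom (specULiftZIsTerminal.hom_ext _ _)) (pullback.lift_snd _ _ _) :
    T ⟶ Red.DS S M).left ≫ pullback.fst _ _ = p from pullback.lift_fst _ _ _]
  rw [ΓSpecIso_inv_ΓSpec_adjunction_homEquiv]
  rfl

variable (n : ℕ)

theorem mu_comp_chi : Red.DSmap S (Int.castAddHom (ZMod n)) ≫ Red.chi S (n : ℤ) = 1 := by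
  apply GmPts.gmFn_injective
  show Red.gmFn _ = Red.gmFn _
  rw [GmPts.gmFn_one, ← GmPts.val_unitOfPt, unit_chi, zpow_natCast, Units.val_pow_eq_pow_val, GmPts.val_unitOfPt,
    ← Category.id_comp (Red.DSmap S (Int.castAddHom (ZMod n))), gmFn_DSmap, ← map_pow, MonoidAlgebra.single_pow,
    one_pow, ← ofAdd_nsmul]
  rw [show n • (Int.castAddHom (ZMod n) 1) = 0 by simp, ofAdd_zero, ← MonoidAlgebra.one_def, map_one]

theorem exists_root (h : T ⟶ Red.Gm S) (hh : h ≫ Red.chi S (n : ℤ) = 1) :
    ∃ g : T ⟶ Red.DS S (ZMod n), g ≫ Red.DSmap S (Int.castAddHom (ZMod n)) = h := by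
  let w := GmPts.unitOfPt h
  have hw : w ^ (n : ℤ) = 1 := by rw [← unit_chi, hh, GmPts.unitOfPt_one]
  let a : ℤ →+ Additive (Γ(T.left, ⊤))ˣ := zmultiplesHom _ (Additive.ofMul w)
  have ha : a n = 0 := by
    show (n : ℤ) • Additive.ofMul w = 0
    rw [← ofMul_zpow, hw, ofMul_one]
  let χ : Multiplicative (ZMod n) →* (Γ(T.left, ⊤))ˣ := (ZMod.lift n ⟨a, ha⟩).toMultiplicativeLeft
  let f : CM.{u} (ZMod n) →+* Γ(T.left, ⊤) := MonoidAlgebra.liftNCRingHom
    ((Int.castRingHom Γ(T.left, ⊤)).comp (ULift.ringEquiv : ULift.{u} ℤ ≃+* ℤ).toRingHom)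
    ((Units.coeHom _).comp χ) (fun _ _ => Commute.all _ _)
  obtain ⟨g, hg⟩ := exists_pt (S := S) (T := T) f
  refine ⟨g, GmPts.gmFn_injective ?_⟩
  show Red.gmFn _ = Red.gmFn _
  rw [gmFn_DSmap, hg, ← GmPts.val_unitOfPt]
  have : χ (Multiplicative.ofAdd (Int.castAddHom (ZMod n) 1)) = w := by
    show Additive.toMul (ZMod.lift n ⟨a, ha⟩ ((1 : ℤ) : ZMod n)) = w
    rw [ZMod.lift_coe]
    simp [a]
  simp [f, MonoidAlgebra.liftNCRingHom_single]
  rw [show (Multiplicative.ofAdd (1 : ZMod n)) = Multiplicative.ofAdd (Int.castAddHom (ZMod n) 1) by simp, this]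

end

section Free

variable {n : ℕ}

/-- The coordinate ring, as an algebra over itself through the `n`-th power map. -/
def PB (_n : ℕ) : Type u := GmPts.Coord.{u}

instance instCommRingPB (n : ℕ) : CommRing (PB.{u} n) := inferInstanceAs (CommRing GmPts.Coord.{u})

/-- The `n`-th power map on the coordinate ring. -/
def powRing (n : ℕ) : GmPts.Coord.{u} →+* GmPts.Coord.{u} :=
  (MonoidAlgebra.mapDomainAlgHom (ULift.{u} ℤ) (ULift.{u} ℤ)
    (AddMonoidHom.toMultiplicative (zmultiplesHom ℤ (n : ℤ)))).toRingHom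

theorem powRing_single (n : ℕ) (q : ℤ) (r : ULift.{u} ℤ) :
    powRing n (MonoidAlgebra.single (Multiplicative.ofAdd q) r) =
      MonoidAlgebra.single (Multiplicative.ofAdd ((n : ℤ) * q)) r := by
  simp [powRing, mul_comm (n : ℤ)]

theorem powRing_coeff (hn : 0 < n) (x : GmPts.Coord.{u}) (m : ℤ) :
    (powRing n x).coeff (Multiplicative.ofAdd m) =
      if (n : ℤ) ∣ m then x.coeff (Multiplicative.ofAdd (m / n)) else 0 := by
  induction x using MonoidAlgebra.induction_linear with
  | zero => simp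
  | add a b ha hb =>
    rw [map_add, MonoidAlgebra.coeff_add, Finsupp.add_apply, ha, hb, MonoidAlgebra.coeff_add, Finsupp.add_apply]
    split_ifs <;> simp
  | single q r =>
    obtain ⟨q, rfl⟩ := Multiplicative.ofAdd.surjective q
    rw [powRing_single, MonoidAlgebra.coeff_single, MonoidAlgebra.coeff_single]
    split_ifs with hm
    · obtain ⟨k, rfl⟩ := hm
      rw [Int.mul_ediv_cancel_left _ (by omega : (n : ℤ) ≠ 0)]
      rcases eq_or_ne q k with rfl | hqk
      · simp
      · rw [Finsupp.single_eq_of_ne, Finsupp.single_eq_of_ne] <;>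
          simp only [ne_eq, EmbeddingLike.apply_eq_iff_eq]
        · exact fun h => hqk h.symm
        · exact fun h => hqk (mul_left_cancel₀ (by omega : (n : ℤ) ≠ 0) h).symm
    · rw [Finsupp.single_eq_of_ne]
      simp only [ne_eq, EmbeddingLike.apply_eq_iff_eq]
      exact fun h => hm (h ▸ dvd_mul_right _ _)

instance instAlgebraPB (n : ℕ) : Algebra GmPts.Coord.{u} (PB.{u} n) :=
  RingHom.toAlgebra (R := GmPts.Coord.{u}) (S := PB.{u} n) (powRing n)

theorem algebraMap_PB (n : ℕ) : algebraMap GmPts.Coord.{u} (PB.{u} n) = powRing n := rfl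

instance nontrivial_PB (n : ℕ) : Nontrivial (PB.{u} n) := inferInstanceAs (Nontrivial GmPts.Coord.{u})

theorem powRing_finite_flat (hn : 0 < n) :
    (powRing.{u} n).Finite ∧ (powRing.{u} n).Flat ∧ (powRing.{u} n).FinitePresentation ∧
      Function.Surjective (PrimeSpectrum.comap (powRing.{u} n)) := by
  let Φ : (Fin n → GmPts.Coord.{u}) →+ GmPts.Coord.{u} :=
    { toFun := fun c => ∑ i : Fin n, powRing n (c i) * GmPts.tPow (i : ℤ)
      map_zero' := by simp
      map_add' := fun c d => by simp [map_add, add_mul, Finset.sum_add_distrib] }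
  have hΦ : Function.Bijective Φ := by
    constructor
    · rw [injective_iff_map_eq_zero]
      intro c hc
      funext i
      refine MonoidAlgebra.ext (Finsupp.ext fun m => ?_)
      obtain ⟨m, rfl⟩ := Multiplicative.ofAdd.surjective m
      have := congrArg (fun z : GmPts.Coord.{u} => z.coeff (Multiplicative.ofAdd ((n : ℤ) * m + i))) hc
      simp only [Φ, AddMonoidHom.coe_mk, ZeroHom.coe_mk, MonoidAlgebra.coeff_sum, Finsupp.finset_sum_apply] at this
      rw [Finset.sum_eq_single i] at this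
      · simpa [GmPts.tPow, mul_comm (powRing n (c i)), powRing_coeff hn, ← ofAdd_neg, ← ofAdd_add,
          Int.mul_ediv_cancel_left _ (show (n : ℤ) ≠ 0 by omega)] using this
      · intro j _ hji
        rw [mul_comm, GmPts.tPow, MonoidAlgebra.coeff_single_mul_apply, ← ofAdd_neg, ← ofAdd_add, powRing_coeff hn,
          if_neg, mul_zero]
        intro hd
        have h1 : (n : ℤ) ∣ (i : ℤ) - j := by
          have := dvd_sub hd (dvd_mul_right (n : ℤ) m)
          rwa [show -(j : ℤ) + ((n : ℤ) * m + i) - (n : ℤ) * m = (i : ℤ) - j by ring] at this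
        have h2 := Int.eq_zero_of_dvd_of_natAbs_lt_natAbs h1 (by
          have := i.2; have := j.2; omega)
        exact hji (Fin.ext (by omega))
      · simp
    · intro x
      induction x using MonoidAlgebra.induction_linear with
      | zero => exact ⟨0, map_zero Φ⟩
      | add a b ha hb =>
        obtain ⟨c, rfl⟩ := ha
        obtain ⟨d, rfl⟩ := hb
        exact ⟨c + d, map_add Φ c d⟩
      | single m r =>
        obtain ⟨m, rfl⟩ := Multiplicative.ofAdd.surjective m
        let i : Fin n := ⟨(m % n).toNat, by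
          have := Int.emod_lt_of_pos m (show (0 : ℤ) < n by omega); omega⟩
        refine ⟨Pi.single i (MonoidAlgebra.single (Multiplicative.ofAdd (m / n)) r), ?_⟩
        show ∑ j : Fin n, _ = _
        rw [Finset.sum_eq_single i]
        · rw [Pi.single_eq_same, powRing_single, GmPts.tPow, MonoidAlgebra.single_mul_single, _root_.mul_one, ← ofAdd_add]
          congr 2
          have := Int.emod_nonneg m (show (n : ℤ) ≠ 0 by omega)
          show (n : ℤ) * (m / n) + ((m % n).toNat : ℤ) = m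
          rw [Int.toNat_of_nonneg this]
          exact Int.mul_ediv_add_emod m n
        · intro j _ hj; rw [Pi.single_eq_of_ne hj, map_zero, zero_mul]
        · simp
  let ψ : (Fin n → GmPts.Coord.{u}) →ₗ[GmPts.Coord.{u}] PB.{u} n :=
    { toFun := fun c => (Φ c : PB.{u} n)
      map_add' := fun c d => map_add Φ c d
      map_smul' := fun r c => by
        show Φ (r • c) = powRing n r * Φ c
        simp only [Φ, AddMonoidHom.coe_mk, ZeroHom.coe_mk, Finset.mul_sum]
        exact Finset.sum_congr rfl fun i _ => by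
          rw [show (r • c) i = r * c i from rfl, map_mul, _root_.mul_assoc] }
  let e : (Fin n → GmPts.Coord.{u}) ≃ₗ[GmPts.Coord.{u}] PB.{u} n := LinearEquiv.ofBijective ψ hΦ
  haveI : Module.Finite GmPts.Coord.{u} (PB.{u} n) := Module.Finite.equiv e
  haveI : Module.Free GmPts.Coord.{u} (PB.{u} n) := Module.Free.of_equiv e
  haveI : Module.FaithfullyFlat GmPts.Coord.{u} (PB.{u} n) := inferInstance
  haveI : Module.FinitePresentation GmPts.Coord.{u} (PB.{u} n) := Module.finitePresentation_of_projective _ _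
  exact ⟨(RingHom.finite_algebraMap (A := GmPts.Coord.{u}) (B := PB.{u} n)).2 inferInstance,
    (RingHom.flat_algebraMap_iff (R := GmPts.Coord.{u}) (S := PB.{u} n)).2 inferInstance,
    (RingHom.finitePresentation_algebraMap (A := GmPts.Coord.{u}) (B := PB.{u} n)).2 inferInstance,
    PrimeSpectrum.comap_surjective_of_faithfullyFlat (A := GmPts.Coord.{u}) (B := PB.{u} n)⟩

end Free

set_option backward.isDefEq.respectTransparency.types false

variable {S : Scheme.{u}} (n : ℕ)

theorem chi_props (hn : 0 < n) :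
    IsFinite (Red.chi S (n : ℤ)).left ∧ Flat (Red.chi S (n : ℤ)).left ∧
      LocallyOfFinitePresentation (Red.chi S (n : ℤ)).left ∧ Surjective (Red.chi S (n : ℤ)).left := by
  obtain ⟨h1, h2, h3, h4⟩ := powRing_finite_flat.{u} hn
  let φ := zmultiplesHom ℤ (n : ℤ)
  have a1 : IsFinite (Red.diagMap (ULift.{u} ℤ) φ).left := (IsFinite.SpecMap_iff _).2 h1
  have a2 : Flat (Red.diagMap (ULift.{u} ℤ) φ).left := (HasRingHomProperty.Spec_iff (P := @Flat)).2 h2
  have a3 : LocallyOfFinitePresentation (Red.diagMap (ULift.{u} ℤ) φ).left :=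
    (HasRingHomProperty.Spec_iff (P := @LocallyOfFinitePresentation)).2 h3
  have a4 : Surjective (Red.diagMap (ULift.{u} ℤ) φ).left := ⟨h4⟩
  exact ⟨MorphismProperty.baseChange_map (P := @IsFinite) _ _ a1, MorphismProperty.baseChange_map (P := @Flat) _ _ a2,
    MorphismProperty.baseChange_map (P := @LocallyOfFinitePresentation) _ _ a3,
    MorphismProperty.baseChange_map (P := @Surjective) _ _ a4⟩

theorem chi_mul {T : Over S} (a b : T ⟶ Red.Gm S) :
    (a * b) ≫ Red.chi S (n : ℤ) = (a ≫ Red.chi S (n : ℤ)) * (b ≫ Red.chi S (n : ℤ)) :=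
  (GmPts.equiv T).injective (by
    rw [GmPts.equiv_apply, GmPts.equiv_apply, GmPts.unitOfPt_mul, unit_chi, unit_chi, unit_chi,
      GmPts.unitOfPt_mul, mul_zpow])

theorem chi_inv {T : Over S} (a : T ⟶ Red.Gm S) : a⁻¹ ≫ Red.chi S (n : ℤ) = (a ≫ Red.chi S (n : ℤ))⁻¹ :=
  (GmPts.equiv T).injective (by
    rw [GmPts.equiv_apply, GmPts.equiv_apply, GmPts.unitOfPt_inv, unit_chi, unit_chi, GmPts.unitOfPt_inv, inv_zpow])

theorem isExactSeq_fppf (hn : 0 < n) :
    NonAbH1.IsExactSeq Scheme.fppfPrecoverage (Red.DSmap S (Int.castAddHom (ZMod n))) (Red.chi S (n : ℤ)) := by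
  have hu : IsMonHom (Red.DSmap S (Int.castAddHom (ZMod n))) := S5427.isMonHom_DSmap S _
  have hv : IsMonHom (Red.chi S (n : ℤ)) := S5427.isMonHom_DSmap S _
  refine ⟨hu, hv, mu_comp_chi n, ?_, ?_⟩
  · haveI : IsClosedImmersion (Red.DSmap S (Int.castAddHom (ZMod n))).left :=
      S5427.isClosedImmersion_DSmap S _ (ZMod.intCast_surjective (n := n))
    haveI : Mono (Red.DSmap S (Int.castAddHom (ZMod n))) := by
      have : Mono ((Over.forget S).map (Red.DSmap S (Int.castAddHom (ZMod n)))) :=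
        inferInstanceAs (Mono (Red.DSmap S (Int.castAddHom (ZMod n))).left)
      exact (Over.forget S).mono_of_mono_map this
    let u := Red.DSmap S (Int.castAddHom (ZMod n))
    let m := (Red.Gm S ◁ u) ≫ μ[Red.Gm S]
    have hm : ∀ {T : Over S} (p : T ⟶ Red.Gm S) (g : T ⟶ Red.DS S (ZMod n)), lift p g ≫ m = p * (g ≫ u) := by
      intro T p g
      rw [Hom.mul_def, ← Category.assoc, lift_whiskerLeft]
    have hm' : m = fst (Red.Gm S) (Red.DS S (ZMod n)) * (snd (Red.Gm S) (Red.DS S (ZMod n)) ≫ u) := by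
      rw [← hm, lift_fst_snd, Category.id_comp]
    have hw : fst (Red.Gm S) (Red.DS S (ZMod n)) ≫ Red.chi S (n : ℤ) = m ≫ Red.chi S (n : ℤ) := by
      rw [hm', chi_mul, Category.assoc, mu_comp_chi, MonObj.comp_one, _root_.mul_one]
    have hk : ∀ s : PullbackCone (Red.chi S (n : ℤ)) (Red.chi S (n : ℤ)),
        (s.fst⁻¹ * s.snd) ≫ Red.chi S (n : ℤ) = 1 := fun s => by
      rw [chi_mul, chi_inv, s.condition, inv_mul_cancel]
    refine IsPullback.of_isLimit' ⟨hw⟩ (PullbackCone.IsLimit.mk _ (fun s => lift s.fst ?_) ?_ ?_ ?_)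
    · exact (exists_root n (s.fst⁻¹ * s.snd) (hk s)).choose
    · intro s; exact lift_fst _ _
    · intro s
      rw [hm, (exists_root n (s.fst⁻¹ * s.snd) (hk s)).choose_spec, mul_inv_cancel_left]
    · intro s l h1 h2
      refine hom_ext _ _ (h1.trans (lift_fst _ _).symm) ?_
      rw [lift_snd, ← cancel_mono u]
      have : lift s.fst (l ≫ snd _ _) = l := by
        rw [← h1]; exact hom_ext _ _ (lift_fst _ _) (lift_snd _ _)
      rw [← this, hm] at h2
      rw [(exists_root n (s.fst⁻¹ * s.snd) (hk s)).choose_spec, ← h2, inv_mul_cancel_left]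
  · obtain ⟨h1, h2, h3, h4⟩ := chi_props (S := S) n hn
    refine ⟨Presieve.singleton (Red.chi S (n : ℤ)).left, Scheme.Hom.singleton_mem_fppfPrecoverage _, ?_⟩
    rintro _ _ ⟨⟩
    exact ⟨𝟙 _, Category.id_comp _⟩

end Groth.Agent.Pi1Ext.KummerSeq
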