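import Groth.Agent.Pi1Ext.UHSplit
import Groth.Agent.EtFound.TopInv
import Groth.Agent.EtFound.Descent
import Groth.Agent.DescLib.Canonical
import Groth.Agent.DescLib.DescFinite
import Groth.Agent.S7482
import Groth.Agent.SchTorsor.Props
import Mathlib

/-! # Topological invariance of finite étale covers (essential surjectivity) -/

set_option autoImplicit false

universe u

open CategoryTheory CategoryTheory.Limits AlgebraicGeometry TopologicalSpace

noncomputable section

set_option backward.isDefEq.respectTransparency false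
set_option backward.isDefEq.respectTransparency.types false

namespace Groth.Agent.Pi1Ext.UH

/-- Points of an étale scheme do not see universal homeomorphisms. -/
theorem lifts_bijective {S S' E B : Scheme.{u}} (g : S' ⟶ S) [IsIntegralHom g] [UniversallyInjective g]
    [Surjective g] (h : E ⟶ B) [Etale h] (x : S ⟶ B) :
    Function.Bijective (fun v : {v : S ⟶ E // v ≫ h = x} =>
      (⟨g ≫ v.1, by rw [Category.assoc, v.2]⟩ : {u : S' ⟶ E // u ≫ h = g ≫ x})) := by
  let P : CategoryTheory.Over S := CategoryTheory.Over.mk (pullback.snd h x)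
  let O : CategoryTheory.Over S := CategoryTheory.Over.mk (𝟙 S)
  haveI : Etale P.hom := MorphismProperty.pullback_snd (P := @Etale) h x ‹_›
  constructor
  · intro v v' e
    have e' : g ≫ v.1 = g ≫ v'.1 := congrArg Subtype.val e
    let φ : ∀ v : {v : S ⟶ E // v ≫ h = x}, O ⟶ P := fun v => CategoryTheory.Over.homMk
      (pullback.lift v.1 (𝟙 S) (v.2.trans (Category.id_comp x).symm)) (pullback.lift_snd _ _ _)
    have hφ : φ v = φ v' := EtFound.injective_pullback_map g P O (by
      refine CategoryTheory.Over.OverMorphism.ext (pullback.hom_ext ?_ ?_)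
      · simp only [CategoryTheory.Over.pullback_map_left, pullback.lift_fst]
        refine pullback.hom_ext ?_ ?_
        · have hc : pullback.fst O.hom g = pullback.snd O.hom g ≫ g :=
            (Category.comp_id _).symm.trans pullback.condition
          simp only [φ, Category.assoc]
          rw [show pullback.fst O.hom g = pullback.snd O.hom g ≫ g from hc]
          simp [e']
        · simp [φ]
      · simp only [CategoryTheory.Over.pullback_map_left, pullback.lift_snd])
    exact Subtype.ext ((pullback.lift_fst _ _ _).symm.trans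
      ((congrArg (fun k => k.left ≫ pullback.fst h x) hφ).trans (pullback.lift_fst _ _ _)))
  · rintro ⟨u, hu⟩
    let ψ : (CategoryTheory.Over.pullback g).obj O ⟶ (CategoryTheory.Over.pullback g).obj P :=
      CategoryTheory.Over.homMk (pullback.lift (pullback.lift (pullback.snd (𝟙 S) g ≫ u) (pullback.snd (𝟙 S) g ≫ g)
        (by rw [Category.assoc, hu, Category.assoc])) (pullback.snd (𝟙 S) g) (pullback.lift_snd _ _ _))
        (pullback.lift_snd _ _ _)
    obtain ⟨φ, hφ⟩ := EtFound.surjective_pullback_map g P O ψ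
    refine ⟨⟨φ.left ≫ pullback.fst h x, ?_⟩, ?_⟩
    · rw [Category.assoc, pullback.condition, ← Category.assoc]
      exact (congrArg (· ≫ x) (CategoryTheory.Over.w φ)).trans (Category.id_comp x)
    · refine Subtype.ext ?_
      let j : S' ⟶ pullback (𝟙 S) g := pullback.lift g (𝟙 S') ((Category.comp_id g).trans (Category.id_comp g).symm)
      have h1 := congrArg (fun k => j ≫ k.left ≫ pullback.fst P.hom g ≫ pullback.fst h x) hφ
      simp only [CategoryTheory.Over.pullback_map_left, ψ, CategoryTheory.Over.homMk_left] at h1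
      show g ≫ φ.left ≫ pullback.fst h x = u
      have e1 : j ≫ pullback.fst (𝟙 S) g = g := pullback.lift_fst _ _ _
      have e2 : j ≫ pullback.snd (𝟙 S) g = 𝟙 S' := pullback.lift_snd _ _ _
      simp only [pullback.lift_fst_assoc, pullback.lift_fst, Category.assoc] at h1
      exact ((congrArg (fun k => k ≫ φ.left ≫ pullback.fst h x) e1).symm.trans (Category.assoc _ _ _)).trans
        (h1.trans ((Category.assoc _ _ _).symm.trans ((congrArg (· ≫ u) e2).trans (Category.id_comp u))))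

variable {X Y : Scheme.{u}} {f : X ⟶ Y} [IsIntegralHom f] [UniversallyInjective f] [Surjective f]
  {V : FEt.Cat X} {y : Y}

/-- Lifts to `X`: the points of `V` over a `Y`-scheme. -/
abbrev Sec (f : X ⟶ Y) (V : FEt.Cat X) {T : Scheme.{u}} (s : T ⟶ Y) : Type u :=
  {u : pullback s f ⟶ V.left // u ≫ V.hom = pullback.snd s f}

variable (M : Model f V y)

/-- The comparison map to the model. -/
def Model.j {T : Scheme.{u}} (x : T ⟶ M.Y') (s : T ⟶ Y) (hs : x ≫ M.v = s) : pullback s f ⟶ M.X' :=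
  M.sq.lift (pullback.snd s f) (pullback.fst s f ≫ x)
    (by rw [Category.assoc, hs, pullback.condition])

@[reassoc (attr := simp)]
theorem Model.j_a {T : Scheme.{u}} (x : T ⟶ M.Y') (s : T ⟶ Y) (hs : x ≫ M.v = s) :
    M.j x s hs ≫ M.a = pullback.snd s f := M.sq.lift_fst _ _ _

@[reassoc (attr := simp)]
theorem Model.j_b {T : Scheme.{u}} (x : T ⟶ M.Y') (s : T ⟶ Y) (hs : x ≫ M.v = s) :
    M.j x s hs ≫ M.b = pullback.fst s f ≫ x := M.sq.lift_snd _ _ _

/-- The component of `κ` towards `V`. -/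
def Model.toV : pullback M.E.hom M.b ⟶ V.left := M.κ.hom.left ≫ pullback.fst V.hom M.a

theorem Model.toV_hom : M.toV ≫ V.hom = pullback.snd M.E.hom M.b ≫ M.a := by
  rw [Model.toV, Category.assoc, pullback.condition, ← Category.assoc]
  exact congrArg (· ≫ M.a) (MorphismProperty.Over.w M.κ.hom)

theorem Model.toV_ext {T : Scheme.{u}} (p q : T ⟶ pullback M.E.hom M.b) (h1 : p ≫ M.toV = q ≫ M.toV)
    (h2 : p ≫ pullback.snd M.E.hom M.b = q ≫ pullback.snd M.E.hom M.b) : p = q := by
  have h3 : p ≫ M.κ.hom.left = q ≫ M.κ.hom.left := by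
    refine pullback.hom_ext ?_ ?_
    · simpa [Model.toV] using h1
    · have := MorphismProperty.Over.w M.κ.hom
      exact ((Category.assoc _ _ _).trans (congrArg (p ≫ ·) this)).trans
        (h2.trans ((congrArg (q ≫ ·) this).symm.trans (Category.assoc _ _ _).symm))
  have h4 := congrArg (· ≫ M.κ.inv.left) h3
  simp only [Category.assoc] at h4
  have h5 : M.κ.hom.left ≫ M.κ.inv.left = 𝟙 _ := congrArg (fun k => k.left) M.κ.hom_inv_id
  simp only [h5, Category.comp_id] at h4
  exact h4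

/-- The map from points of the model to sections of `V`. -/
def Model.toSec {T : Scheme.{u}} (x : T ⟶ M.Y') (s : T ⟶ Y) (hs : x ≫ M.v = s)
    (e : Desc.Lifts (CategoryTheory.Over.mk M.E.hom) x) : Sec f V s :=
  ⟨pullback.lift (pullback.fst s f ≫ e.1) (M.j x s hs)
      (by rw [Category.assoc, M.j_b]; exact congrArg (pullback.fst s f ≫ ·) e.2) ≫ M.toV, by
    rw [Category.assoc, M.toV_hom, pullback.lift_snd_assoc, M.j_a]⟩

theorem Model.toSec_bijective {T : Scheme.{u}} (x : T ⟶ M.Y') (s : T ⟶ Y) (hs : x ≫ M.v = s) :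
    Function.Bijective (M.toSec x s hs) := by
  haveI : IsIntegralHom (pullback.fst s f) := MorphismProperty.pullback_fst _ _ inferInstance
  haveI : UniversallyInjective (pullback.fst s f) :=
    MorphismProperty.pullback_fst (P := @UniversallyInjective) _ _ ‹_›
  haveI : Surjective (pullback.fst s f) := MorphismProperty.pullback_fst (P := @Surjective) _ _ ‹_›
  haveI : Etale M.E.hom := M.E.prop.2
  have hb := lifts_bijective (pullback.fst s f) M.E.hom x
  constructor
  · intro e e' h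
    refine hb.1 (Subtype.ext ?_)
    have := M.toV_ext _ _ (congrArg Subtype.val h) (by simp)
    exact (pullback.lift_fst _ _ _).symm.trans ((congrArg (· ≫ pullback.fst M.E.hom M.b) this).trans (pullback.lift_fst _ _ _))
  · rintro ⟨u, hu⟩
    let p : pullback s f ⟶ pullback M.E.hom M.b :=
      pullback.lift u (M.j x s hs) (by rw [hu, M.j_a]) ≫ M.κ.inv.left
    have hp : p ≫ pullback.snd M.E.hom M.b = M.j x s hs := by
      rw [Category.assoc]
      exact (congrArg (_ ≫ ·) (MorphismProperty.Over.w M.κ.inv)).trans (pullback.lift_snd _ _ _)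
    obtain ⟨e, he⟩ := hb.2 ⟨p ≫ pullback.fst M.E.hom M.b, by
      rw [Category.assoc, pullback.condition, ← Category.assoc, hp, M.j_b]⟩
    refine ⟨e, Subtype.ext ?_⟩
    have he' : pullback.fst s f ≫ e.1 = p ≫ pullback.fst M.E.hom M.b := congrArg Subtype.val he
    show pullback.lift _ _ _ ≫ M.toV = u
    have : pullback.lift (pullback.fst s f ≫ e.1) (M.j x s hs)
      (by rw [Category.assoc, M.j_b]; exact congrArg (pullback.fst s f ≫ ·) e.2) = p :=
      pullback.hom_ext ((pullback.lift_fst _ _ _).trans he') ((pullback.lift_snd _ _ _).trans hp.symm)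
    rw [this]
    simp only [p, Model.toV, Category.assoc]
    have h5 : M.κ.inv.left ≫ M.κ.hom.left = 𝟙 _ := congrArg (fun k => k.left) M.κ.inv_hom_id
    rw [reassoc_of% h5]
    exact pullback.lift_fst _ _ _

/-- Points of the model are sections of `V`. -/
def Model.secEquiv {T : Scheme.{u}} (x : T ⟶ M.Y') (s : T ⟶ Y) (hs : x ≫ M.v = s) :
    Desc.Lifts (CategoryTheory.Over.mk M.E.hom) x ≃ Sec f V s :=
  Equiv.ofBijective _ (M.toSec_bijective x s hs)

theorem Model.toSec_natural {T T' : Scheme.{u}} (g : T' ⟶ T) (x : T ⟶ M.Y') (s : T ⟶ Y) (hs : x ≫ M.v = s)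
    (x' : T' ⟶ M.Y') (s' : T' ⟶ Y) (hs' : x' ≫ M.v = s') (hx : g ≫ x = x')
    (e : Desc.Lifts (CategoryTheory.Over.mk M.E.hom) x) (e' : Desc.Lifts (CategoryTheory.Over.mk M.E.hom) x')
    (he : e'.1 = g ≫ e.1) :
    (M.toSec x' s' hs' e').1 = pullback.map s' f s f g (𝟙 X) (𝟙 Y)
      (by rw [Category.comp_id, ← hs', ← hx, Category.assoc, hs]) (by simp) ≫ (M.toSec x s hs e).1 := by
  subst hx
  simp only [Model.toSec]
  rw [← Category.assoc]
  refine congrArg (· ≫ M.toV) (pullback.hom_ext ?_ ?_)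
  · simp [he]
  · rw [Category.assoc, pullback.lift_snd, pullback.lift_snd]
    refine M.sq.hom_ext ?_ ?_ <;> simp

section global

variable (f V) (Ms : ∀ y : Y, Model f V y)

/-- The descent datum. -/
def datum : Desc.SchDDFam (fun y => (Ms y).v) where
  obj y := CategoryTheory.Over.mk (Ms y).E.hom
  φ _ i j x₀ x₁ h := ((Ms i).secEquiv x₀ (x₀ ≫ (Ms i).v) rfl).trans
    ((Ms j).secEquiv x₁ (x₀ ≫ (Ms i).v) h.symm).symm
  φ_natural T T' g i j x₀ x₁ h y₀ y₁ hy₀ hy₁ h' v v' hv' := by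
    let e₁ := ((Ms i).secEquiv x₀ (x₀ ≫ (Ms i).v) rfl).trans ((Ms j).secEquiv x₁ (x₀ ≫ (Ms i).v) h.symm).symm v
    let e₁' := ((Ms i).secEquiv y₀ (y₀ ≫ (Ms i).v) rfl).trans ((Ms j).secEquiv y₁ (y₀ ≫ (Ms i).v) h'.symm).symm v'
    have hg : (⟨g ≫ e₁.1, by rw [Category.assoc, e₁.2, hy₁]⟩ : Desc.Lifts (CategoryTheory.Over.mk (Ms j).E.hom) y₁) = e₁' := by
      refine ((Ms j).secEquiv y₁ (y₀ ≫ (Ms i).v) h'.symm).injective ?_
      refine Eq.trans (Subtype.ext ?_) (Equiv.apply_symm_apply _ _).symm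
      have k1 := (Ms j).toSec_natural g x₁ (x₀ ≫ (Ms i).v) h.symm y₁ (y₀ ≫ (Ms i).v) h'.symm hy₁ e₁
        ⟨g ≫ e₁.1, by rw [Category.assoc, e₁.2, hy₁]⟩ rfl
      have k2 := (Ms i).toSec_natural g x₀ (x₀ ≫ (Ms i).v) rfl y₀ (y₀ ≫ (Ms i).v) rfl hy₀ v v' hv'
      refine k1.trans (Eq.trans ?_ k2.symm)
      refine congrArg (_ ≫ ·) (congrArg Subtype.val ?_)
      exact ((Ms j).secEquiv x₁ (x₀ ≫ (Ms i).v) h.symm).apply_symm_apply _
    exact (congrArg Subtype.val hg).symm
  φ_self T i x v := ((Ms i).secEquiv x (x ≫ (Ms i).v) rfl).symm_apply_apply v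
  φ_comp T i j k x₀ x₁ x₂ h₀₁ h₁₂ v := by
    simp only [Equiv.trans_apply]
    have key : ∀ (s s' : T ⟶ Y) (e : s = s') (hs : x₁ ≫ (Ms j).v = s) (hs' : x₁ ≫ (Ms j).v = s')
        (ht : x₂ ≫ (Ms k).v = s) (ht' : x₂ ≫ (Ms k).v = s') (w : Desc.Lifts (CategoryTheory.Over.mk (Ms j).E.hom) x₁),
        ((Ms k).secEquiv x₂ s ht).symm ((Ms j).secEquiv x₁ s hs w) =
          ((Ms k).secEquiv x₂ s' ht').symm ((Ms j).secEquiv x₁ s' hs' w) := by
      rintro s _ rfl _ _ _ _ _; rfl
    rw [key _ _ h₀₁.symm rfl h₀₁.symm h₁₂.symm (h₁₂.symm.trans h₀₁.symm), Equiv.apply_symm_apply]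

variable {f V}

theorem ofArrows_mem {S : Scheme.{u}} {ι : Type u} {Z : ι → Scheme.{u}} (g : ∀ i, Z i ⟶ S) (hg : ∀ i, Etale (g i))
    (hs : ∀ s : S, ∃ i z, (g i).base z = s) : Presieve.ofArrows Z g ∈ Scheme.fpqcPrecoverage S := by
  refine Scheme.fppfPrecoverage_le_fpqcPrecoverage _ ?_
  rw [Scheme.fppfPrecoverage, Scheme.ofArrows_mem_precoverage_iff]
  exact ⟨hs, fun i => by haveI := hg i; exact ⟨inferInstance, inferInstance⟩⟩

/-- The isomorphism of a model and the pullback of a solution. -/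
def compIso (U : CategoryTheory.Over Y) (θ : (Desc.toDDFam fun y => (Ms y).v).obj U ≅ datum f V Ms) (y : Y) :
    pullback (Ms y).v U.hom ≅ (Ms y).E.left where
  hom := (θ.hom.hom y).left
  inv := (θ.inv.hom y).left
  hom_inv_id := congrArg (fun k => (k.hom y).left) θ.hom_inv_id
  inv_hom_id := congrArg (fun k => (k.hom y).left) θ.inv_hom_id

theorem finite_etale_of_models (hv : ∀ y, IsAffine (Ms y).Y') (hW : ∀ y, ∃ W : Y.Opens, IsAffineOpen W ∧
    Set.range (Ms y).v.base ⊆ W) (U : CategoryTheory.Over Y)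
    (θ : (Desc.toDDFam fun y => (Ms y).v).obj U ≅ datum f V Ms) : IsFinite U.hom ∧ Etale U.hom := by
  haveI := fun y => (Ms y).hv
  let O : Y → Y.Opens := fun y => ⟨Set.range (Ms y).v.base, (Ms y).v.isOpenMap.isOpen_range⟩
  have hO : ⨆ y, O y = ⊤ := top_le_iff.mp fun y _ => Opens.mem_iSup.mpr ⟨y, ⟨(Ms y).z, (Ms y).hz⟩⟩
  have key : ∀ y, IsFinite (U.hom ∣_ O y) ∧ Etale (U.hom ∣_ O y) := fun y => by
    obtain ⟨W, hWa, hWr⟩ := hW y
    let v' : (Ms y).Y' ⟶ O y := IsOpenImmersion.lift (O y).ι (Ms y).v (by simp [O])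
    have hv' : v' ≫ (O y).ι = (Ms y).v := IsOpenImmersion.lift_fac _ _ _
    haveI : Etale v' := MorphismProperty.of_postcomp (W := @Etale) (W' := @Etale) v' (O y).ι inferInstance
      (hv'.symm ▸ (Ms y).hv)
    haveI : Surjective v' := ⟨fun o => by
      obtain ⟨t, ht⟩ := o.2
      exact ⟨t, (O y).ι.isOpenEmbedding.injective
        ((Scheme.Hom.comp_apply _ _ _).symm.trans ((congrArg (fun k => k.base t) hv').trans ht))⟩⟩
    haveI : IsAffine W := hWa
    haveI : QuasiSeparatedSpace (O y : Scheme.{u}) :=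
      quasiSeparatedSpace_of_quasiSeparated (Y.homOfLE (show O y ≤ W from hWr))
    haveI : IsAffine (Ms y).Y' := hv y
    haveI : QuasiCompact v' := quasiCompact_of_compactSpace v'
    have hQ : (@Surjective ⊓ @Flat ⊓ @QuasiCompact : MorphismProperty Scheme.{u}) v' :=
      ⟨⟨inferInstance, inferInstance⟩, inferInstance⟩
    let m : pullback (Ms y).v U.hom ⟶ (U.hom ⁻¹ᵁ O y : Scheme.{u}) :=
      IsOpenImmersion.lift (U.hom ⁻¹ᵁ O y).ι (pullback.snd (Ms y).v U.hom) (by
        rintro _ ⟨t, rfl⟩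
        rw [Scheme.Opens.range_ι]
        exact ⟨_, comm_apply pullback.condition t⟩)
    have hm : m ≫ (U.hom ⁻¹ᵁ O y).ι = pullback.snd (Ms y).v U.hom := IsOpenImmersion.lift_fac _ _ _
    have sq : IsPullback m (pullback.fst (Ms y).v U.hom) (U.hom ∣_ O y) v' := by
      refine IsPullback.of_right ?_ ?_ (isPullback_morphismRestrict U.hom (O y)).flip
      · rw [hm, hv']
        exact (IsPullback.of_hasPullback _ _).flip
      · rw [← cancel_mono (O y).ι, Category.assoc, morphismRestrict_ι, Category.assoc, hv', ← Category.assoc, hm,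
          pullback.condition]
    have he : (compIso Ms U θ y).hom ≫ (Ms y).E.hom = pullback.fst (Ms y).v U.hom :=
      CategoryTheory.Over.w (θ.hom.hom y)
    constructor
    · haveI := EtFound.fpqc_isFinite.{u}
      refine MorphismProperty.of_isPullback_of_descendsAlong (P := @IsFinite)
        (Q := (@Surjective ⊓ @Flat ⊓ @QuasiCompact : MorphismProperty Scheme.{u})) sq.flip hQ ?_
      rw [← he]
      exact (MorphismProperty.cancel_left_of_respectsIso (P := @IsFinite) _ _).mpr (Ms y).E.prop.1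
    · refine MorphismProperty.of_isPullback_of_descendsAlong (P := @Etale)
        (Q := (@Surjective ⊓ @Flat ⊓ @QuasiCompact : MorphismProperty Scheme.{u})) sq.flip hQ ?_
      rw [← he]
      exact (MorphismProperty.cancel_left_of_respectsIso (P := @Etale) _ _).mpr (Ms y).E.prop.2
  exact ⟨(IsZariskiLocalAtTarget.iff_of_iSup_eq_top (P := @IsFinite) O hO).mpr fun y => (key y).1,
    (IsZariskiLocalAtTarget.iff_of_iSup_eq_top (P := @Etale) O hO).mpr fun y => (key y).2⟩

theorem sigma_toSec (M : Model f V y) {T : Scheme.{u}} (x : T ⟶ M.X') (s : T ⟶ Y) (hs : (x ≫ M.b) ≫ M.v = s)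
    (w : 𝟙 T ≫ s = (x ≫ M.a) ≫ f) (e : Desc.Lifts (CategoryTheory.Over.mk M.E.hom) (x ≫ M.b)) :
    pullback.lift (𝟙 T) (x ≫ M.a) w ≫ (M.toSec (x ≫ M.b) s hs e).1 =
      pullback.lift e.1 x e.2 ≫ M.toV := by
  rw [Model.toSec, ← Category.assoc]
  refine congrArg (· ≫ M.toV) (pullback.hom_ext ?_ ?_)
  · simp
    exact Category.id_comp _
  · rw [Category.assoc, pullback.lift_snd]
    refine Eq.trans ?_ (pullback.lift_snd _ _ _).symm
    refine M.sq.hom_ext ?_ ?_ <;> simp
    exact Category.id_comp _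

variable (U : CategoryTheory.Over Y) (θ : (Desc.toDDFam fun y => (Ms y).v).obj U ≅ datum f V Ms)

/-- The solution restricted to `X`. -/
abbrev UX : CategoryTheory.Over X := CategoryTheory.Over.mk (pullback.snd U.hom f)

/-- The forward component. -/
def fwd (y : Y) : pullback (Ms y).a (pullback.snd U.hom f) ⟶ pullback (Ms y).E.hom (Ms y).b :=
  pullback.lift (pullback.lift (pullback.fst _ _ ≫ (Ms y).b) (pullback.snd _ _ ≫ pullback.fst U.hom f)
      (by rw [Category.assoc, ← (Ms y).sq.w, Category.assoc, pullback.condition (f := U.hom), ← Category.assoc,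
        ← Category.assoc, pullback.condition]) ≫ (compIso Ms U θ y).hom)
    (pullback.fst _ _)
    (by rw [Category.assoc, show (compIso Ms U θ y).hom ≫ (Ms y).E.hom = pullback.fst _ _ from
      CategoryTheory.Over.w (θ.hom.hom y), pullback.lift_fst])

/-- The backward component. -/
def bwd (y : Y) : pullback (Ms y).E.hom (Ms y).b ⟶ pullback (Ms y).a (pullback.snd U.hom f) :=
  pullback.lift (pullback.snd _ _)
    (pullback.lift (pullback.fst _ _ ≫ (compIso Ms U θ y).inv ≫ pullback.snd _ _) (pullback.snd _ _ ≫ (Ms y).a)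
      (by
        have h := CategoryTheory.Over.w (θ.inv.hom y)
        simp only [Category.assoc]
        rw [← pullback.condition, ← Category.assoc (compIso Ms U θ y).inv,
          show (compIso Ms U θ y).inv ≫ pullback.fst _ _ = (Ms y).E.hom from h, ← Category.assoc,
          pullback.condition, Category.assoc, (Ms y).sq.w]))
    (pullback.lift_snd _ _ _).symm

theorem fwd_bwd (y : Y) : fwd Ms U θ y ≫ bwd Ms U θ y = 𝟙 _ := by
  refine pullback.hom_ext ?_ ?_
  · simp [fwd, bwd]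
  · refine pullback.hom_ext ?_ ?_
    · simp [fwd, bwd]
    · simp [fwd, bwd, pullback.condition]

theorem bwd_fwd (y : Y) : bwd Ms U θ y ≫ fwd Ms U θ y = 𝟙 _ := by
  refine pullback.hom_ext ?_ ?_
  · simp only [fwd, Category.assoc, pullback.lift_fst, Category.id_comp]
    rw [← Category.assoc, ← Iso.eq_comp_inv]
    refine pullback.hom_ext ?_ ?_
    · have h := CategoryTheory.Over.w (θ.inv.hom y)
      simp only [bwd, Category.assoc, pullback.lift_fst, pullback.lift_fst_assoc]
      rw [show (compIso Ms U θ y).inv ≫ pullback.fst _ _ = (Ms y).E.hom from h, pullback.condition]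
    · simp [bwd]
  · simp [fwd, bwd]

/-- The component isomorphisms over `X`. -/
def component (y : Y) : CategoryTheory.Over.mk (pullback.fst (Ms y).a (UX (f := f) U).hom) ≅
    CategoryTheory.Over.mk (pullback.fst (Ms y).a (CategoryTheory.Over.mk V.hom).hom) :=
  CategoryTheory.Over.isoMk
    ({ hom := fwd Ms U θ y, inv := bwd Ms U θ y, hom_inv_id := fwd_bwd Ms U θ y, inv_hom_id := bwd_fwd Ms U θ y } ≪≫
      { hom := (Ms y).κ.hom.left, inv := (Ms y).κ.inv.left,
        hom_inv_id := congrArg (fun k => k.left) (Ms y).κ.hom_inv_id,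
        inv_hom_id := congrArg (fun k => k.left) (Ms y).κ.inv_hom_id } ≪≫ pullbackSymmetry V.hom (Ms y).a)
    (by
      show ((fwd Ms U θ y ≫ (Ms y).κ.hom.left ≫ (pullbackSymmetry V.hom (Ms y).a).hom)) ≫ pullback.fst _ _ = _
      simp only [Category.assoc, pullbackSymmetry_hom_comp_fst]
      rw [show (Ms y).κ.hom.left ≫ pullback.snd V.hom (Ms y).a = pullback.snd _ _ from MorphismProperty.Over.w (Ms y).κ.hom]
      simp [fwd])

theorem component_snd (y : Y) : (component Ms U θ y).hom.left ≫ pullback.snd (Ms y).a V.hom =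
    fwd Ms U θ y ≫ (Ms y).toV := by
  show (fwd Ms U θ y ≫ (Ms y).κ.hom.left ≫ (pullbackSymmetry V.hom (Ms y).a).hom) ≫ pullback.snd _ _ = _
  simp [Model.toV]

theorem comm_component ⦃T : Scheme.{u}⦄ ⦃i j : Y⦄ (x₀ : T ⟶ (Ms i).X') (x₁ : T ⟶ (Ms j).X')
    (h : x₀ ≫ (Ms i).a = x₁ ≫ (Ms j).a) (v : T ⟶ pullback (Ms i).a (pullback.snd U.hom f))
    (hv : v ≫ pullback.fst _ _ = x₀) (v₁ : T ⟶ pullback (Ms j).a (pullback.snd U.hom f))
    (hv₁ : v₁ ≫ pullback.fst _ _ = x₁) (hsnd : v₁ ≫ pullback.snd _ _ = v ≫ pullback.snd _ _) :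
    v₁ ≫ fwd Ms U θ j ≫ (Ms j).toV = v ≫ fwd Ms U θ i ≫ (Ms i).toV := by
  let s : T ⟶ Y := (x₀ ≫ (Ms i).a) ≫ f
  have hs₀ : (x₀ ≫ (Ms i).b) ≫ (Ms i).v = s := by simp only [s, Category.assoc, (Ms i).sq.w]
  have hs₁ : (x₁ ≫ (Ms j).b) ≫ (Ms j).v = s := by
    show _ = (x₀ ≫ (Ms i).a) ≫ f
    rw [h, Category.assoc, Category.assoc, (Ms j).sq.w]
  let r : T ⟶ U.left := v ≫ pullback.snd _ _ ≫ pullback.fst U.hom f
  have hr : r ≫ U.hom = s := by
    simp only [r, s, Category.assoc, pullback.condition (f := U.hom), ← hv, pullback.condition_assoc]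
  let c₀ : Desc.Lifts (((Desc.toDDFam fun y => (Ms y).v).obj U).obj i) (x₀ ≫ (Ms i).b) :=
    ⟨pullback.lift (x₀ ≫ (Ms i).b) r (hs₀.trans hr.symm), pullback.lift_fst _ _ _⟩
  let e₀ : Desc.Lifts (CategoryTheory.Over.mk (Ms i).E.hom) (x₀ ≫ (Ms i).b) :=
    ⟨c₀.1 ≫ (compIso Ms U θ i).hom, by
      rw [Category.assoc]; exact (congrArg (c₀.1 ≫ ·) (CategoryTheory.Over.w (θ.hom.hom i))).trans c₀.2⟩
  let e₁ : Desc.Lifts (CategoryTheory.Over.mk (Ms j).E.hom) (x₁ ≫ (Ms j).b) :=
    ⟨pullback.lift (x₁ ≫ (Ms j).b) r (hs₁.trans hr.symm) ≫ (compIso Ms U θ j).hom, by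
      rw [Category.assoc]
      exact (congrArg (_ ≫ ·) (CategoryTheory.Over.w (θ.hom.hom j))).trans (pullback.lift_fst _ _ _)⟩
  have hφ : (datum f V Ms).φ (x₀ ≫ (Ms i).b) (x₁ ≫ (Ms j).b) (hs₀.trans hs₁.symm) e₀ = e₁ := by
    refine Subtype.ext ((θ.hom.comm (x₀ ≫ (Ms i).b) (x₁ ≫ (Ms j).b) (hs₀.trans hs₁.symm) c₀ e₀ rfl).trans ?_)
    refine congrArg (· ≫ (compIso Ms U θ j).hom) ?_
    refine pullback.hom_ext ?_ ?_
    · simp [Desc.toDDFam, Desc.canonicalDDFam]
    · simp [Desc.toDDFam, Desc.canonicalDDFam, c₀]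
  have key : ∀ (s' : T ⟶ Y) (e : s' = s) (hi : (x₀ ≫ (Ms i).b) ≫ (Ms i).v = s') (hj : (x₁ ≫ (Ms j).b) ≫ (Ms j).v = s'),
      (Ms j).secEquiv _ s' hj (((Ms j).secEquiv _ s' hj).symm ((Ms i).secEquiv _ s' hi e₀)) = (Ms i).secEquiv _ s' hi e₀ →
      ((Ms j).secEquiv _ s' hj).symm ((Ms i).secEquiv _ s' hi e₀) = e₁ →
      ((Ms j).toSec _ s hs₁ e₁).1 = ((Ms i).toSec _ s hs₀ e₀).1 := by
    rintro _ rfl hi hj ha hb
    rw [hb] at ha
    exact congrArg Subtype.val ha
  have hsec := key ((x₀ ≫ (Ms i).b) ≫ (Ms i).v) hs₀ rfl (hs₁.trans hs₀.symm) (Equiv.apply_symm_apply _ _) hφ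
  have hl₀ : v ≫ fwd Ms U θ i = pullback.lift e₀.1 x₀ e₀.2 := by
    refine pullback.hom_ext ?_ ?_
    · simp only [fwd, Category.assoc, pullback.lift_fst, e₀]
      refine Eq.trans ?_ (pullback.lift_fst _ _ _).symm
      rw [← Category.assoc]
      refine congrArg (· ≫ (compIso Ms U θ i).hom) (pullback.hom_ext ?_ ?_)
      · simp [c₀, ← hv]
      · simp [c₀, r]
    · simp [fwd, hv]
  have hl₁ : v₁ ≫ fwd Ms U θ j = pullback.lift e₁.1 x₁ e₁.2 := by
    refine pullback.hom_ext ?_ ?_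
    · simp only [fwd, Category.assoc, pullback.lift_fst, e₁]
      refine Eq.trans ?_ (pullback.lift_fst _ _ _).symm
      rw [← Category.assoc]
      refine congrArg (· ≫ (compIso Ms U θ j).hom) (pullback.hom_ext ?_ ?_)
      · simp [← hv₁]
      · simp [r, reassoc_of% hsnd]
    · simp [fwd, hv₁]
  rw [← Category.assoc, hl₁, ← Category.assoc, hl₀,
    ← sigma_toSec (Ms j) x₁ s hs₁ (by rw [Category.id_comp]; exact congrArg (· ≫ f) h) e₁, ← sigma_toSec (Ms i) x₀ s hs₀ (by simp [s]) e₀, hsec]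
  exact congrArg (· ≫ _) (pullback.hom_ext (by simp) (by simp [h]))

include θ in
theorem exists_restrict_iso : Nonempty (UX (f := f) U ≅ CategoryTheory.Over.mk V.hom) := by
  haveI : ∀ y, Etale (Ms y).a := fun y => MorphismProperty.of_isPullback (Ms y).sq.flip (Ms y).hv
  have hcov : DescLib.factorSieve (fun y => (Ms y).a) (𝟙 X) ∈ Scheme.fpqcTopology X := by
    refine DescLib.factorSieve_mem_of_cover _ (ofArrows_mem _ inferInstance fun x => ⟨f.base x, ?_⟩) _
    obtain ⟨t, ht, -⟩ := Scheme.Pullback.exists_preimage_pullback (f := f) (g := (Ms (f.base x)).v) x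
      (Ms (f.base x)).z (Ms (f.base x)).hz.symm
    exact ⟨(Ms (f.base x)).sq.isoPullback.inv.base t, by
      rw [← Scheme.Hom.comp_apply, IsPullback.isoPullback_inv_fst, ht]⟩
  obtain ⟨h1, h2⟩ := DescLib.toDDFam_full_faithful hcov
  let D := Desc.toDDFam fun y => (Ms y).a
  let hom : D.obj (UX (f := f) U) ⟶ D.obj (CategoryTheory.Over.mk V.hom) :=
    ⟨fun y => (component Ms U θ y).hom, fun T i j x₀ x₁ h v w hw => by
      refine pullback.hom_ext ?_ ?_
      · refine Eq.trans ((((D.obj (CategoryTheory.Over.mk V.hom)).φ x₀ x₁ h w).2)) ?_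
        rw [Category.assoc]
        exact ((congrArg (_ ≫ ·) (CategoryTheory.Over.w (component Ms U θ j).hom)).trans
          ((D.obj (UX (f := f) U)).φ x₀ x₁ h v).2).symm
      · refine (pullback.lift_snd _ _ _).trans ?_
        rw [hw, Category.assoc]
        refine (congrArg (v.1 ≫ ·) (component_snd Ms U θ i)).trans ?_
        rw [Category.assoc]
        refine Eq.trans ?_ (congrArg (_ ≫ ·) (component_snd Ms U θ j)).symm
        exact (comm_component Ms U θ x₀ x₁ h v.1 v.2 _ ((D.obj (UX (f := f) U)).φ x₀ x₁ h v).2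
          (pullback.lift_snd _ _ _)).symm⟩
  haveI : ∀ y, IsIso (hom.hom y) := fun y => inferInstanceAs (IsIso (component Ms U θ y).hom)
  let inv : D.obj (CategoryTheory.Over.mk V.hom) ⟶ D.obj (UX (f := f) U) :=
    ⟨fun y => (component Ms U θ y).inv, fun T i j x₀ x₁ h v w hw => by
      let v' : Desc.Lifts ((D.obj (UX (f := f) U)).obj i) x₀ := w
      have hv' : v.1 = v'.1 ≫ (component Ms U θ i).hom.left := by
        show v.1 = w.1 ≫ _
        rw [hw, Category.assoc, ← CategoryTheory.Over.comp_left, Iso.inv_hom_id]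
        exact (Category.comp_id _).symm
      rw [hom.comm x₀ x₁ h v' v hv', Category.assoc]
      show _ = _ ≫ (component Ms U θ j).hom.left ≫ (component Ms U θ j).inv.left
      rw [← CategoryTheory.Over.comp_left, Iso.hom_inv_id]
      exact (Category.comp_id _).symm⟩
  let I : D.obj (UX (f := f) U) ≅ D.obj (CategoryTheory.Over.mk V.hom) :=
    ⟨hom, inv, Desc.SchDDFam.hom_ext (funext fun y => (component Ms U θ y).hom_inv_id),
      Desc.SchDDFam.hom_ext (funext fun y => (component Ms U θ y).inv_hom_id)⟩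
  haveI : D.Full := h1
  haveI : D.Faithful := h2
  exact ⟨D.preimageIso I⟩

end global

/-- Topological invariance of finite étale covers: essential surjectivity. -/
theorem restrict_essSurj {X Y : Scheme.{u}} (f : X ⟶ Y) [IsIntegralHom f] [UniversallyInjective f]
    [Surjective f] : (FEt.restrict f).EssSurj := by
  refine ⟨fun V => ?_⟩
  have hM : ∀ y : Y, ∃ M : Model f V y, IsAffine M.Y' ∧ ∃ W : Y.Opens, IsAffineOpen W ∧ Set.range M.v.base ⊆ W := by
    intro y
    obtain ⟨M⟩ := exists_model (f := f) V y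
    obtain ⟨W, hW, hyW, -⟩ := exists_isAffineOpen_mem_and_subset (x := y) (U := (⊤ : Y.Opens)) trivial
    obtain ⟨A, hA, hzA, hAW⟩ := exists_isAffineOpen_mem_and_subset (x := M.z) (U := M.v ⁻¹ᵁ W)
      (show M.v.base M.z ∈ W by rw [M.hz]; exact hyW)
    refine ⟨M.comp A.ι inferInstance ⟨M.z, hzA⟩ rfl, hA, W, hW, ?_⟩
    rintro _ ⟨t, rfl⟩
    show (A.ι ≫ M.v).base t ∈ W
    rw [Scheme.Hom.comp_apply]
    exact hAW t.2
  choose Ms hA hW using hM
  haveI : ∀ y, IsFinite ((datum f V Ms).obj y).hom := fun y => (Ms y).E.prop.1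
  obtain ⟨U, ⟨θ⟩⟩ := Groth.Agent.S7482.result (fun y => (Ms y).v)
    (ofArrows_mem _ (fun y => (Ms y).hv) fun y => ⟨y, (Ms y).z, (Ms y).hz⟩) (datum f V Ms)
    (fun y => DescLib.indQA_of_isAffineHom _)
  obtain ⟨hfin, het⟩ := finite_etale_of_models Ms hA hW U θ
  obtain ⟨e⟩ := exists_restrict_iso Ms U θ
  refine ⟨MorphismProperty.Over.mk ⊤ U.hom ⟨hfin, het⟩,
    ⟨MorphismProperty.Over.isoMk ((CategoryTheory.Over.forget X).mapIso e) (CategoryTheory.Over.w e.hom)⟩⟩

end Groth.Agent.Pi1Ext.UH
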