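import Groth.Agent.Pi1Ext.EtaleAtDepth
import Groth.Agent.RegLoc6.Serre
import Groth.Agent.RegLoc6.Normal
import Groth.Agent.ParaFX.Ufd
import Groth.Agent.DimFormula.DedekindFlat
import Groth.Agent.S0249

/-! Purity of the branch locus, algebraic form. -/

set_option autoImplicit false
set_option linter.style.haveILetI false
universe u

open IsLocalRing

namespace Groth.Agent.Pi1Ext.BranchAlg

set_option backward.isDefEq.respectTransparency false
set_option backward.isDefEq.respectTransparency.types false

section Loc

variable {A₀ : Type u} [CommRing A₀] {S : Type u} [CommRing S] [Algebra A₀ S]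
  (p : Ideal A₀) [p.IsPrime]

/-- The semilocalized algebra. -/
abbrev Sloc : Type u := Localization (Algebra.algebraMapSubmonoid S p.primeCompl)

noncomputable instance : Algebra (Localization.AtPrime p) (Sloc (S := S) p) := localizationAlgebra p.primeCompl S

instance : IsScalarTower A₀ (Localization.AtPrime p) (Sloc (S := S) p) :=
  IsScalarTower.of_algebraMap_eq fun a => by
    rw [IsScalarTower.algebraMap_apply A₀ S (Sloc (S := S) p)]
    exact (IsLocalization.map_eq (S := Localization.AtPrime p) (Q := Sloc (S := S) p)
      (show p.primeCompl ≤ (Algebra.algebraMapSubmonoid S p.primeCompl).comap (algebraMap A₀ S) from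
        Submonoid.le_comap_map _) a).symm

instance [Algebra.FiniteType A₀ S] : Algebra.FiniteType (Localization.AtPrime p) (Sloc (S := S) p) :=
  RingHom.finiteType_algebraMap.1 <| by
    have h := RingHom.finiteType_algebraMap.2 (inferInstance : Algebra.FiniteType A₀ S)
    haveI : IsLocalization (Submonoid.map (algebraMap A₀ S) p.primeCompl) (Sloc (S := S) p) :=
      inferInstanceAs (IsLocalization (Algebra.algebraMapSubmonoid S p.primeCompl) (Sloc (S := S) p))
    exact RingHom.finiteType_localizationPreserves (algebraMap A₀ S) p.primeCompl (Localization.AtPrime p)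
      (Sloc (S := S) p) h

variable (s : Ideal S) [s.IsPrime]

theorem disjoint (h : s.comap (algebraMap A₀ S) ≤ p) :
    Disjoint (Algebra.algebraMapSubmonoid S p.primeCompl : Set S) (s : Set S) := by
  rw [Set.disjoint_left]
  rintro _ ⟨a, ha, rfl⟩ hs
  exact ha (h hs)

/-- The local ring is unchanged. -/
noncomputable def locEquiv (t : Ideal (Sloc (S := S) p)) [t.IsPrime]
    (hts : t.comap (algebraMap S (Sloc (S := S) p)) = s) :
    Localization.AtPrime s ≃ₐ[A₀] Localization.AtPrime t := by
  subst hts
  haveI : IsLocalization.AtPrime (Localization.AtPrime t) (t.comap (algebraMap S (Sloc (S := S) p))) :=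
    IsLocalization.isLocalization_isLocalization_atPrime_isLocalization
      (Algebra.algebraMapSubmonoid S p.primeCompl) (Localization.AtPrime t) t
  exact (IsLocalization.algEquiv (t.comap (algebraMap S (Sloc (S := S) p))).primeCompl
    (Localization.AtPrime (t.comap (algebraMap S (Sloc (S := S) p)))) (Localization.AtPrime t)).restrictScalars A₀

variable (t : Ideal (Sloc (S := S) p)) [t.IsPrime] (hts : t.comap (algebraMap S (Sloc (S := S) p)) = s)

include hts in
theorem quasiFiniteAt [Algebra.QuasiFiniteAt A₀ s] : Algebra.QuasiFiniteAt (Localization.AtPrime p) t := by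
  haveI : Algebra.QuasiFinite A₀ (Localization.AtPrime t) :=
    Algebra.QuasiFinite.of_surjective_algHom (locEquiv p s t hts).toAlgHom (locEquiv p s t hts).surjective
  exact Algebra.QuasiFinite.of_restrictScalars A₀ _ _

include hts in
theorem formallyEtale (h : Algebra.IsEtaleAt A₀ s) : Algebra.IsEtaleAt (Localization.AtPrime p) t := by
  haveI : Algebra.FormallyEtale A₀ (Localization.AtPrime t) := Algebra.FormallyEtale.of_equiv (locEquiv p s t hts)
  exact Algebra.FormallyEtale.localization_base p.primeCompl

include hts in
theorem formallyEtale_symm (h : Algebra.IsEtaleAt (Localization.AtPrime p) t) : Algebra.IsEtaleAt A₀ s := by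
  haveI : Algebra.FormallyEtale A₀ (Localization.AtPrime p) := Algebra.FormallyEtale.of_isLocalization p.primeCompl
  haveI : Algebra.FormallyEtale A₀ (Localization.AtPrime t) :=
    Algebra.FormallyEtale.comp A₀ (Localization.AtPrime p) _
  exact Algebra.FormallyEtale.of_equiv (locEquiv p s t hts).symm

include hts in
theorem formallyUnramified (h : Algebra.IsUnramifiedAt A₀ s) :
    Algebra.IsUnramifiedAt (Localization.AtPrime p) t := by
  haveI : Algebra.FormallyUnramified A₀ (Localization.AtPrime t) :=
    Algebra.FormallyUnramified.of_equiv (locEquiv p s t hts)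
  exact Algebra.FormallyUnramified.of_restrictScalars A₀ _ _

theorem exists_over (hsp : s.comap (algebraMap A₀ S) = p) :
    ∃ (t : Ideal (Sloc (S := S) p)) (_ : t.IsPrime), t.comap (algebraMap S (Sloc (S := S) p)) = s ∧
      t.comap (algebraMap (Localization.AtPrime p) (Sloc (S := S) p)) = maximalIdeal (Localization.AtPrime p) := by
  have hd := disjoint p s hsp.le
  have hp := IsLocalization.isPrime_of_isPrime_disjoint (Algebra.algebraMapSubmonoid S p.primeCompl)
    (Sloc (S := S) p) s inferInstance hd
  have hc := IsLocalization.comap_map_of_isPrime_disjoint (Algebra.algebraMapSubmonoid S p.primeCompl)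
    (Sloc (S := S) p) inferInstance hd
  refine ⟨_, hp, hc, ?_⟩
  refine ((maximalIdeal.isMaximal _).eq_of_le (Ideal.IsPrime.ne_top inferInstance) ?_).symm
  rw [← Localization.AtPrime.map_eq_maximalIdeal, Ideal.map_le_iff_le_comap, Ideal.comap_comap,
    ← IsScalarTower.algebraMap_eq, IsScalarTower.algebraMap_eq A₀ S (Sloc (S := S) p), ← Ideal.comap_comap]
  exact ((congrArg (Ideal.comap (algebraMap A₀ S)) hc).trans hsp).ge

end Loc

/-- Étale from étaleness at the generisations, at a normal point of dimension at least two. -/
theorem isEtaleAt_of_normal {A₀ S : Type u} [CommRing A₀] [CommRing S] [Algebra A₀ S] [Algebra.FiniteType A₀ S]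
    (s : Ideal S) [s.IsPrime] [Algebra.QuasiFiniteAt A₀ s] (p : Ideal A₀) [p.IsPrime]
    [IsRegularLocalRing (Localization.AtPrime p)] (hsp : s.comap (algebraMap A₀ S) = p)
    [IsDomain (Localization.AtPrime s)] [IsIntegrallyClosed (Localization.AtPrime s)]
    (h2 : (2 : WithBot ℕ∞) ≤ ringKrullDim (Localization.AtPrime s))
    (h : ∀ (t : Ideal S) (_ : t.IsPrime), t < s → Algebra.IsEtaleAt A₀ t) : Algebra.IsEtaleAt A₀ s := by
  obtain ⟨t, ht, hts, htm⟩ := exists_over p s hsp
  haveI := quasiFiniteAt p s t hts
  let e := locEquiv p s t hts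
  haveI : IsDomain (Localization.AtPrime t) := e.symm.toMulEquiv.isDomain (Localization.AtPrime s)
  haveI : IsIntegrallyClosed (Localization.AtPrime t) := IsIntegrallyClosed.of_equiv e.toRingEquiv
  haveI : IsNoetherianRing (Sloc (S := S) p) :=
    Algebra.FiniteType.isNoetherianRing (Localization.AtPrime p) (Sloc (S := S) p)
  have h2' : (2 : WithBot ℕ∞) ≤ ringKrullDim (Localization.AtPrime t) := by
    rwa [← ringKrullDim_eq_of_ringEquiv e.toRingEquiv]
  refine formallyEtale_symm p s t hts (EtaleAtDepth.isEtaleAt_of_generisations t htm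
    (h2'.trans (EtaleAtDepth.ringKrullDim_le t htm))
    (Groth.Agent.ParaFX.two_le_depth_of_normal _ h2') fun t' ht' hlt => ?_)
  haveI := ht'
  haveI : (t'.comap (algebraMap S (Sloc (S := S) p))).IsPrime := Ideal.comap_isPrime _ _
  refine formallyEtale p _ t' rfl (h _ inferInstance (lt_of_le_of_ne (hts ▸ Ideal.comap_mono hlt.le) fun he => ?_))
  refine hlt.ne ?_
  have := congrArg (Ideal.map (algebraMap S (Sloc (S := S) p))) (he.trans hts.symm)
  rwa [IsLocalization.map_comap (Algebra.algebraMapSubmonoid S p.primeCompl),
    IsLocalization.map_comap (Algebra.algebraMapSubmonoid S p.primeCompl)] at this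

/-- Heights over a normal base of the same dimension. -/
theorem height_comap_eq {A : Type u} [CommRing A] [IsRegularLocalRing A] {S : Type u} [CommRing S]
    [Algebra A S] [Algebra.FiniteType A S] (q : Ideal S) [q.IsPrime] [Algebra.QuasiFiniteAt A q]
    [IsDomain (Localization.AtPrime q)]
    (hdim : ringKrullDim (Localization.AtPrime q) = ringKrullDim A) :
    Function.Injective (algebraMap A (Localization.AtPrime q)) ∧
      ∀ (P : Ideal (Localization.AtPrime q)) [P.IsPrime],
        (P.comap (algebraMap A (Localization.AtPrime q))).height = P.height := by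
  haveI := Groth.Agent.RegLoc6.isDomain_of_isRegularLocalRing A
  haveI := Groth.Agent.RegLoc6.isIntegrallyClosed_of_isRegularLocalRing A
  let C := Localization.AtPrime q
  obtain ⟨S', hS', r, hrq, hbij⟩ :=
    Algebra.QuasiFiniteAt.exists_fg_and_exists_notMem_and_awayMap_bijective (R := A) q
  let φ : S →ₐ[A] C := IsScalarTower.toAlgHom A S C
  let B : Subalgebra A C := S'.map φ
  haveI : Module.Finite A B := ⟨(Submodule.fg_top _).mpr (by
    show (Subalgebra.toSubmodule B).FG
    rw [show Subalgebra.toSubmodule B = (Subalgebra.toSubmodule S').map φ.toLinearMap from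
      Subalgebra.map_toSubmodule ..]
    exact hS'.map _)⟩
  have hu : ∀ u : S, ∃ N, ∃ a : S', (r : S) ^ N * u = a := fun u => by
    obtain ⟨a, m, e⟩ := Localization.awayMap_surjective_iff.mp hbij.2 u
    exact ⟨m, a, e.symm⟩
  let n : Ideal B := (maximalIdeal C).comap B.val
  haveI : n.IsPrime := Ideal.comap_isPrime _ _
  have hrC : IsUnit (algebraMap S C (r : S)) := IsLocalization.map_units C (⟨r, hrq⟩ : q.primeCompl)
  haveI : IsLocalization.AtPrime C n := by
    refine ⟨fun b => ?_, fun c => ?_, fun {b b'} he => ⟨1, by rw [Subtype.val_injective he]⟩⟩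
    · by_contra hb
      exact b.2 hb
    · obtain ⟨⟨x, u, hu'⟩, hxu⟩ := IsLocalization.surj q.primeCompl c
      obtain ⟨N, a, ha⟩ := hu x
      obtain ⟨M, b, hb⟩ := hu u
      let x' : B := ⟨φ ((r : S) ^ (M + N) * x), ⟨(r : S') ^ M * a, S'.mul_mem (S'.pow_mem r.2 M) a.2, by
        show φ ((r : S) ^ M * a) = φ _
        rw [← ha, pow_add, mul_assoc]⟩⟩
      let u' : B := ⟨φ ((r : S) ^ (M + N) * u), ⟨(r : S') ^ N * b, S'.mul_mem (S'.pow_mem r.2 N) b.2, by
        show φ ((r : S) ^ N * b) = φ _
        rw [← hb, pow_add, mul_left_comm, mul_assoc]⟩⟩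
      have hunit : IsUnit (algebraMap S C ((r : S) ^ (M + N) * u)) := by
        rw [map_mul, map_pow]
        exact (hrC.pow _).mul (IsLocalization.map_units C (⟨u, hu'⟩ : q.primeCompl))
      refine ⟨(x', ⟨u', fun hmem => (show algebraMap S C ((r : S) ^ (M + N) * u) ∈ maximalIdeal C from hmem) hunit⟩), ?_⟩
      show c * algebraMap S C ((r : S) ^ (M + N) * u) = algebraMap S C ((r : S) ^ (M + N) * x)
      rw [map_mul, map_mul, ← hxu]; ring
  have hinjAB : Function.Injective (algebraMap A B) := by
    rw [injective_iff_map_eq_zero]
    intro k hk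
    by_contra hk0
    let g : A ⧸ Ideal.span {k} →+* B := Ideal.Quotient.lift _ (algebraMap A B) fun a ha => by
      obtain ⟨c, rfl⟩ := Ideal.mem_span_singleton'.1 ha
      rw [map_mul, hk, mul_zero]
    have hmono : StrictMono (PrimeSpectrum.comap g) := fun P P' hlt => by
      refine lt_of_le_of_ne (Ideal.comap_mono hlt.le) fun he => ?_
      refine (Ideal.IsIntegral.comap_lt_comap (R := A) (A := B) (I := P.asIdeal) (J := P'.asIdeal) hlt).ne ?_
      have h' := congrArg (fun Q => Ideal.comap (Ideal.Quotient.mk (Ideal.span {k})) Q.asIdeal) he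
      simp only [PrimeSpectrum.comap_asIdeal, Ideal.comap_comap] at h'
      exact h'
    have h1 : ringKrullDim B ≤ ringKrullDim (A ⧸ Ideal.span {k}) := Order.krullDim_le_of_strictMono _ hmono
    have h2 := ringKrullDim_quotient_succ_le_of_nonZeroDivisor (mem_nonZeroDivisors_of_ne_zero hk0)
    have h3 : ringKrullDim C ≤ ringKrullDim B := by
      rw [IsLocalization.AtPrime.ringKrullDim_eq_height n C]
      exact Ideal.height_le_ringKrullDim_of_ne_top (Ideal.IsPrime.ne_top inferInstance)
    have h4 : ringKrullDim A + 1 ≤ ringKrullDim A :=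
      (add_le_add (hdim.ge.trans (h3.trans h1)) le_rfl).trans h2
    obtain ⟨d, hd⟩ := WithTop.ne_top_iff_exists.1
      (Ideal.height_ne_top (I := maximalIdeal A) (Ideal.IsPrime.ne_top inferInstance))
    rw [← maximalIdeal_height_eq_ringKrullDim, ← hd] at h4
    exact Nat.not_succ_le_self d (WithTop.coe_le_coe.1 (WithBot.coe_le_coe.1 h4))
  haveI : FaithfulSMul A B := (faithfulSMul_iff_algebraMap_injective A B).2 hinjAB
  refine ⟨fun a a' h => hinjAB (Subtype.ext h), fun P _ => ?_⟩
  haveI : (P.comap (algebraMap B C)).IsPrime := Ideal.comap_isPrime _ _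
  have hP : (P.comap (algebraMap B C)).height = P.height := IsLocalization.height_under n.primeCompl P
  rw [← hP, show P.comap (algebraMap A C) = (P.comap (algebraMap B C)).comap (algebraMap A B) by
    rw [Ideal.comap_comap, ← IsScalarTower.algebraMap_eq]]
  set Q := P.comap (algebraMap B C)
  haveI : Q.LiesOver (Q.comap (algebraMap A B)) := ⟨rfl⟩
  haveI : (Q.comap (algebraMap A B)).IsPrime := Ideal.comap_isPrime _ _
  refine le_antisymm ?_ ?_
  · haveI : IsNoetherianRing B := IsNoetherianRing.of_finite A B
    rw [Ideal.height_eq_height_add_of_liesOver_of_hasGoingDown (Q.comap (algebraMap A B)) Q]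
    exact le_self_add
  · rw [PrimeSpectrum.height_eq_orderHeight ⟨Q, inferInstance⟩,
      PrimeSpectrum.height_eq_orderHeight ⟨Q.comap (algebraMap A B), inferInstance⟩]
    exact Order.height_le_height_apply_of_strictMono (PrimeSpectrum.comap (algebraMap A B))
      (fun P P' h => Ideal.IsIntegral.comap_lt_comap h) _

/-- A generisation of an étale point is étale. -/
theorem isEtaleAt_of_le {A S : Type u} [CommRing A] [CommRing S] [Algebra A S] [Algebra.FinitePresentation A S]
    {t s : Ideal S} [t.IsPrime] [s.IsPrime] (h : t ≤ s) (hs : Algebra.IsEtaleAt A s) : Algebra.IsEtaleAt A t :=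
  (Algebra.isOpen_etaleLocus (R := A) (A := S)).stableUnderGeneralization
    (x := ⟨s, inferInstance⟩) (y := ⟨t, inferInstance⟩)
    ((PrimeSpectrum.le_iff_specializes ⟨t, inferInstance⟩ ⟨s, inferInstance⟩).1 h) hs

/-- Purity of the branch locus over a regular local ring. -/
theorem isEtaleAt_local {A : Type u} [CommRing A] [IsRegularLocalRing A] {S : Type u} [CommRing S]
    [Algebra A S] [Algebra.FiniteType A S] (q : Ideal S) [q.IsPrime] [Algebra.QuasiFiniteAt A q]
    [IsDomain (Localization.AtPrime q)] [IsIntegrallyClosed (Localization.AtPrime q)]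
    (hdim : ringKrullDim (Localization.AtPrime q) = ringKrullDim A)
    (h1 : (1 : WithBot ℕ∞) ≤ ringKrullDim (Localization.AtPrime q))
    (hunr : ∀ (t : Ideal S) (_ : t.IsPrime), t ≤ q → t.height = 1 → Algebra.IsUnramifiedAt A t) :
    Algebra.IsEtaleAt A q := by
  haveI := Groth.Agent.RegLoc6.isDomain_of_isRegularLocalRing A
  haveI : IsNoetherianRing S := Algebra.FiniteType.isNoetherianRing A S
  haveI : Algebra.FinitePresentation A S := Algebra.FinitePresentation.of_finiteType.mp inferInstance
  obtain ⟨hinj, hht⟩ := height_comap_eq q hdim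
  let C := Localization.AtPrime q
  haveI : IsNoetherianRing C := IsLocalization.isNoetherianRing q.primeCompl C inferInstance
  suffices H : ∀ (n : ℕ) (P : Ideal C) [P.IsPrime], P.height ≤ n →
      Algebra.IsEtaleAt A (P.comap (algebraMap S C)) by
    obtain ⟨n, hn⟩ := WithTop.ne_top_iff_exists.1
      (Ideal.height_ne_top (I := maximalIdeal C) (Ideal.IsPrime.ne_top inferInstance))
    convert H n (maximalIdeal C) hn.ge
    exact Localization.AtPrime.under_maximalIdeal.symm
  have H1 : ∀ (P : Ideal C) [P.IsPrime] [(P.comap (algebraMap S C)).IsPrime], P.height = 1 →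
      Algebra.IsEtaleAt A (P.comap (algebraMap S C)) := by
    intro P _ _ hone
    let t : Ideal S := P.comap (algebraMap S C)
    have htq : t ≤ q := (Ideal.comap_mono (le_maximalIdeal (Ideal.IsPrime.ne_top inferInstance))).trans_eq
      Localization.AtPrime.under_maximalIdeal
    let p : Ideal A := t.comap (algebraMap A S)
    haveI : p.IsPrime := Ideal.comap_isPrime _ _
    haveI : t.LiesOver p := ⟨rfl⟩
    haveI := Groth.Agent.RegLoc6.isRegularLocalRing_localization A p
    have hp1 : p.height = 1 := by
      rw [← hone, ← hht P]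
      show (Ideal.comap (algebraMap A S) (Ideal.comap (algebraMap S C) P)).height = _
      rw [Ideal.comap_comap, ← IsScalarTower.algebraMap_eq]
    haveI : IsPrincipalIdealRing (Localization.AtPrime p) :=
      Groth.Agent.DimFormula.isPrincipalIdealRing_of_regular_dim_le_one
        (by rw [IsLocalization.AtPrime.ringKrullDim_eq_height p, hp1]; rfl)
    haveI : IsDomain (Localization.AtPrime p) := Groth.Agent.RegLoc6.isDomain_of_isRegularLocalRing _
    haveI : IsLocalization.AtPrime (Localization.AtPrime P) t :=
      IsLocalization.isLocalization_isLocalization_atPrime_isLocalization q.primeCompl (Localization.AtPrime P) P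
    let e := IsLocalization.algEquiv t.primeCompl (Localization.AtPrime t) (Localization.AtPrime P)
    haveI : IsDomain (Localization.AtPrime t) := e.toMulEquiv.isDomain (Localization.AtPrime P)
    letI := Localization.AtPrime.algebraOfLiesOver p t
    haveI : Algebra.IsUnramifiedAt A t :=
      hunr t inferInstance htq ((IsLocalization.height_under q.primeCompl P).trans hone)
    haveI : Algebra.FormallyUnramified (Localization.AtPrime p) (Localization.AtPrime t) :=
      Algebra.FormallyUnramified.of_restrictScalars A _ _
    have hinjt : Function.Injective (algebraMap A (Localization.AtPrime t)) := by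
      rw [injective_iff_map_eq_zero]
      intro a ha
      have h' : algebraMap A (Localization.AtPrime P) a = 0 := by
        rw [← (e.restrictScalars A).commutes a, ha, map_zero]
      rw [IsScalarTower.algebraMap_apply A C (Localization.AtPrime P)] at h'
      exact hinj (((IsLocalization.injective (Localization.AtPrime P) P.primeCompl_le_nonZeroDivisors)
        (h'.trans (map_zero _).symm)).trans (map_zero _).symm)
    haveI : Module.IsTorsionFree (Localization.AtPrime p) (Localization.AtPrime t) := by
      rw [Module.isTorsionFree_iff_algebraMap_injective, injective_iff_map_eq_zero]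
      intro x hx
      obtain ⟨⟨a, u⟩, hau⟩ := IsLocalization.surj p.primeCompl x
      have : algebraMap A (Localization.AtPrime t) a = 0 := by
        rw [IsScalarTower.algebraMap_apply A (Localization.AtPrime p) (Localization.AtPrime t), ← hau,
          map_mul, hx, zero_mul]
      have ha : a = 0 := hinjt (this.trans (map_zero _).symm)
      rw [ha, map_zero] at hau
      exact (mul_eq_zero.1 hau).resolve_right (IsLocalization.map_units _ u).ne_zero
    haveI : Module.Flat (Localization.AtPrime p) (Localization.AtPrime t) := inferInstance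
    haveI : IsLocalHom (algebraMap (Localization.AtPrime p) (Localization.AtPrime t)) := by
      rw [Localization.AtPrime.IsLiesOverAlgebra.algebraMap_eq]; exact Localization.isLocalHom_localRingHom _ _ _ _
    haveI : Algebra.EssFiniteType (Localization.AtPrime p) (Localization.AtPrime t) := .of_comp A _ _
    haveI : IsNoetherianRing (Localization.AtPrime p) := inferInstance
    haveI : Algebra.FormallyEtale A (Localization.AtPrime p) := Algebra.FormallyEtale.of_isLocalization p.primeCompl
    haveI := Groth.Agent.EtLoc7.formallyEtale_of_formallyUnramified (Localization.AtPrime p) (Localization.AtPrime t)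
    exact Algebra.FormallyEtale.comp A (Localization.AtPrime p) _
  intro n
  induction n using Nat.strong_induction_on with
  | _ n ih =>
    intro P _ hPn
    let t : Ideal S := P.comap (algebraMap S C)
    have htq : t ≤ q := (Ideal.comap_mono (le_maximalIdeal (Ideal.IsPrime.ne_top inferInstance))).trans_eq
      Localization.AtPrime.under_maximalIdeal
    have htht : t.height = P.height := IsLocalization.height_under q.primeCompl P
    let p : Ideal A := t.comap (algebraMap A S)
    haveI : (P.comap (algebraMap S C)).IsPrime := Ideal.comap_isPrime _ _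
    haveI : p.IsPrime := Ideal.comap_isPrime _ _
    haveI : IsRegularLocalRing (Localization.AtPrime p) := Groth.Agent.RegLoc6.isRegularLocalRing_localization A p
    haveI : t.LiesOver p := ⟨rfl⟩
    haveI : Algebra.QuasiFiniteAt A t := Algebra.QuasiFiniteAt.of_le htq
    have hdimt : ringKrullDim (Localization.AtPrime t) = (P.height : WithBot ℕ∞) := by
      rw [IsLocalization.AtPrime.ringKrullDim_eq_height t, htht]
    haveI : IsLocalization.AtPrime (Localization.AtPrime P) t :=
      IsLocalization.isLocalization_isLocalization_atPrime_isLocalization q.primeCompl (Localization.AtPrime P) P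
    let e := IsLocalization.algEquiv t.primeCompl (Localization.AtPrime t) (Localization.AtPrime P)
    haveI : IsDomain (Localization.AtPrime t) := e.toMulEquiv.isDomain (Localization.AtPrime P)
    haveI : IsIntegrallyClosed (Localization.AtPrime P) :=
      isIntegrallyClosed_of_isLocalization _ P.primeCompl P.primeCompl_le_nonZeroDivisors
    haveI : IsIntegrallyClosed (Localization.AtPrime t) := IsIntegrallyClosed.of_equiv e.symm.toRingEquiv
    rcases (show P.height = 0 ∨ P.height = 1 ∨ 2 ≤ P.height by
      obtain ⟨k, hk⟩ := WithTop.ne_top_iff_exists.1 (Ideal.height_ne_top (I := P) (Ideal.IsPrime.ne_top inferInstance))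
      rw [← hk]
      rcases k with _ | _ | k
      · exact Or.inl rfl
      · exact Or.inr (Or.inl rfl)
      · exact Or.inr (Or.inr (Nat.ofNat_le_cast.2 (Nat.le_add_left 2 k)))) with h0 | hone | htwo
    · -- a generisation of a point of height one
      obtain ⟨P₁, hP₁, -, hP1⟩ := Groth.Agent.S0249.result C h1 0 (zero_mem _)
      haveI := hP₁
      have hb : P = ⊥ := by
        by_contra hb
        have : (⊥ : Ideal C).height < P.height :=
          Ideal.height_strict_mono_of_isPrime_of_isPrime (bot_lt_iff_ne_bot.2 hb)
        rw [h0] at this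
        exact not_lt_zero this
      have hle : t ≤ P₁.comap (algebraMap S C) := Ideal.comap_mono (hb ▸ bot_le)
      haveI : (P₁.comap (algebraMap S C)).IsPrime := Ideal.comap_isPrime _ _
      exact isEtaleAt_of_le hle (H1 P₁ hP1)
    · exact H1 P hone
    · refine isEtaleAt_of_normal t p rfl ?_ fun t' ht' hlt => ?_
      · rw [hdimt]; exact WithBot.coe_le_coe.2 htwo
      · haveI := ht'
        have hd := Set.disjoint_left.2 fun x (hx : x ∈ (q.primeCompl : Set S)) hxt => hx (htq (hlt.le hxt))
        haveI := IsLocalization.isPrime_of_isPrime_disjoint q.primeCompl C t' inferInstance hd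
        have hc : (t'.map (algebraMap S C)).comap (algebraMap S C) = t' :=
          IsLocalization.comap_map_of_isPrime_disjoint q.primeCompl C inferInstance hd
        have hlt' : t'.map (algebraMap S C) < P := by
          refine lt_of_le_of_ne ((Ideal.map_mono hlt.le).trans Ideal.map_comap_le) fun he => hlt.ne ?_
          rw [← hc, he]
        have hlt2 := (Ideal.height_strict_mono_of_isPrime_of_isPrime hlt').trans_le hPn
        obtain ⟨k, hk⟩ := WithTop.ne_top_iff_exists.1 (ne_top_of_lt hlt2)
        have := ih k (by rw [← hk] at hlt2; exact WithTop.coe_lt_coe.1 hlt2) (t'.map (algebraMap S C)) hk.ge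
        simpa only [hc] using this

end Groth.Agent.Pi1Ext.BranchAlg
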