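import Groth.Agent.Pi1Ext.RegPurity
import Groth.Agent.Pi1X.FEtGalois
import Mathlib.AlgebraicGeometry.ZariskisMainTheorem
import Mathlib.AlgebraicGeometry.Morphisms.Etale

/-!
Finite étale covers of the punctured spectrum extend over a regular local ring.
-/

set_option autoImplicit false
universe u

open CategoryTheory CategoryTheory.Limits AlgebraicGeometry TensorProduct IsLocalRing

noncomputable section

namespace Groth.Agent.Pi1Ext.PuritySch

open RegPurity

set_option backward.isDefEq.respectTransparency false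
set_option backward.isDefEq.respectTransparency.types false

variable {A : Type u} [CommRing A]

theorem etAway_of_etale {R : Type u} [CommRing R] [Algebra A R] (g : A)
    [Algebra.Etale (Localization.Away g) (Localization.Away g ⊗[A] R)] : EtAway A R g := by
  let Ag := Localization.Away g
  haveI : Algebra.Etale A Ag := Algebra.Etale.of_isLocalizationAway g
  haveI : Algebra.Etale A (Ag ⊗[A] R) := Algebra.Etale.comp A Ag _
  haveI : Algebra.Etale A (R ⊗[A] Ag) := Algebra.Etale.of_equiv (Algebra.TensorProduct.comm A Ag R)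
  haveI : IsLocalization.Away (algebraMap A R g) (R ⊗[A] Ag) := by
    have := (inferInstance : IsLocalization (Algebra.algebraMapSubmonoid R (Submonoid.powers g)) (R ⊗[A] Ag))
    rwa [Algebra.algebraMapSubmonoid_powers] at this
  exact Algebra.Etale.of_equiv ((IsLocalization.algEquiv (Submonoid.powers (algebraMap A R g))
    (R ⊗[A] Ag) (Localization.Away (algebraMap A R g))).restrictScalars A)

theorem etAway_of_isoAway {C B : Type u} [CommRing C] [CommRing B] [Algebra A C] [Algebra A B]
    {f : C →ₐ[A] B} {g : A} (hf : IsoAway f g) (hg : EtAway A B g) : EtAway A C g := by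
  let Bg := Localization.Away (algebraMap A B g)
  letI := ((algebraMap B Bg).comp f.toRingHom).toAlgebra
  haveI : IsScalarTower A C Bg := IsScalarTower.of_algebraMap_eq fun a => by
    rw [IsScalarTower.algebraMap_apply A B Bg, RingHom.algebraMap_toAlgebra]
    exact congrArg (algebraMap B Bg) (f.commutes a).symm
  haveI := hf.isLocalization
  haveI : Algebra.Etale A Bg := hg
  exact Algebra.Etale.of_equiv ((IsLocalization.algEquiv (Submonoid.powers (algebraMap A C g))
    Bg (Localization.Away (algebraMap A C g))).restrictScalars A)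

/-- `Spec` of an algebra map. -/
abbrev sp (A : Type u) [CommRing A] (R : Type u) [CommRing R] [Algebra A R] :
    Spec (CommRingCat.of R) ⟶ Spec (CommRingCat.of A) :=
  Spec.map (CommRingCat.ofHom (algebraMap A R))

theorem fet_sp_iff {R : Type u} [CommRing R] [Algebra A R] :
    FEt.prop (sp A R) ↔ Module.Finite A R ∧ Algebra.Etale A R := by
  show (IsFinite (sp A R) ∧ Etale (sp A R)) ↔ _
  refine and_congr ?_ ?_
  · exact (IsFinite.SpecMap_iff _).trans RingHom.finite_algebraMap
  · exact (HasRingHomProperty.Spec_iff (P := @Etale)).trans RingHom.etale_algebraMap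

variable [IsLocalRing A]

/-- The standard open in the punctured spectrum. -/
def ρ {g : A} (hg : g ∈ maximalIdeal A) :
    Spec (CommRingCat.of (Localization.Away g)) ⟶ (FEt.puncturedSpec A : Scheme.{u}) :=
  IsOpenImmersion.lift (FEt.puncturedSpec A).ι (sp A (Localization.Away g)) (by
    rw [Scheme.Opens.range_ι]
    rintro _ ⟨q, rfl⟩ h
    have h' : PrimeSpectrum.comap (algebraMap A (Localization.Away g)) q = IsLocalRing.closedPoint A := h
    have h2 : g ∈ (PrimeSpectrum.comap (algebraMap A (Localization.Away g)) q).asIdeal := by rw [h']; exact hg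
    exact q.2.ne_top (Ideal.eq_top_of_isUnit_mem _ h2 (IsLocalization.Away.algebraMap_isUnit g)))

theorem ρ_ι {g : A} (hg : g ∈ maximalIdeal A) : ρ hg ≫ (FEt.puncturedSpec A).ι = sp A (Localization.Away g) :=
  IsOpenImmersion.lift_fac _ _ _

/-- The restriction of `Spec R` to the punctured spectrum. -/
abbrev rest (A : Type u) [CommRing A] [IsLocalRing A] (R : Type u) [CommRing R] [Algebra A R] :
    pullback (sp A R) (FEt.puncturedSpec A).ι ⟶ (FEt.puncturedSpec A : Scheme.{u}) :=
  pullback.snd _ _

theorem prop_tensor_iff (R : Type u) [CommRing R] [Algebra A R] {g : A} (hg : g ∈ maximalIdeal A) :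
    FEt.prop (pullback.snd (rest A R) (ρ hg)) ↔
      Module.Finite (Localization.Away g) (Localization.Away g ⊗[A] R) ∧
        Algebra.Etale (Localization.Away g) (Localization.Away g ⊗[A] R) := by
  let Ag := Localization.Away g
  have e1 : IsPullback (pullback.fst (rest A R) (ρ hg) ≫ pullback.fst (sp A R) (FEt.puncturedSpec A).ι)
      (pullback.snd (rest A R) (ρ hg)) (sp A R) (sp A Ag) := by
    have := (IsPullback.of_hasPullback (rest A R) (ρ hg)).paste_horiz
      (IsPullback.of_hasPullback (sp A R) (FEt.puncturedSpec A).ι)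
    rwa [ρ_ι] at this
  rw [← e1.flip.isoPullback_hom_fst, ← pullbackSpecIso_hom_fst' A Ag R,
    MorphismProperty.cancel_left_of_respectsIso (P := FEt.prop),
    MorphismProperty.cancel_left_of_respectsIso (P := FEt.prop)]
  exact fet_sp_iff

theorem exists_mem_max (y : (FEt.puncturedSpec A : Scheme.{u})) :
    ∃ g ∈ maximalIdeal A, g ∉ ((FEt.puncturedSpec A).ι y : PrimeSpectrum A).asIdeal := by
  refine SetLike.not_le_iff_exists.1 fun hle => ?_
  have h : ((FEt.puncturedSpec A).ι y : PrimeSpectrum A) ≠ IsLocalRing.closedPoint A := y.2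
  exact h (PrimeSpectrum.ext ((IsLocalRing.maximalIdeal.isMaximal A).eq_of_le (Ideal.IsPrime.ne_top inferInstance) hle).symm)

variable (A) in
/-- The cover of the punctured spectrum by standard opens. -/
def cover : Scheme.OpenCover.{u} (FEt.puncturedSpec A : Scheme.{u}) :=
  Scheme.Cover.mkOfCovers {g : A // g ∈ maximalIdeal A}
    (fun g => Spec (CommRingCat.of (Localization.Away g.1))) (fun g => ρ g.2)
    (fun y => by
      obtain ⟨g, hg, hgy⟩ := exists_mem_max y
      have hy : ((FEt.puncturedSpec A).ι y : PrimeSpectrum A) ∈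
          Set.range (PrimeSpectrum.comap (algebraMap A (Localization.Away g))) := by
        rw [PrimeSpectrum.localization_away_comap_range (Localization.Away g) g]
        exact hgy
      obtain ⟨q, hq⟩ := hy
      refine ⟨⟨g, hg⟩, q, (FEt.puncturedSpec A).ι.isOpenEmbedding.injective ?_⟩
      rw [← Scheme.Hom.comp_apply, ρ_ι]
      exact hq)
    (fun g => by
      haveI : IsOpenImmersion (sp A (Localization.Away g.1)) := IsOpenImmersion.of_isLocalization g.1
      haveI : IsOpenImmersion (ρ g.2 ≫ (FEt.puncturedSpec A).ι) := by rw [ρ_ι]; infer_instance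
      exact IsOpenImmersion.of_comp _ (FEt.puncturedSpec A).ι)

theorem prop_rest (R : Type u) [CommRing R] [Algebra A R] [Module.Finite A R] (hR : EtOff A R) :
    FEt.prop (rest A R) := by
  refine ⟨?_, ?_⟩
  · haveI : IsFinite (sp A R) := (IsFinite.SpecMap_iff _).2 (RingHom.finite_algebraMap.2 inferInstance)
    exact MorphismProperty.pullback_snd _ _ inferInstance
  · refine IsZariskiLocalAtTarget.of_openCover (P := @Etale) (cover A) fun g => ?_
    exact ((prop_tensor_iff R g.2).2 ⟨inferInstance,
      etale_tensor_of_etAway (hR g.1 g.2) _ (IsLocalization.Away.algebraMap_isUnit g.1)⟩).2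

/-- The cover of the punctured spectrum given by an algebra. -/
abbrev obj (R : Type u) [CommRing R] [Algebra A R] (hR : FEt.prop (rest A R)) :
    FEt.Cat (FEt.puncturedSpec A : Scheme.{u}) :=
  MorphismProperty.Over.mk ⊤ (rest A R) hR

theorem isUnit_of_point {Ω : Type u} [Field Ω] (ξ : Spec (CommRingCat.of Ω) ⟶ (FEt.puncturedSpec A : Scheme.{u}))
    {φ : CommRingCat.of A ⟶ CommRingCat.of Ω} (hφ : Spec.map φ = ξ ≫ (FEt.puncturedSpec A).ι) :
    ∃ g ∈ maximalIdeal A, IsUnit (φ.hom g) := by
  obtain ⟨g, hg, hgy⟩ := exists_mem_max (ξ.base (IsLocalRing.closedPoint Ω))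
  refine ⟨g, hg, isUnit_iff_ne_zero.2 fun h0 => hgy ?_⟩
  rw [← Scheme.Hom.comp_apply, ← hφ]
  show φ.hom g ∈ (IsLocalRing.closedPoint Ω).asIdeal
  rw [h0]
  exact zero_mem _

variable {C B : Type u} [CommRing C] [CommRing B] [Algebra A C] [Algebra A B]

/-- The map of restrictions induced by an algebra map. -/
def restMap (f : C →ₐ[A] B) :
    pullback (sp A B) (FEt.puncturedSpec A).ι ⟶ pullback (sp A C) (FEt.puncturedSpec A).ι :=
  pullback.lift (pullback.fst _ _ ≫ Spec.map (CommRingCat.ofHom f.toRingHom)) (pullback.snd _ _) (by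
    rw [Category.assoc, ← pullback.condition]
    congr 1
    rw [← Spec.map_comp]
    congr 1
    ext a
    exact f.commutes a)

theorem nonempty_iso (f : C →ₐ[A] B) (hf : ∀ g ∈ maximalIdeal A, IsoAway f g)
    (hC : FEt.prop (rest A C)) (hB : FEt.prop (rest A B)) : Nonempty (obj B hB ≅ obj C hC) := by
  let ψ : obj B hB ⟶ obj C hC := MorphismProperty.Over.homMk (restMap f) (pullback.lift_snd _ _ _)
  haveI : IsIso ψ := by
    refine Pi1X.isIso_of_fiber_bijective ψ fun Z _ ⟨x, hx⟩ => ?_
    obtain ⟨Ω, iF, _, ξ, hξ⟩ := Pi1X.exists_geometric_point x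
    refine ⟨Ω, iF, inferInstance, ξ, hξ ▸ hx, ?_⟩
    obtain ⟨φ, hφ⟩ : ∃ φ : CommRingCat.of A ⟶ CommRingCat.of Ω, Spec.map φ = ξ ≫ (FEt.puncturedSpec A).ι :=
      ⟨Spec.preimage _, Spec.map_preimage _⟩
    obtain ⟨g, hg, hu⟩ := isUnit_of_point ξ hφ
    letI : Algebra A Ω := φ.hom.toAlgebra
    -- points are algebra maps
    have hpt : ∀ (R : Type u) [CommRing R] [Algebra A R] (s : Spec (CommRingCat.of Ω) ⟶ pullback (sp A R) (FEt.puncturedSpec A).ι),
        s ≫ pullback.snd _ _ = ξ → ∃ β : R →ₐ[A] Ω, Spec.map (CommRingCat.ofHom β.toRingHom) = s ≫ pullback.fst _ _ := by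
      intro R _ _ s hs
      have h1 : CommRingCat.ofHom (algebraMap A R) ≫ Spec.preimage (s ≫ pullback.fst _ _) = φ :=
        Spec.map_injective (by
          rw [Spec.map_comp, Spec.map_preimage, hφ, ← hs, Category.assoc, Category.assoc, pullback.condition])
      refine ⟨{ (Spec.preimage (s ≫ pullback.fst (sp A R) (FEt.puncturedSpec A).ι)).hom with
        commutes' := fun a => ConcreteCategory.congr_hom h1 a }, ?_⟩
      exact Spec.map_preimage _
    constructor
    · intro s t hst
      obtain ⟨β, hβ⟩ := hpt B s.1 s.2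
      obtain ⟨γ, hγ⟩ := hpt B t.1 t.2
      have hc : ∀ c, β (f c) = γ (f c) := fun c => by
        have h1 : Spec.map (CommRingCat.ofHom (β.comp f).toRingHom) = Spec.map (CommRingCat.ofHom (γ.comp f).toRingHom) := by
          have h2 : (s.1 ≫ restMap f) ≫ pullback.fst _ _ = (t.1 ≫ restMap f) ≫ pullback.fst _ _ :=
            congrArg (· ≫ pullback.fst _ _) (congrArg Subtype.val hst)
          rw [Category.assoc, Category.assoc, restMap, pullback.lift_fst, ← Category.assoc, ← Category.assoc,
            ← hβ, ← hγ, ← Spec.map_comp, ← Spec.map_comp] at h2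
          exact h2
        exact ConcreteCategory.congr_hom (Spec.map_injective h1) c
      have hb : β = γ := AlgHom.ext fun b => by
        obtain ⟨n, c, hc'⟩ := (hf g hg).1 b
        have := hc c
        rw [← hc', map_smul, map_smul, Algebra.smul_def, Algebra.smul_def, map_pow] at this
        exact (hu.pow n).mul_left_cancel this
      refine Subtype.ext (pullback.hom_ext ?_ (s.2.trans t.2.symm))
      rw [← hβ, ← hγ, hb]
    · intro t
      obtain ⟨γ, hγ⟩ := hpt C t.1 t.2
      obtain ⟨β, hβ⟩ := (hf g hg).exists_extend γ hu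
      have hw : Spec.map (CommRingCat.ofHom β.toRingHom) ≫ sp A B = ξ ≫ (FEt.puncturedSpec A).ι := by
        rw [← Spec.map_comp, ← hφ]
        congr 1
        ext a
        exact β.commutes a
      refine ⟨⟨pullback.lift _ ξ hw, pullback.lift_snd _ _ _⟩, Subtype.ext ?_⟩
      show pullback.lift _ ξ hw ≫ restMap f = t.1
      refine pullback.hom_ext ?_ ?_
      · rw [Category.assoc, restMap, pullback.lift_fst, pullback.lift_fst_assoc, ← hγ, ← Spec.map_comp]
        congr 1
        ext c
        exact hβ c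
      · rw [Category.assoc, restMap, pullback.lift_snd, pullback.lift_snd]
        exact t.2.symm
  exact ⟨asIso ψ⟩

variable [IsNoetherianRing A]

instance : CompactSpace (FEt.puncturedSpec A : Scheme.{u}) :=
  isCompact_iff_compactSpace.1 (TopologicalSpace.NoetherianSpace.isCompact _)

/-- A cover of the punctured spectrum comes from an integral algebra. -/
theorem exists_integral_model (V : FEt.Cat (FEt.puncturedSpec A : Scheme.{u})) :
    ∃ (R : Type u) (_ : CommRing R) (_ : Algebra A R) (_ : Algebra.IsIntegral A R) (hR : FEt.prop (rest A R)),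
      Nonempty (obj R hR ≅ V) := by
  let v : V.left ⟶ (FEt.puncturedSpec A : Scheme.{u}) := V.hom
  haveI : IsFinite v := V.prop.1
  haveI : Etale v := V.prop.2
  haveI : CompactSpace V.left := QuasiCompact.compactSpace_of_compactSpace v
  let j : V.left ⟶ Spec (CommRingCat.of A) := v ≫ (FEt.puncturedSpec A).ι
  haveI : QuasiCompact j := inferInstance
  haveI : QuasiSeparated j := inferInstance
  haveI : IsSeparated j := inferInstance
  haveI : LocallyOfFiniteType j := inferInstance
  haveI : LocallyQuasiFinite j := inferInstance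
  haveI : IsAffine j.normalization := isAffine_of_isAffineHom j.fromNormalization
  let R := Γ(j.normalization, ⊤)
  let φ := (Scheme.ΓSpecIso (CommRingCat.of A)).inv ≫ j.fromNormalization.appTop
  letI : Algebra A R := φ.hom.toAlgebra
  let t : V.left ⟶ Spec (CommRingCat.of R) := j.toNormalization ≫ j.normalization.isoSpec.hom
  have hπ : j.normalization.isoSpec.hom ≫ sp A R = j.fromNormalization := by
    show j.normalization.isoSpec.hom ≫ Spec.map φ = _
    rw [Spec.map_comp, ← Category.assoc, Scheme.isoSpec_hom_naturality, Category.assoc]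
    simp [Scheme.isoSpec, toSpecΓ_SpecMap_ΓSpecIso_inv]
  haveI : Algebra.IsIntegral A R := by
    have h1 : IsIntegralHom (sp A R) := by
      rw [← MorphismProperty.cancel_left_of_respectsIso (P := @IsIntegralHom) j.normalization.isoSpec.hom, hπ]
      infer_instance
    exact algebraMap_isIntegral_iff.1 (IsIntegralHom.SpecMap_iff.1 h1)
  have ht : t ≫ sp A R = j := by
    rw [Category.assoc, hπ, Scheme.Hom.toNormalization_fromNormalization]
  haveI : IsDominant t := inferInstance
  haveI : IsOpenImmersion t := inferInstance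
  let q : V.left ⟶ pullback (sp A R) (FEt.puncturedSpec A).ι := pullback.lift t v ht
  have hq1 : q ≫ pullback.fst _ _ = t := pullback.lift_fst _ _ _
  have hq2 : q ≫ rest A R = v := pullback.lift_snd _ _ _
  haveI : IsFinite q := by
    haveI : IsFinite (q ≫ rest A R) := by rw [hq2]; infer_instance
    exact IsFinite.of_comp q (rest A R)
  haveI : IsOpenImmersion q := by
    haveI : IsOpenImmersion (q ≫ pullback.fst _ _) := by rw [hq1]; infer_instance
    exact IsOpenImmersion.of_comp q (pullback.fst _ _)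
  haveI : Surjective q := by
    refine ⟨fun y => ?_⟩
    by_contra hne
    have hopen := (pullback.fst (sp A R) (FEt.puncturedSpec A).ι).isOpenMap _ q.isClosedMap.isClosed_range.isOpen_compl
    obtain ⟨z, ⟨w, hw, rfl⟩, v, hv⟩ := t.denseRange.inter_open_nonempty _ hopen
      ⟨_, y, fun ⟨a, ha⟩ => hne ⟨a, ha⟩, rfl⟩
    refine hw ⟨v, (pullback.fst (sp A R) (FEt.puncturedSpec A).ι).isOpenEmbedding.injective ?_⟩
    rw [← Scheme.Hom.comp_apply, hq1]
    exact hv
  haveI : IsIso q := (isIso_iff_isOpenImmersion_and_surjective q).2 ⟨inferInstance, inferInstance⟩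
  have hR : FEt.prop (rest A R) := by
    rw [← MorphismProperty.cancel_left_of_respectsIso (P := FEt.prop) q, hq2]
    exact V.prop
  let ψ : V ⟶ obj R hR := MorphismProperty.Over.homMk q hq2
  haveI : IsIso ψ := ⟨MorphismProperty.Over.homMk (inv q) (by
      show inv q ≫ v = rest A R
      rw [← hq2, IsIso.inv_hom_id_assoc]),
    MorphismProperty.Over.Hom.ext (IsIso.hom_inv_id q), MorphismProperty.Over.Hom.ext (IsIso.inv_hom_id q)⟩
  exact ⟨R, inferInstance, inferInstance, inferInstance, hR, ⟨(asIso ψ).symm⟩⟩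

/-- A cover of the punctured spectrum comes from a finite algebra. -/
theorem exists_finite_model (V : FEt.Cat (FEt.puncturedSpec A : Scheme.{u})) :
    ∃ (C : Type u) (_ : CommRing C) (_ : Algebra A C) (_ : Module.Finite A C) (hC : EtOff A C),
      Nonempty (obj C (prop_rest C hC) ≅ V) := by
  classical
  obtain ⟨R, _, _, hint, hR, ⟨e⟩⟩ := exists_integral_model V
  have hloc : ∀ g, g ∈ maximalIdeal A → Module.Finite (Localization.Away g) (Localization.Away g ⊗[A] R) ∧
      Algebra.Etale (Localization.Away g) (Localization.Away g ⊗[A] R) := fun g hg =>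
    (prop_tensor_iff R hg).1 (MorphismProperty.pullback_snd _ _ hR)
  obtain ⟨G, hG⟩ := IsNoetherian.noetherian (maximalIdeal A)
  have hsel : ∀ g ∈ G, ∃ s : Finset R, ∀ C : Subalgebra A R, ↑s ⊆ (C : Set R) →
      ∀ r : R, ∃ n : ℕ, g ^ n • r ∈ C := fun g hgG => by
    have hgm : g ∈ maximalIdeal A := hG ▸ Ideal.subset_span hgG
    let Ag := Localization.Away g
    haveI := (hloc g hgm).1
    have htop : Submodule.span Ag (Set.range fun r : R => (1 : Ag) ⊗ₜ[A] r) = ⊤ := by
      refine top_le_iff.1 fun z _ => ?_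
      induction z using TensorProduct.induction_on with
      | zero => exact zero_mem _
      | tmul a r =>
        rw [show (a ⊗ₜ[A] r : Ag ⊗[A] R) = a • ((1 : Ag) ⊗ₜ[A] r) by simp [TensorProduct.smul_tmul']]
        exact Submodule.smul_mem _ _ (Submodule.subset_span ⟨r, rfl⟩)
      | add x y hx hy => exact add_mem (hx trivial) (hy trivial)
    obtain ⟨s', hs', hspan⟩ := (Submodule.fg_span_iff_fg_span_finset_subset _).1
      (htop ▸ (Module.Finite.fg_top : (⊤ : Submodule Ag (Ag ⊗[A] R)).FG))
    choose r hr using fun z : s' => hs' z.2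
    refine ⟨Finset.univ.image r, fun C hC x => ?_⟩
    haveI : IsLocalizedModule (Submonoid.powers g) (TensorProduct.mk A Ag R 1) :=
      (isLocalizedModule_iff_isBaseChange (Submonoid.powers g) Ag _).2 (TensorProduct.isBaseChange A R Ag)
    suffices hz : ∀ z ∈ Submodule.span Ag (s' : Set (Ag ⊗[A] R)),
        ∃ (n : ℕ) (c : R), c ∈ C ∧ g ^ n • z = (1 : Ag) ⊗ₜ[A] c by
      obtain ⟨n, c, hc, he⟩ := hz ((1 : Ag) ⊗ₜ[A] x) (hspan ▸ htop.ge trivial)
      rw [← TensorProduct.tmul_smul] at he
      obtain ⟨⟨_, m, rfl⟩, hm⟩ := (IsLocalizedModule.eq_iff_exists (Submonoid.powers g) (TensorProduct.mk A Ag R 1)).1 he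
      refine ⟨m + n, ?_⟩
      rw [pow_add, mul_smul]
      exact hm ▸ C.smul_mem hc _
    intro z hz
    induction hz using Submodule.span_induction with
    | mem z hz =>
      refine ⟨0, r ⟨z, hz⟩, hC (Finset.mem_coe.2 (Finset.mem_image_of_mem r (Finset.mem_univ _))), ?_⟩
      rw [pow_zero, one_smul]
      exact (hr ⟨z, hz⟩).symm
    | zero => exact ⟨0, 0, C.zero_mem, by simp⟩
    | add z z' _ _ hz hz' =>
      obtain ⟨n, c, hc, he⟩ := hz
      obtain ⟨n', c', hc', he'⟩ := hz'
      refine ⟨n + n', g ^ n' • c + g ^ n • c', C.add_mem (C.smul_mem hc _) (C.smul_mem hc' _), ?_⟩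
      rw [TensorProduct.tmul_add, TensorProduct.tmul_smul, TensorProduct.tmul_smul, ← he, ← he', smul_smul,
        smul_smul, smul_add, pow_add, mul_comm (g ^ n) (g ^ n')]
    | smul a z _ hz =>
      obtain ⟨n, c, hc, he⟩ := hz
      obtain ⟨a₀, ⟨_, m, rfl⟩, rfl⟩ := IsLocalization.exists_mk'_eq (Submonoid.powers g) a
      refine ⟨m + n, a₀ • c, C.smul_mem hc _, ?_⟩
      rw [TensorProduct.tmul_smul, ← he, pow_add, mul_smul, smul_comm (g ^ n), ← smul_assoc, Algebra.smul_def]
      exact (congrArg (· • (g ^ n • z)) (IsLocalization.mk'_spec' Ag a₀ (⟨g ^ m, m, rfl⟩ : Submonoid.powers g))).trans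
        (algebraMap_smul Ag a₀ _)
  choose s hs using hsel
  let S : Finset R := G.attach.biUnion fun g => s g.1 g.2
  let C : Subalgebra A R := Algebra.adjoin A (S : Set R)
  haveI : Module.Finite A C :=
    Module.Finite.iff_fg.2 (fg_adjoin_of_finite S.finite_toSet fun x _ => Algebra.IsIntegral.isIntegral x)
  have hiso : ∀ g ∈ maximalIdeal A, IsoAway C.val g := fun g hg =>
    ⟨fun r => by
      have hall : ∀ g₀ ∈ G, ∃ n : ℕ, g₀ ^ n • r ∈ C := fun g₀ h₀ => hs g₀ h₀ C
        ((Finset.coe_subset.2 (Finset.subset_biUnion_of_mem (fun g : {x // x ∈ G} => s g.1 g.2)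
          (Finset.mem_attach G ⟨g₀, h₀⟩))).trans Algebra.subset_adjoin) r
      let J : Ideal A := (Subalgebra.toSubmodule C).comap (LinearMap.toSpanSingleton A R r)
      have : g ∈ J.radical := by
        have hle : maximalIdeal A ≤ J.radical := by
          rw [← hG]
          refine Ideal.span_le.2 fun g₀ h₀ => ?_
          obtain ⟨n, hn⟩ := hall g₀ h₀
          exact ⟨n, hn⟩
        exact hle hg
      obtain ⟨n, hn⟩ := this
      exact ⟨n, ⟨_, hn⟩, rfl⟩,
    fun c hc => ⟨0, by rw [pow_zero, one_smul]; exact Subtype.ext hc⟩⟩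
  have hC : EtOff A C := fun g hg => by
    haveI := (hloc g hg).2
    exact etAway_of_isoAway (hiso g hg) (etAway_of_etale g)
  obtain ⟨e'⟩ := nonempty_iso C.val hiso (prop_rest C hC) hR
  exact ⟨C, inferInstance, inferInstance, inferInstance, hC, ⟨e'.symm ≪≫ e⟩⟩

/-- Purity for regular local rings. -/
theorem purityHolds_of_regular (A : Type u) [CommRing A] [IsRegularLocalRing A]
    (h : (2 : WithBot ℕ∞) ≤ ringKrullDim A) : FEt.PurityHolds A := by
  refine ⟨fun V => ?_⟩
  obtain ⟨C, _, _, _, hC, ⟨e⟩⟩ := exists_finite_model V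
  obtain ⟨B, _, _, f, hfin, het, hiso⟩ := exists_finite_etale_of_etOff A h C hC
  haveI := hfin
  haveI := het
  let Bo : FEt.Cat (Spec (CommRingCat.of A)) :=
    MorphismProperty.Over.mk ⊤ (sp A B) (fet_sp_iff.2 ⟨hfin, het⟩)
  have hB : FEt.prop (rest A B) := MorphismProperty.pullback_snd _ _ (fet_sp_iff.2 ⟨hfin, het⟩)
  obtain ⟨e'⟩ := nonempty_iso f hiso (prop_rest C hC) hB
  exact ⟨Bo, ⟨MorphismProperty.Over.isoMk (Iso.refl _) (by simp [Bo]) ≪≫ e' ≪≫ e⟩⟩

end Groth.Agent.Pi1Ext.PuritySch

end
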