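import Groth.Agent.Pi1X.FEtGalois
import Groth.Agent.Pi1X.GeomConnFF

/-!
Quotients of restricted finite étale covers descend along morphisms detecting clopen subsets.
-/

set_option autoImplicit false
universe u

open CategoryTheory CategoryTheory.Limits AlgebraicGeometry
open Groth.Agent.Pi1X

noncomputable section

namespace Groth.Agent.Pi1Ext

set_option backward.isDefEq.respectTransparency false
set_option backward.isDefEq.respectTransparency.types false

variable {X S : Scheme.{u}} (f : X ⟶ S)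

/-- Clopen subsets of restricted covers come from below along geometrically connected morphisms. -/
theorem exists_clopen_preimage [GeometricallyConnected f] [UniversallyOpen f] (W : FEt.Cat S)
    (C : Set ↥(pullback W.hom f)) (hWC : IsClopen C) :
    ∃ G : Set W.left, IsClopen G ∧ (pullback.fst W.hom f).base ⁻¹' G = C := by
  let g : W.left ⟶ S := W.hom
  let j := pullback.fst g f
  haveI : GeometricallyConnected j := inferInstance
  haveI : UniversallyOpen j := MorphismProperty.pullback_fst g f inferInstance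
  have hsat : ∀ p p', j p = j p' → p ∈ C → p' ∈ C := fun p p' he hp =>
    (j.isConnected_preimage_singleton (j p)).isPreconnected.subset_isClopen hWC ⟨p, rfl, hp⟩ he.symm
  have hco : (j '' C)ᶜ = j '' Cᶜ := by
    ext w
    obtain ⟨p, rfl⟩ := j.surjective w
    constructor
    · exact fun h => ⟨p, fun hp => h ⟨p, hp, rfl⟩, rfl⟩
    · rintro ⟨p', hp', he⟩ ⟨q, hq, he'⟩
      exact hp' (hsat q p' (he'.trans he.symm) hq)
  refine ⟨j '' C, ⟨?_, j.isOpenMap _ hWC.2⟩, ?_⟩
  · rw [← isOpen_compl_iff, hco]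
    exact j.isOpenMap _ hWC.compl.2
  · ext p
    exact ⟨fun ⟨q, hq, he⟩ => hsat q p he hq, fun hp => ⟨p, hp, rfl⟩⟩

/-- If clopen subsets of restricted covers come from below, a cover of `X` dominated surjectively by a
restricted cover is itself restricted from below. -/
theorem exists_iso_of_surjective
    (hd : ∀ (W : FEt.Cat S) (C : Set ↥(pullback W.hom f)), IsClopen C →
      ∃ G : Set W.left, IsClopen G ∧ (pullback.fst W.hom f).base ⁻¹' G = C)
    {X' : FEt.Cat X} (V : FEt.Cat S) (e : (FEt.restrict f).obj V ⟶ X') [Surjective e.left] :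
    ∃ S' : FEt.Cat S, Nonempty ((FEt.restrict f).obj S' ≅ X') := by
  let FV : FEt.Cat X := (FEt.restrict f).obj V
  let e₀ : pullback V.hom f ⟶ X'.left := e.left
  have he₀ : e₀ ≫ X'.hom = pullback.snd V.hom f := MorphismProperty.Over.w e
  let p₁ : pullback e₀ e₀ ⟶ pullback V.hom f := pullback.fst e₀ e₀
  let p₂ : pullback e₀ e₀ ⟶ pullback V.hom f := pullback.snd e₀ e₀
  have he : FEt.prop e₀ := prop_left e
  have hsnd : FEt.prop (pullback.snd V.hom f) := MorphismProperty.pullback_snd _ _ V.prop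
  have hp : p₂ ≫ pullback.snd V.hom f = p₁ ≫ pullback.snd V.hom f := by
    rw [← he₀, ← Category.assoc, ← pullback.condition, Category.assoc]
  let R : FEt.Cat X := MorphismProperty.Over.mk ⊤ (p₁ ≫ pullback.snd V.hom f)
    (MorphismProperty.comp_mem _ _ _ (MorphismProperty.pullback_fst _ _ he) hsnd)
  let W₀ : FEt.Cat S := MorphismProperty.Over.mk ⊤ (pullback.fst V.hom V.hom ≫ V.hom)
    (MorphismProperty.comp_mem _ _ _ (MorphismProperty.pullback_fst _ _ V.prop) V.prop)
  let q : pullback e₀ e₀ ⟶ pullback V.hom V.hom :=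
    pullback.lift (p₁ ≫ pullback.fst V.hom f) (p₂ ≫ pullback.fst V.hom f) (by
      rw [Category.assoc, Category.assoc, pullback.condition, ← Category.assoc, ← hp, Category.assoc])
  let j₀ : pullback e₀ e₀ ⟶ pullback (pullback.fst V.hom V.hom ≫ V.hom) f :=
    pullback.lift q (p₁ ≫ pullback.snd V.hom f) (by
      rw [← Category.assoc, pullback.lift_fst, Category.assoc, Category.assoc, pullback.condition])
  let j : R ⟶ (FEt.restrict f).obj W₀ := MorphismProperty.Over.homMk j₀ (pullback.lift_snd _ _ _)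
  haveI : Mono j₀ := ⟨fun {T} a b h => by
    have hq : a ≫ q = b ≫ q := by
      have := congrArg (· ≫ pullback.fst (pullback.fst V.hom V.hom ≫ V.hom) f) h
      simpa [j₀] using this
    have hs : (a ≫ p₁) ≫ pullback.snd V.hom f = (b ≫ p₁) ≫ pullback.snd V.hom f := by
      have := congrArg (· ≫ pullback.snd (pullback.fst V.hom V.hom ≫ V.hom) f) h
      simpa [j₀, Category.assoc] using this
    have h1 := congrArg (· ≫ pullback.fst V.hom V.hom) hq
    have h2 := congrArg (· ≫ pullback.snd V.hom V.hom) hq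
    simp only [Category.assoc, q, pullback.lift_fst, pullback.lift_snd] at h1 h2
    refine pullback.hom_ext (pullback.hom_ext ?_ ?_) (pullback.hom_ext ?_ ?_)
    · simpa [Category.assoc] using h1
    · simpa [Category.assoc] using hs
    · simpa [Category.assoc] using h2
    · show (a ≫ p₂) ≫ pullback.snd V.hom f = (b ≫ p₂) ≫ pullback.snd V.hom f
      rw [Category.assoc, hp, ← Category.assoc, hs, Category.assoc, ← hp, ← Category.assoc]⟩
  haveI : IsOpenImmersion j₀ := isOpenImmersion_of_fiber_injective j fun C _ ⟨x, hx⟩ => by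
    obtain ⟨Ω, _, _, ξ, hξ⟩ := exists_geometric_point x
    refine ⟨Ω, inferInstance, inferInstance, ξ, hξ ▸ hx, fun s t hst => Subtype.ext ?_⟩
    exact (cancel_mono j₀).1 (congrArg Subtype.val hst)
  obtain ⟨G, hG, hGC⟩ := hd W₀ (Set.range j₀.base) (isClopen_range (prop_left j))
  let U₀ : W₀.left.Opens := ⟨G, hG.2⟩
  let R₀ : FEt.Cat S := MorphismProperty.Over.mk ⊤ (U₀.ι ≫ W₀.hom)
    (MorphismProperty.comp_mem _ _ _ (prop_ι_of_isClopen U₀ hG.1) W₀.prop)
  let u : R₀ ⟶ W₀ := MorphismProperty.Over.homMk U₀.ι rfl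
  let Fu : pullback (U₀.ι ≫ W₀.hom) f ⟶ pullback W₀.hom f := ((FEt.restrict f).map u).left
  have hFu1 : Fu ≫ pullback.fst W₀.hom f = pullback.fst (U₀.ι ≫ W₀.hom) f ≫ U₀.ι := pullback.lift_fst _ _ _
  have hFu2 : Fu ≫ pullback.snd W₀.hom f = pullback.snd (U₀.ι ≫ W₀.hom) f := pullback.lift_snd _ _ _
  haveI : Mono Fu := ⟨fun {T} a b h => by
    refine pullback.hom_ext ?_ ?_
    · have h1 : a ≫ (pullback.fst (U₀.ι ≫ W₀.hom) f ≫ U₀.ι) = b ≫ (pullback.fst (U₀.ι ≫ W₀.hom) f ≫ U₀.ι) := by
        rw [← hFu1, ← Category.assoc, h, Category.assoc]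
      exact (cancel_mono U₀.ι).1 (by simpa [Category.assoc] using h1)
    · rw [← hFu2, ← Category.assoc, h, Category.assoc]⟩
  -- `R` is the restriction of `R₀`
  let j' : R.left ⟶ pullback W₀.hom f := j₀
  have hr : Set.range (j' ≫ pullback.fst W₀.hom f).base ⊆ Set.range U₀.ι.base := by
    rw [U₀.range_ι]
    rintro _ ⟨y, rfl⟩
    exact hGC.ge ⟨y, rfl⟩
  let r₀ : R.left ⟶ pullback (U₀.ι ≫ W₀.hom) f :=
    pullback.lift (IsOpenImmersion.lift U₀.ι (j' ≫ pullback.fst W₀.hom f) hr) R.hom (by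
      rw [IsOpenImmersion.lift_fac_assoc, Category.assoc, pullback.condition, ← Category.assoc]
      exact congrArg (· ≫ f) (pullback.lift_snd _ _ _))
  have hr₀ : r₀ ≫ Fu = j' := by
    refine pullback.hom_ext ?_ ?_
    · rw [Category.assoc, hFu1, pullback.lift_fst_assoc, IsOpenImmersion.lift_fac]
    · rw [Category.assoc, hFu2, pullback.lift_snd]
      exact (pullback.lift_snd _ _ _).symm
  have hr' : Set.range Fu.base ⊆ Set.range j₀.base := by
    rintro _ ⟨y, rfl⟩
    refine hGC.le ?_
    show (pullback.fst W₀.hom f).base (Fu.base y) ∈ (U₀ : Set W₀.left)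
    rw [← Scheme.Hom.comp_apply, hFu1, Scheme.Hom.comp_apply]
    exact ((pullback.fst (U₀.ι ≫ W₀.hom) f).base y).2
  haveI : IsIso r₀ := by
    refine ⟨IsOpenImmersion.lift j₀ Fu hr', ?_, ?_⟩
    · refine (cancel_mono j₀).1 ?_
      rw [Category.assoc, IsOpenImmersion.lift_fac, Category.id_comp]
      exact hr₀
    · refine (cancel_mono Fu).1 ?_
      rw [Category.assoc, hr₀, Category.id_comp]
      exact IsOpenImmersion.lift_fac _ _ _
  let a : R₀ ⟶ V := MorphismProperty.Over.homMk (U₀.ι ≫ pullback.fst V.hom V.hom) (Category.assoc _ _ _)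
  let b : R₀ ⟶ V := MorphismProperty.Over.homMk (U₀.ι ≫ pullback.snd V.hom V.hom)
    ((Category.assoc _ _ _).trans (congrArg (U₀.ι ≫ ·) pullback.condition.symm))
  let Fa : pullback (U₀.ι ≫ W₀.hom) f ⟶ pullback V.hom f := ((FEt.restrict f).map a).left
  let Fb : pullback (U₀.ι ≫ W₀.hom) f ⟶ pullback V.hom f := ((FEt.restrict f).map b).left
  have hj1 : j' ≫ pullback.fst W₀.hom f = q := pullback.lift_fst _ _ _
  have ha : r₀ ≫ Fa = p₁ := by
    refine pullback.hom_ext ?_ ?_
    · rw [Category.assoc]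
      refine (congrArg (r₀ ≫ ·) (pullback.lift_fst _ _ _)).trans ?_
      show r₀ ≫ pullback.fst (U₀.ι ≫ W₀.hom) f ≫ U₀.ι ≫ pullback.fst V.hom V.hom = _
      rw [pullback.lift_fst_assoc, IsOpenImmersion.lift_fac_assoc, hj1]
      exact pullback.lift_fst _ _ _
    · rw [Category.assoc]
      refine (congrArg (r₀ ≫ ·) (pullback.lift_snd _ _ _)).trans ?_
      exact pullback.lift_snd _ _ _
  have hb : r₀ ≫ Fb = p₂ := by
    refine pullback.hom_ext ?_ ?_
    · rw [Category.assoc]
      refine (congrArg (r₀ ≫ ·) (pullback.lift_fst _ _ _)).trans ?_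
      show r₀ ≫ pullback.fst (U₀.ι ≫ W₀.hom) f ≫ U₀.ι ≫ pullback.snd V.hom V.hom = _
      rw [pullback.lift_fst_assoc, IsOpenImmersion.lift_fac_assoc, hj1]
      exact pullback.lift_snd _ _ _
    · rw [Category.assoc]
      refine (congrArg (r₀ ≫ ·) (pullback.lift_snd _ _ _)).trans ?_
      exact (pullback.lift_snd _ _ _).trans hp.symm
  have hab : (FEt.restrict f).map a ≫ e = (FEt.restrict f).map b ≫ e := by
    refine MorphismProperty.Over.Hom.ext ((cancel_epi r₀).1 ?_)
    show r₀ ≫ Fa ≫ e₀ = r₀ ≫ Fb ≫ e₀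
    rw [← Category.assoc, ha, ← Category.assoc, hb]
    exact pullback.condition
  obtain ⟨hc⟩ := isColimit_of_fibers (Cofork.ofπ e hab) fun Ω _ _ ξ => by
    have hsurj : Function.Surjective ((FEt.fiber ξ).map e) := fun x => by
      haveI := he.1
      haveI := he.2
      obtain ⟨y, hy⟩ := Surjective.surj (f := e₀) (x.1.base (IsLocalRing.closedPoint Ω))
      obtain ⟨⟨s, hs⟩, -⟩ := exists_lift_at x.1 e₀ y hy
      exact ⟨⟨s, (congrArg (s ≫ ·) he₀.symm).trans ((Category.assoc _ _ _).symm.trans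
        ((congrArg (· ≫ X'.hom) hs).trans x.2))⟩, Subtype.ext hs⟩
    refine ⟨(isColimitMapCoconeCoforkEquiv _ _).symm (Cofork.IsColimit.ofExistsUnique fun s => ?_)⟩
    have hwd : ∀ t t', (FEt.fiber ξ).map e t = (FEt.fiber ξ).map e t' → s.π t = s.π t' := fun t t' h => by
      have h0 : t.1 ≫ e₀ = t'.1 ≫ e₀ := congrArg Subtype.val h
      let z : FEt.fiberObj ξ ((FEt.restrict f).obj R₀) := ⟨pullback.lift t.1 t'.1 h0 ≫ r₀, by
        refine (Category.assoc _ _ _).trans ?_
        refine (congrArg (pullback.lift t.1 t'.1 h0 ≫ ·) (pullback.lift_snd _ _ _)).trans ?_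
        show pullback.lift t.1 t'.1 h0 ≫ p₁ ≫ pullback.snd V.hom f = ξ
        rw [pullback.lift_fst_assoc]
        exact t.2⟩
      have hz1 : (FEt.fiber ξ).map ((FEt.restrict f).map a) z = t := by
        refine Subtype.ext ?_
        show (pullback.lift t.1 t'.1 h0 ≫ r₀) ≫ Fa = t.1
        rw [Category.assoc, ha]
        exact pullback.lift_fst _ _ _
      have hz2 : (FEt.fiber ξ).map ((FEt.restrict f).map b) z = t' := by
        refine Subtype.ext ?_
        show (pullback.lift t.1 t'.1 h0 ≫ r₀) ≫ Fb = t'.1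
        rw [Category.assoc, hb]
        exact pullback.lift_snd _ _ _
      rw [← hz1, ← hz2]
      exact ConcreteCategory.congr_hom s.condition z
    choose g hg using hsurj
    refine ⟨↾fun x => s.π (g x), ?_, fun m hm => ?_⟩
    · ext t
      exact hwd _ _ (hg _)
    · ext x
      show m x = s.π (g x)
      conv_lhs => rw [← hg x]
      exact ConcreteCategory.congr_hom hm (g x)
  refine ⟨coequalizer a b, ⟨?_⟩⟩
  exact (isColimitOfHasCoequalizerOfPreservesColimit (FEt.restrict f) a b).coconePointUniqueUpToIso hc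

end Groth.Agent.Pi1Ext

end
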