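import Mathlib

/-! The spectrum of a local ring is the limit of the affine neighbourhoods of the point. -/

set_option autoImplicit false
universe u

open CategoryTheory CategoryTheory.Limits AlgebraicGeometry TopologicalSpace Opposite

noncomputable section

namespace Groth.Agent.Pi1Ext.SpreadLim

set_option backward.isDefEq.respectTransparency false
set_option backward.isDefEq.respectTransparency.types false

variable (X : Scheme.{u}) (x : X)

/-- Affine open neighbourhoods. -/
def Nbhd : Type u := {W : X.Opens // IsAffineOpen W ∧ x ∈ W}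

instance : Preorder (Nbhd X x) := Subtype.preorder _

theorem exists_nbhd_le {O : X.Opens} (hx : x ∈ O) : ∃ W : Nbhd X x, W.1 ≤ O := by
  obtain ⟨_, ⟨W, hW, rfl⟩, hxW, hWO⟩ := X.isBasis_affineOpens.exists_subset_of_mem_open hx O.2
  exact ⟨⟨W, hW, hxW⟩, hWO⟩

instance : Nonempty (Nbhd X x) :=
  ⟨(exists_nbhd_le X x (O := ⊤) trivial).choose⟩

instance : IsCodirectedOrder (Nbhd X x) := ⟨fun a b => by
  obtain ⟨W, hW⟩ := exists_nbhd_le X x (O := a.1 ⊓ b.1) ⟨a.2.2, b.2.2⟩
  exact ⟨W, show W.1 ≤ a.1 from hW.trans inf_le_left, show W.1 ≤ b.1 from hW.trans inf_le_right⟩⟩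

instance : IsCofiltered (Nbhd X x) := isCofiltered_of_directed_ge_nonempty _

/-- The sections over the neighbourhoods. -/
def rings : (Nbhd X x)ᵒᵖ ⥤ CommRingCat.{u} where
  obj W := X.presheaf.obj (op W.unop.1)
  map {W W'} h := X.presheaf.map (homOfLE (leOfHom h.unop : W'.unop.1 ≤ W.unop.1)).op
  map_id W := X.presheaf.map_id _
  map_comp f g := by rw [← Functor.map_comp]; rfl

/-- The germs. -/
def cocone : Cocone (rings X x) where
  pt := X.presheaf.stalk x
  ι :=
    { app := fun W => X.presheaf.germ W.unop.1 x W.unop.2.2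
      naturality := fun W W' h => (X.presheaf.germ_res _ _ _).trans (Category.comp_id _).symm }

/-- The stalk is the colimit. -/
def isColimit : IsColimit (cocone X x) := by
  haveI : ReflectsColimit (rings X x) (forget CommRingCat.{u}) := reflectsColimit_of_reflectsIsomorphisms _ _
  refine isColimitOfReflects (forget CommRingCat.{u}) ?_
  refine Types.FilteredColimit.isColimitOf' _ _ (fun z => ?_) fun W a b h => ?_
  · obtain ⟨O, hxO, s, rfl⟩ := X.presheaf.germ_exist z
    obtain ⟨W, hW⟩ := exists_nbhd_le X x hxO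
    exact ⟨op W, X.presheaf.map (homOfLE hW).op s, (X.presheaf.germ_res_apply (homOfLE hW) x W.2.2 s).symm⟩
  · obtain ⟨O, hxO, i₁, i₂, e⟩ := X.presheaf.germ_eq x W.unop.2.2 W.unop.2.2 a b h
    obtain ⟨W', hW'⟩ := exists_nbhd_le X x hxO
    refine ⟨op W', (homOfLE (show W'.1 ≤ W.unop.1 from hW'.trans (leOfHom i₁)) : W' ⟶ W.unop).op, ?_⟩
    show X.presheaf.map _ a = X.presheaf.map _ b
    have e' := congrArg (X.presheaf.map (homOfLE hW').op) e
    rw [← ConcreteCategory.comp_apply, ← ConcreteCategory.comp_apply, ← Functor.map_comp,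
      ← Functor.map_comp, ← op_comp, ← op_comp] at e'
    exact e'

/-- The affine neighbourhoods, as spectra. -/
def specs : Nbhd X x ⥤ Scheme.{u} where
  obj W := Spec Γ(X, W.1)
  map {W W'} h := Spec.map (X.presheaf.map (homOfLE (leOfHom h : W.1 ≤ W'.1)).op)
  map_id W := (congrArg Spec.map (X.presheaf.map_id _)).trans (Spec.map_id _)
  map_comp f g := by rw [← Spec.map_comp, ← Functor.map_comp]; rfl

/-- The cone. -/
def cone : Cone (specs X x) where
  pt := Spec (X.presheaf.stalk x)
  π :=
    { app := fun W => Spec.map (X.presheaf.germ W.1 x W.2.2)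
      naturality := fun W W' h => by
        refine (Category.id_comp _).trans ?_
        show _ = Spec.map _ ≫ Spec.map _
        rw [← Spec.map_comp, X.presheaf.germ_res] }

/-- It is a limit. -/
def isLimit : IsLimit (cone X x) := by
  let h := isLimitOfPreserves Scheme.Spec (isColimit X x).op
  let e : Nbhd X x ≌ ((Nbhd X x)ᵒᵖ)ᵒᵖ := (opOpEquivalence (Nbhd X x)).symm
  exact (h.whiskerEquivalence e)

instance (W W' : Nbhd X x) (h : W ⟶ W') : IsAffineHom ((specs X x).map h) :=
  inferInstanceAs (IsAffineHom (Spec.map _))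

instance (W : Nbhd X x) : CompactSpace ((specs X x).obj W) :=
  inferInstanceAs (CompactSpace (Spec Γ(X, W.1)))

instance (W : Nbhd X x) : QuasiSeparatedSpace ((specs X x).obj W) :=
  inferInstanceAs (QuasiSeparatedSpace (Spec Γ(X, W.1)))

/-- The map of a stage to the scheme. -/
def toX (W : Nbhd X x) : (specs X x).obj W ⟶ X := W.2.1.fromSpec

instance (W : Nbhd X x) : IsOpenImmersion (toX X x W) := inferInstanceAs (IsOpenImmersion W.2.1.fromSpec)

theorem range_toX (W : Nbhd X x) : Set.range (toX X x W).base = W.1 := W.2.1.range_fromSpec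

theorem map_toX {W W' : Nbhd X x} (h : W ⟶ W') : (specs X x).map h ≫ toX X x W' = toX X x W :=
  W'.2.1.map_fromSpec W.2.1 _

theorem π_toX (W : Nbhd X x) : (cone X x).π.app W ≫ toX X x W = X.fromSpecStalk x :=
  W.2.1.fromSpecStalk_eq_fromSpecStalk W.2.2

end Groth.Agent.Pi1Ext.SpreadLim
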