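import Groth.Prelude.Def_FEt
import Mathlib

/-! Gluing two finite étale covers along open immersions. -/

set_option autoImplicit false
universe u

open CategoryTheory CategoryTheory.Limits AlgebraicGeometry

noncomputable section

namespace Groth.Agent.Pi1Ext.SpreadGlue

set_option backward.isDefEq.respectTransparency false
set_option backward.isDefEq.respectTransparency.types false

/-- The square after cancelling a monomorphism. -/
theorem isPullback_of_comp_mono {C : Type*} [Category C] {P A B W Z : C} {p : P ⟶ A} {q : P ⟶ B}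
    {a : A ⟶ W} {b : B ⟶ W} (m : W ⟶ Z) [Mono m] (h : IsPullback p q (a ≫ m) (b ≫ m)) :
    IsPullback p q a b := by
  refine ⟨⟨(cancel_mono m).1 (by rw [Category.assoc, Category.assoc, h.w])⟩, ⟨?_⟩⟩
  refine PullbackCone.IsLimit.mk _ (fun s => h.lift s.fst s.snd (by rw [s.condition_assoc]))
    (fun s => h.lift_fst _ _ _) (fun s => h.lift_snd _ _ _) fun s l h₁ h₂ => h.hom_ext ?_ ?_
  · rw [h₁, h.lift_fst]
  · rw [h₂, h.lift_snd]

/-- The restriction of a cover along an open immersion is an open subscheme. -/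
theorem range_fst {X U : Scheme.{u}} (i : U ⟶ X) (Y : FEt.Cat X) :
    Set.range ((pullback.fst Y.hom i : ((FEt.restrict i).obj Y).left ⟶ Y.left)).base =
      Y.hom.base ⁻¹' Set.range i.base :=
  Scheme.Pullback.range_fst ..

/-- A cover on each member of a covering by two opens, agreeing on the overlap. -/
theorem exists_glue {X U W P : Scheme.{u}} (i₁ : U ⟶ X) (i₂ : W ⟶ X) [IsOpenImmersion i₁]
    [IsOpenImmersion i₂] (hcov : ∀ z : X, z ∈ Set.range i₁.base ∨ z ∈ Set.range i₂.base)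
    (p₁ : P ⟶ U) (p₂ : P ⟶ W) (hP : IsPullback p₁ p₂ i₁ i₂) (E₁ : FEt.Cat U) (E₂ : FEt.Cat W)
    (e : (FEt.restrict p₁).obj E₁ ≅ (FEt.restrict p₂).obj E₂) :
    ∃ E : FEt.Cat X, Nonempty ((FEt.restrict i₁).obj E ≅ E₁) := by
  haveI : IsOpenImmersion p₁ := MorphismProperty.of_isPullback (P := @IsOpenImmersion) hP.flip inferInstance
  haveI : IsOpenImmersion p₂ := MorphismProperty.of_isPullback (P := @IsOpenImmersion) hP inferInstance
  let R := pullback E₁.hom p₁
  let f₁ : R ⟶ E₁.left := pullback.fst E₁.hom p₁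
  let el : R ⟶ pullback E₂.hom p₂ := e.hom.left
  haveI : IsIso el := inferInstanceAs (IsIso ((MorphismProperty.Over.forget FEt.prop ⊤ P ⋙ CategoryTheory.Over.forget P).map e.hom))
  let f₂ : R ⟶ E₂.left := el ≫ pullback.fst E₂.hom p₂
  have hel : el ≫ pullback.snd E₂.hom p₂ = pullback.snd E₁.hom p₁ := MorphismProperty.Over.w e.hom
  haveI : IsOpenImmersion f₁ := inferInstanceAs (IsOpenImmersion (pullback.fst E₁.hom p₁))
  haveI : IsOpenImmersion f₂ := inferInstanceAs (IsOpenImmersion (el ≫ pullback.fst E₂.hom p₂))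
  have w : f₁ ≫ E₁.hom ≫ i₁ = f₂ ≫ E₂.hom ≫ i₂ := by
    simp only [f₁, f₂, Category.assoc]
    rw [pullback.condition_assoc, pullback.condition_assoc, hP.w, reassoc_of% hel]
  let Y := pushout f₁ f₂
  let h : Y ⟶ X := pushout.desc (E₁.hom ≫ i₁) (E₂.hom ≫ i₂) w
  let ι₁ : E₁.left ⟶ Y := pushout.inl f₁ f₂
  let ι₂ : E₂.left ⟶ Y := pushout.inr f₁ f₂
  haveI : IsOpenImmersion ι₁ := inferInstanceAs (IsOpenImmersion (colimit.ι (span f₁ f₂) WalkingSpan.left))
  haveI : IsOpenImmersion ι₂ := inferInstanceAs (IsOpenImmersion (colimit.ι (span f₁ f₂) WalkingSpan.right))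
  have h₁ : ι₁ ≫ h = E₁.hom ≫ i₁ := pushout.inl_desc _ _ _
  have h₂ : ι₂ ≫ h = E₂.hom ≫ i₂ := pushout.inr_desc _ _ _
  have hf : f₁ ≫ ι₁ = f₂ ≫ ι₂ := pushout.condition
  have hpt : ∀ y : Y, y ∈ Set.range ι₁.base ∨ y ∈ Set.range ι₂.base := fun y => by
    obtain ⟨j, z, hz⟩ := Scheme.IsLocallyDirected.ι_jointly_surjective (span f₁ f₂) y
    rcases j with _ | (_ | _)
    · refine Or.inl ⟨f₁.base z, ?_⟩
      rw [← hz, ← colimit.w (span f₁ f₂) WalkingSpan.Hom.fst]
      rfl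
    · exact Or.inl ⟨z, hz⟩
    · exact Or.inr ⟨z, hz⟩
  have hR₁ : Set.range f₁.base = E₁.hom.base ⁻¹' Set.range p₁.base := range_fst p₁ E₁
  have hR₂ : Set.range f₂.base = E₂.hom.base ⁻¹' Set.range p₂.base := by
    show Set.range (el ≫ pullback.fst E₂.hom p₂).base = _
    rw [Scheme.Hom.comp_base, TopCat.coe_comp, Set.range_comp, Set.range_eq_univ.2 el.surjective,
      Set.image_univ]
    exact range_fst p₂ E₂
  have hh₁ : ∀ a : E₁.left, h.base (ι₁.base a) = i₁.base (E₁.hom.base a) := fun a => by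
    rw [← Scheme.Hom.comp_apply, h₁]; rfl
  have hh₂ : ∀ b : E₂.left, h.base (ι₂.base b) = i₂.base (E₂.hom.base b) := fun b => by
    rw [← Scheme.Hom.comp_apply, h₂]; rfl
  have hpre₁ : h.base ⁻¹' Set.range i₁.base = Set.range ι₁.base := by
    refine Set.Subset.antisymm (fun y hy => ?_) ?_
    · rcases hpt y with hy' | ⟨b, rfl⟩
      · exact hy'
      · obtain ⟨a, ha⟩ := hy
        rw [hh₂] at ha
        obtain ⟨q, -, hq⟩ := Scheme.exists_preimage_of_isPullback hP a (E₂.hom.base b) ha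
        obtain ⟨r, hr⟩ : b ∈ Set.range f₂.base := by rw [hR₂]; exact ⟨q, hq⟩
        exact ⟨f₁.base r, by rw [← Scheme.Hom.comp_apply, hf, Scheme.Hom.comp_apply, hr]⟩
    · rintro _ ⟨a, rfl⟩
      exact ⟨E₁.hom.base a, (hh₁ a).symm⟩
  have hpre₂ : h.base ⁻¹' Set.range i₂.base = Set.range ι₂.base := by
    refine Set.Subset.antisymm (fun y hy => ?_) ?_
    · rcases hpt y with ⟨a, rfl⟩ | hy'
      · obtain ⟨b, hb⟩ := hy
        rw [hh₁] at hb
        obtain ⟨q, hq, -⟩ := Scheme.exists_preimage_of_isPullback hP (E₁.hom.base a) b hb.symm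
        obtain ⟨r, hr⟩ : a ∈ Set.range f₁.base := by rw [hR₁]; exact ⟨q, hq⟩
        exact ⟨f₂.base r, by rw [← Scheme.Hom.comp_apply, ← hf, Scheme.Hom.comp_apply, hr]⟩
      · exact hy'
    · rintro _ ⟨b, rfl⟩
      exact ⟨E₂.hom.base b, (hh₂ b).symm⟩
  have sq₁ : IsPullback E₁.hom ι₁ i₁ h := IsOpenImmersion.isPullback _ _ _ _ h₁
    (TopologicalSpace.Opens.ext hpre₁)
  have sq₂ : IsPullback E₂.hom ι₂ i₂ h := IsOpenImmersion.isPullback _ _ _ _ h₂
    (TopologicalSpace.Opens.ext hpre₂)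
  have hprop : FEt.prop h := by
    have htop : (⨆ b : Bool, cond b i₁.opensRange i₂.opensRange) = ⊤ :=
      eq_top_iff.2 fun z _ => TopologicalSpace.Opens.mem_iSup.2 <| (hcov z).elim
        (fun hz => ⟨true, hz⟩) (fun hz => ⟨false, hz⟩)
    have key : ∀ (Q : MorphismProperty Scheme.{u}) [IsZariskiLocalAtTarget Q], Q E₁.hom → Q E₂.hom → Q h := by
      intro Q _ q₁ q₂
      refine IsZariskiLocalAtTarget.of_iSup_eq_top (P := Q) _ htop fun b => ?_
      cases b
      · refine (Q.arrow_mk_iso_iff (morphismRestrictOpensRange h i₂)).2 ?_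
        rw [← sq₂.flip.isoPullback_inv_snd]
        exact (Q.cancel_left_of_respectsIso _ _).2 q₂
      · refine (Q.arrow_mk_iso_iff (morphismRestrictOpensRange h i₁)).2 ?_
        rw [← sq₁.flip.isoPullback_inv_snd]
        exact (Q.cancel_left_of_respectsIso _ _).2 q₁
    exact ⟨key @IsFinite E₁.prop.1 E₂.prop.1, key @Etale E₁.prop.2 E₂.prop.2⟩
  refine ⟨MorphismProperty.Over.mk ⊤ h hprop, ⟨?_⟩⟩
  exact MorphismProperty.Over.isoMk sq₁.flip.isoPullback.symm sq₁.flip.isoPullback_inv_snd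

end Groth.Agent.Pi1Ext.SpreadGlue
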