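import Groth.Agent.Pi1Ext.SpreadLim
import Groth.Agent.Pi1Ext.SpreadGlue
import Groth.Agent.LimSm.HomIso
import Groth.Agent.S12073

/-! Extending finite étale covers of an open subscheme across points, one local ring at a time. -/

set_option autoImplicit false
set_option linter.style.haveILetI false
universe u

open CategoryTheory CategoryTheory.Limits AlgebraicGeometry TopologicalSpace

noncomputable section

namespace Groth.Agent.Pi1Ext.Spread

set_option backward.isDefEq.respectTransparency false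
set_option backward.isDefEq.respectTransparency.types false

open SpreadLim

/-- The underlying isomorphism of an isomorphism of covers. -/
def leftIso {S : Scheme.{u}} {A B : FEt.Cat S} (e : A ≅ B) : A.left ≅ B.left :=
  (MorphismProperty.Over.forget FEt.prop ⊤ S ⋙ CategoryTheory.Over.forget S).mapIso e

theorem leftIso_w {S : Scheme.{u}} {A B : FEt.Cat S} (e : A ≅ B) : (leftIso e).hom ≫ B.hom = A.hom :=
  MorphismProperty.Over.w e.hom

/-- Successive restrictions. -/
def restrictComp {A B C : Scheme.{u}} (f : A ⟶ B) (g : B ⟶ C) (h : A ⟶ C) (w : h = f ≫ g) (E : FEt.Cat C) :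
    (FEt.restrict h).obj E ≅ (FEt.restrict f).obj ((FEt.restrict g).obj E) :=
  (MorphismProperty.Over.pullbackComp f g h w).app E

/-- Restriction along the identity. -/
def restrictId {A : Scheme.{u}} (E : FEt.Cat A) : (FEt.restrict (𝟙 A)).obj E ≅ E :=
  MorphismProperty.Over.isoMk (asIso (pullback.fst E.hom (𝟙 A)))
    (pullback.condition.trans (Category.comp_id _))

/-- Restrictions along two equal composites. -/
def restrictSquare {A B B' C : Scheme.{u}} (f : A ⟶ B) (g : B ⟶ C) (f' : A ⟶ B') (g' : B' ⟶ C)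
    (w : f ≫ g = f' ≫ g') (E : FEt.Cat C) :
    (FEt.restrict f).obj ((FEt.restrict g).obj E) ≅ (FEt.restrict f').obj ((FEt.restrict g').obj E) :=
  (restrictComp f g (f ≫ g) rfl E).symm ≪≫ restrictComp f' g' (f ≫ g) w E

/-- A point outside `U` all of whose proper generisations are in `U`. -/
theorem exists_min_point {X : Scheme.{u}} (U : X.Opens) (hU : U ≠ ⊤) :
    ∃ x : X, x ∉ U ∧ ∀ y : X, y ⤳ x → y ≠ x → y ∈ U := by
  obtain ⟨x₀, hx₀⟩ : ∃ x₀ : X, x₀ ∉ U := by
    by_contra! h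
    exact hU (eq_top_iff.2 fun z _ => h z)
  obtain ⟨_, ⟨W, hW, rfl⟩, hxW, -⟩ := X.isBasis_affineOpens.exists_subset_of_mem_open (Set.mem_univ x₀) isOpen_univ
  obtain ⟨p₀, rfl⟩ : x₀ ∈ Set.range hW.fromSpec.base := by rw [hW.range_fromSpec]; exact hxW
  have hcl : IsClosed (hW.fromSpec.base ⁻¹' (U : Set X))ᶜ := (U.2.preimage hW.fromSpec.continuous).isClosed_compl
  obtain ⟨I, hI⟩ := (PrimeSpectrum.isClosed_iff_zeroLocus_ideal _).1 hcl
  obtain ⟨q, hq, -⟩ := Ideal.exists_minimalPrimes_le (I := I) (J := p₀.asIdeal)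
    (by
      have : p₀ ∈ PrimeSpectrum.zeroLocus (I : Set Γ(X, W)) := hI ▸ hx₀
      exact this)
  let q₀ : PrimeSpectrum Γ(X, W) := ⟨q, hq.1.1⟩
  refine ⟨hW.fromSpec.base q₀, ?_, fun y hy hne => ?_⟩
  · have : q₀ ∈ (hW.fromSpec.base ⁻¹' (U : Set X))ᶜ := hI ▸ (hq.1.2 : q₀ ∈ PrimeSpectrum.zeroLocus (I : Set Γ(X, W)))
    exact this
  · obtain ⟨r, rfl⟩ : y ∈ Set.range hW.fromSpec.base := by
      rw [hW.range_fromSpec]
      exact hy.mem_open W.2 (hW.range_fromSpec.subset ⟨q₀, rfl⟩)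
    have hle : r.asIdeal ≤ q := by
      have : r ⤳ q₀ := hW.fromSpec.isOpenEmbedding.isInducing.specializes_iff.1 hy
      exact (PrimeSpectrum.le_iff_specializes r q₀).2 this
    by_contra hr
    have hrI : I ≤ r.asIdeal := by
      have : r ∈ PrimeSpectrum.zeroLocus (I : Set Γ(X, W)) := hI ▸ hr
      exact this
    exact hne (congrArg hW.fromSpec.base (PrimeSpectrum.ext (le_antisymm hle (hq.2 ⟨r.2, hrI⟩ hle))))

/-- A cover of `U` which extends over `Spec O_x` extends to a larger open containing `x`. -/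
theorem exists_extend_nbhd {X : Scheme.{u}} [IsLocallyNoetherian X] (U : X.Opens) (V : FEt.Cat (U : Scheme.{u}))
    (x : X) (Ex : FEt.Cat (Spec (X.presheaf.stalk x)))
    (ex : (FEt.restrict (pullback.snd U.ι (X.fromSpecStalk x))).obj Ex ≅
      (FEt.restrict (pullback.fst U.ι (X.fromSpecStalk x))).obj V) :
    ∃ (U' : X.Opens) (hle : U ≤ U') (V' : FEt.Cat (U' : Scheme.{u})), x ∈ U' ∧
      Nonempty ((FEt.restrict (X.homOfLE hle)).obj V' ≅ V) := by
  let D := specs X x
  let c := SpreadLim.cone X x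
  have hc : IsLimit c := SpreadLim.isLimit X x
  obtain ⟨W, EW, ⟨eW⟩⟩ := (Groth.Agent.S12073.result D c hc).1 Ex
  let j : D.obj W ⟶ X := toX X x W
  let π : c.pt ⟶ D.obj W := c.π.app W
  let q₁ : pullback U.ι j ⟶ (U : Scheme.{u}) := pullback.fst U.ι j
  let q₂ : pullback U.ι j ⟶ D.obj W := pullback.snd U.ι j
  let p₁ := pullback.fst U.ι (X.fromSpecStalk x)
  let p₂ : pullback U.ι (X.fromSpecStalk x) ⟶ c.pt := pullback.snd U.ι (X.fromSpecStalk x)
  have hπj : π ≫ j = X.fromSpecStalk x := π_toX X x W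
  let t : pullback U.ι (X.fromSpecStalk x) ⟶ pullback U.ι j :=
    pullback.lift p₁ (p₂ ≫ π) (pullback.condition.trans ((congrArg (p₂ ≫ ·) hπj.symm).trans (Category.assoc _ _ _).symm))
  have ht₁ : t ≫ q₁ = p₁ := pullback.lift_fst _ _ _
  have ht₂ : t ≫ q₂ = p₂ ≫ π := pullback.lift_snd _ _ _
  have sq : IsPullback t p₂ q₂ π := by
    refine IsPullback.of_right ?_ ht₂ (IsPullback.of_hasPullback U.ι j)
    show IsPullback (t ≫ q₁) p₂ U.ι (π ≫ j)
    rw [ht₁, hπj]
    exact IsPullback.of_hasPullback U.ι (X.fromSpecStalk x)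
  let A : FEt.Cat (pullback U.ι j) := (FEt.restrict q₂).obj EW
  let B : FEt.Cat (pullback U.ι j) := (FEt.restrict q₁).obj V
  let eI : (FEt.restrict t).obj A ≅ (FEt.restrict t).obj B :=
    restrictSquare t q₂ p₂ π ht₂ EW ≪≫ (FEt.restrict p₂).mapIso eW ≪≫ ex ≪≫
      restrictComp t q₁ p₁ ht₁.symm V
  let a : A.left ⟶ pullback U.ι j := A.hom
  let b : B.left ⟶ pullback U.ι j := B.hom
  haveI : IsFinite a := A.prop.1
  haveI : Etale a := A.prop.2
  haveI : IsFinite b := B.prop.1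
  haveI : Etale b := B.prop.2
  haveI : LocallyOfFiniteType j := inferInstance
  haveI : IsLocallyNoetherian (D.obj W) := LocallyOfFiniteType.isLocallyNoetherian j
  haveI : QuasiCompact q₂ := inferInstance
  have hX := (IsPullback.of_hasPullback a t).paste_vert sq
  have hY := (IsPullback.of_hasPullback b t).paste_vert sq
  obtain ⟨W', φ, e, he⟩ := Groth.Agent.LimSm.exists_iso_stage D c hc W (a ≫ q₂) (b ≫ q₂) _ _ _ _ hX hY
    (leftIso eI) (by rw [← Category.assoc]; exact congrArg (· ≫ p₂) (leftIso_w eI))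
  let j' : D.obj W' ⟶ X := toX X x W'
  let r₁ : pullback U.ι j' ⟶ (U : Scheme.{u}) := pullback.fst U.ι j'
  let r₂ : pullback U.ι j' ⟶ D.obj W' := pullback.snd U.ι j'
  have hφj : D.map φ ≫ j = j' := map_toX X x φ
  let t' : pullback U.ι j' ⟶ pullback U.ι j :=
    pullback.lift r₁ (r₂ ≫ D.map φ) (by rw [Category.assoc, hφj]; exact pullback.condition)
  have ht₁' : t' ≫ q₁ = r₁ := pullback.lift_fst _ _ _
  have ht₂' : t' ≫ q₂ = r₂ ≫ D.map φ := pullback.lift_snd _ _ _
  have sq' : IsPullback t' r₂ q₂ (D.map φ) := by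
    refine IsPullback.of_right ?_ ht₂' (IsPullback.of_hasPullback U.ι j)
    show IsPullback (t' ≫ q₁) r₂ U.ι (D.map φ ≫ j)
    rw [ht₁', hφj]
    exact IsPullback.of_hasPullback U.ι j'
  have sA := (IsPullback.of_hasPullback a t').paste_vert sq'
  have sB := (IsPullback.of_hasPullback b t').paste_vert sq'
  let el : pullback a t' ≅ pullback b t' := sA.isoPullback ≪≫ e ≪≫ sB.isoPullback.symm
  have hel : el.hom ≫ pullback.snd b t' = pullback.snd a t' := by
    rw [← cancel_mono r₂]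
    simp only [el, Iso.trans_hom, Iso.symm_hom, Category.assoc]
    rw [sB.isoPullback_inv_snd, he, sA.isoPullback_hom_snd]
  let eS : (FEt.restrict t').obj A ≅ (FEt.restrict t').obj B := MorphismProperty.Over.isoMk el hel
  let eG : (FEt.restrict r₁).obj V ≅ (FEt.restrict r₂).obj ((FEt.restrict (D.map φ)).obj EW) :=
    restrictComp t' q₁ r₁ ht₁'.symm V ≪≫ eS.symm ≪≫ restrictSquare t' q₂ r₂ (D.map φ) ht₂' EW
  let U' : X.Opens := U ⊔ W'.1
  have hr : Set.range j'.base ⊆ Set.range U'.ι.base := by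
    rw [range_toX, Scheme.Opens.range_ι]
    exact fun z hz => Or.inr hz
  let i₂ : D.obj W' ⟶ (U' : Scheme.{u}) := IsOpenImmersion.lift U'.ι j' hr
  have hi₂ : i₂ ≫ U'.ι = j' := IsOpenImmersion.lift_fac _ _ _
  haveI : IsOpenImmersion i₂ := by
    haveI : IsOpenImmersion (i₂ ≫ U'.ι) := by rw [hi₂]; infer_instance
    exact IsOpenImmersion.of_comp i₂ U'.ι
  have hle : U ≤ U' := le_sup_left
  have hsq : IsPullback r₁ r₂ (X.homOfLE hle) i₂ := by
    refine SpreadGlue.isPullback_of_comp_mono U'.ι ?_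
    rw [X.homOfLE_ι, hi₂]
    exact IsPullback.of_hasPullback U.ι j'
  have hcov : ∀ z : (U' : Scheme.{u}), z ∈ Set.range (X.homOfLE hle).base ∨ z ∈ Set.range i₂.base := by
    intro z
    rcases z.2 with hz | hz
    · exact Or.inl ⟨⟨z.1, hz⟩, Subtype.ext (by
        show U'.ι.base ((X.homOfLE hle).base _) = _
        rw [← Scheme.Hom.comp_apply, X.homOfLE_ι]; rfl)⟩
    · obtain ⟨w, hw⟩ : z.1 ∈ Set.range j'.base := by rw [range_toX]; exact hz
      exact Or.inr ⟨w, Subtype.ext (by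
        show U'.ι.base (i₂.base w) = _
        rw [← Scheme.Hom.comp_apply, hi₂]; exact hw)⟩
  obtain ⟨V', hV'⟩ := SpreadGlue.exists_glue (X.homOfLE hle) i₂ hcov r₁ r₂ hsq V _ eG
  exact ⟨U', hle, V', Or.inr W'.2.2, hV'⟩

/-- If every cover extends across each minimal point outside, it extends everywhere. -/
theorem exists_extend_all {X : Scheme.{u}} [IsNoetherian X] (S : Set X)
    (h : ∀ (U : X.Opens) (V : FEt.Cat (U : Scheme.{u})) (x : X), x ∉ U → x ∈ S →
      (∀ y, y ⤳ x → y ≠ x → y ∈ U) →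
      ∃ Ex : FEt.Cat (Spec (X.presheaf.stalk x)), Nonempty
        ((FEt.restrict (pullback.snd U.ι (X.fromSpecStalk x))).obj Ex ≅
          (FEt.restrict (pullback.fst U.ι (X.fromSpecStalk x))).obj V))
    (U : X.Opens) (hU : ∀ x, x ∉ U → x ∈ S) (V : FEt.Cat (U : Scheme.{u})) :
    ∃ Y : FEt.Cat X, Nonempty ((FEt.restrict U.ι).obj Y ≅ V) := by
  induction U using WellFoundedGT.induction with
  | _ U ih =>
    by_cases hT : U = ⊤
    · subst hT
      haveI : IsIso (⊤ : X.Opens).ι := by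
        rw [← Scheme.topIso_hom]; infer_instance
      refine ⟨(FEt.restrict (inv (⊤ : X.Opens).ι)).obj V, ⟨?_⟩⟩
      exact (restrictComp (⊤ : X.Opens).ι (inv (⊤ : X.Opens).ι) (𝟙 _) (IsIso.hom_inv_id _).symm V).symm ≪≫
        MorphismProperty.Over.isoMk (asIso (pullback.fst V.hom (𝟙 _)))
          (pullback.condition.trans (Category.comp_id _))
    · obtain ⟨x, hx, hmin⟩ := exists_min_point U hT
      obtain ⟨Ex, ⟨ex⟩⟩ := h U V x hx (hU x hx) hmin
      obtain ⟨U', hle, V', hxU', ⟨eV⟩⟩ := exists_extend_nbhd U V x Ex ex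
      obtain ⟨Y, ⟨eY⟩⟩ := ih U' (lt_of_le_of_ne hle fun he => hx (he ▸ hxU'))
        (fun z hz => hU z fun hz' => hz (hle hz')) V'
      exact ⟨Y, ⟨restrictComp (X.homOfLE hle) U'.ι U.ι (X.homOfLE_ι hle).symm Y ≪≫
        (FEt.restrict (X.homOfLE hle)).mapIso eY ≪≫ eV⟩⟩

/-- Purity at a point gives the extension over its local scheme. -/
theorem exists_local_extension {X : Scheme.{u}} (U : X.Opens) (V : FEt.Cat (U : Scheme.{u})) (x : X)
    (hP : FEt.PurityHolds (X.presheaf.stalk x)) (hx : x ∉ U) (hmin : ∀ y, y ⤳ x → y ≠ x → y ∈ U) :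
    ∃ Ex : FEt.Cat (Spec (X.presheaf.stalk x)), Nonempty
      ((FEt.restrict (pullback.snd U.ι (X.fromSpecStalk x))).obj Ex ≅
        (FEt.restrict (pullback.fst U.ι (X.fromSpecStalk x))).obj V) := by
  have he : Set.range (pullback.snd U.ι (X.fromSpecStalk x)).base =
      Set.range (FEt.puncturedSpec (X.presheaf.stalk x)).ι.base := by
    rw [Scheme.Pullback.range_snd, Scheme.Opens.range_ι, Scheme.Opens.range_ι]
    ext q
    show (X.fromSpecStalk x).base q ∈ U ↔ q ≠ IsLocalRing.closedPoint _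
    constructor
    · rintro hq rfl
      rw [Scheme.fromSpecStalk_closedPoint] at hq
      exact hx hq
    · intro hq
      refine hmin _ ?_ fun hqx => hq ?_
      · exact (Scheme.range_fromSpecStalk (X := X)).subset ⟨q, rfl⟩
      · exact (X.fromSpecStalk x).isEmbedding.injective (hqx.trans Scheme.fromSpecStalk_closedPoint.symm)
  let κ := IsOpenImmersion.isoOfRangeEq _ _ he
  haveI : (FEt.restrict (FEt.puncturedSpec (X.presheaf.stalk x)).ι).EssSurj := hP
  let T := (FEt.restrict κ.inv).obj ((FEt.restrict (pullback.fst U.ι (X.fromSpecStalk x))).obj V)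
  let T' : FEt.Cat (FEt.puncturedSpec (X.presheaf.stalk x) : Scheme.{u}) := T
  let E := (FEt.restrict (FEt.puncturedSpec (X.presheaf.stalk x)).ι).objPreimage T'
  refine ⟨E, ⟨restrictComp κ.hom (FEt.puncturedSpec (X.presheaf.stalk x)).ι _
    (IsOpenImmersion.isoOfRangeEq_hom_fac _ _ he).symm E ≪≫
    (FEt.restrict κ.hom).mapIso ((FEt.restrict (FEt.puncturedSpec (X.presheaf.stalk x)).ι).objObjPreimageIso T') ≪≫
    (restrictComp κ.hom κ.inv (𝟙 _) κ.hom_inv_id.symm _).symm ≪≫
    restrictId _⟩⟩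

end Groth.Agent.Pi1Ext.Spread
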