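import Groth.Agent.Pi1Ext.Spread
import Groth.Agent.Pi1X.FEtBasic

/-! Maximal extensions of a finite étale cover of a dense open subscheme. -/

set_option autoImplicit false
set_option linter.style.haveILetI false
universe u

open CategoryTheory CategoryTheory.Limits AlgebraicGeometry TopologicalSpace

noncomputable section

namespace Groth.Agent.Pi1Ext.ExtZorn

set_option backward.isDefEq.respectTransparency false
set_option backward.isDefEq.respectTransparency.types false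

variable {X : Scheme.{u}} (U : X.Opens) (Y : FEt.Cat (U : Scheme.{u}))

/-- An extension of `Y` to an open containing `U`. -/
structure Ext where
  O : X.Opens
  le : U ≤ O
  E : FEt.Cat (O : Scheme.{u})
  y : Y.left ⟶ E.left
  sq : IsPullback y Y.hom E.hom (X.homOfLE le)

variable {U Y}

/-- The order on extensions. -/
def Rel (a b : Ext U Y) : Prop :=
  ∃ (h : a.O ≤ b.O) (φ : a.E.left ⟶ b.E.left), IsPullback φ a.E.hom b.E.hom (X.homOfLE h) ∧ a.y ≫ φ = b.y

theorem rel_trans {a b c : Ext U Y} (h : Rel a b) (h' : Rel b c) : Rel a c := by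
  obtain ⟨hab, φ, sφ, hφ⟩ := h
  obtain ⟨hbc, ψ, sψ, hψ⟩ := h'
  refine ⟨hab.trans hbc, φ ≫ ψ, ?_, by rw [← Category.assoc, hφ, hψ]⟩
  rw [← X.homOfLE_homOfLE hab hbc]
  exact sφ.paste_horiz sψ

theorem rel_refl (a : Ext U Y) : Rel a a :=
  ⟨le_rfl, 𝟙 _, by rw [X.homOfLE_rfl]; exact IsPullback.id_horiz _, Category.comp_id _⟩

/-- Maps of extensions are unique. -/
theorem hom_unique (hU : Dense (U : Set X)) {a b : Ext U Y} {h : a.O ≤ b.O} {φ ψ : a.E.left ⟶ b.E.left}
    (hφ : φ ≫ b.E.hom = a.E.hom ≫ X.homOfLE h) (hψ : ψ ≫ b.E.hom = a.E.hom ≫ X.homOfLE h)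
    (e : a.y ≫ φ = a.y ≫ ψ) : φ = ψ := by
  let p : b.E.left ⟶ (b.O : Scheme.{u}) := b.E.hom
  let q : a.E.left ⟶ (a.O : Scheme.{u}) := a.E.hom
  haveI : IsFinite p := b.E.prop.1
  haveI : Etale p := b.E.prop.2
  haveI : Etale q := a.E.prop.2
  obtain ⟨W, hW, hWeq, hWz⟩ := Pi1X.exists_isClopen_eqLocus p φ ψ (hφ.trans hψ.symm)
  refine hWeq ?_
  by_contra hne
  obtain ⟨w, hw⟩ := Set.nonempty_compl.2 hne
  have hopen : IsOpen (a.O.ι.base '' (q.base '' Wᶜ)) :=
    a.O.ι.isOpenEmbedding.isOpenMap _ (q.isOpenMap _ hW.compl.2)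
  obtain ⟨_, ⟨z, ⟨v, hv, rfl⟩, rfl⟩, hz⟩ := hU.inter_open_nonempty _ hopen ⟨_, _, ⟨w, hw, rfl⟩, rfl⟩
  obtain ⟨r, hr, -⟩ := Scheme.exists_preimage_of_isPullback a.sq v (⟨_, hz⟩ : (U : Scheme.{u}))
    (a.O.ι.isOpenEmbedding.injective (by
      show a.O.ι.base (q.base v) = a.O.ι.base ((X.homOfLE a.le).base _)
      rw [← Scheme.Hom.comp_apply (X.homOfLE a.le) a.O.ι, X.homOfLE_ι]
      rfl))
  exact hv (hr ▸ hWz a.y e ⟨r, rfl⟩)

theorem rel_of_le_of_rel {a b : Ext U Y} (hba : Rel b a) (hle : a.O ≤ b.O) : Rel a b := by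
  obtain ⟨hab', φ, sφ, hφ⟩ := hba
  haveI : IsIso (X.homOfLE hab') := ⟨X.homOfLE hle, by rw [X.homOfLE_homOfLE, X.homOfLE_rfl],
    by rw [X.homOfLE_homOfLE, X.homOfLE_rfl]⟩
  haveI : IsIso (X.homOfLE hle) := ⟨X.homOfLE hab', by rw [X.homOfLE_homOfLE, X.homOfLE_rfl],
    by rw [X.homOfLE_homOfLE, X.homOfLE_rfl]⟩
  haveI : IsIso φ := MorphismProperty.of_isPullback (P := MorphismProperty.isomorphisms Scheme) sφ.flip
    (show IsIso (X.homOfLE hab') by infer_instance)
  refine ⟨hle, inv φ, IsPullback.of_horiz_isIso ⟨?_⟩, by rw [← hφ, Category.assoc, IsIso.hom_inv_id, Category.comp_id]⟩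
  rw [IsIso.inv_comp_eq, ← Category.assoc, sφ.w, Category.assoc, X.homOfLE_homOfLE, X.homOfLE_rfl]
  exact (Category.comp_id _).symm

/-- The tautological extension. -/
def base : Ext U Y where
  O := U
  le := le_rfl
  E := Y
  y := 𝟙 _
  sq := by rw [X.homOfLE_rfl]; exact IsPullback.id_horiz _

/-- Gluing covers along a directed cover. -/
theorem exists_glued {S : Scheme.{u}} (𝒰 : Scheme.OpenCover.{u} S) [Category.{u} 𝒰.I₀] [𝒰.LocallyDirected]
    [Small.{u} 𝒰.I₀] [Quiver.IsThin 𝒰.I₀] (d : Scheme.Cover.RelativeGluingData 𝒰)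
    (hd : ∀ i, FEt.prop (d.natTrans.app i)) :
    ∃ (G : Scheme.{u}) (h : G ⟶ S) (ι : ∀ i, d.functor.obj i ⟶ G), FEt.prop h ∧
      (∀ i, IsPullback (d.natTrans.app i) (ι i) (𝒰.f i) h) ∧
      ∀ {i j : 𝒰.I₀} (f : i ⟶ j), d.functor.map f ≫ ι j = ι i := by
  refine ⟨d.glued, d.toBase, colimit.ι d.functor, ?_, d.isPullback_natTrans_ι_toBase,
    fun f => colimit.w d.functor f⟩
  have htop : (⨆ i : 𝒰.I₀, (𝒰.f i).opensRange) = ⊤ := eq_top_iff.2 fun z _ => by
    obtain ⟨w, hw⟩ := 𝒰.covers z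
    exact Opens.mem_iSup.2 ⟨𝒰.idx z, w, hw⟩
  have key : ∀ (Q : MorphismProperty Scheme.{u}) [IsZariskiLocalAtTarget Q],
      (∀ i, Q (d.natTrans.app i)) → Q d.toBase := by
    intro Q _ q
    refine IsZariskiLocalAtTarget.of_iSup_eq_top (P := Q) _ htop fun i => ?_
    refine (Q.arrow_mk_iso_iff (morphismRestrictOpensRange d.toBase (𝒰.f i))).2 ?_
    rw [← (d.isPullback_natTrans_ι_toBase i).flip.isoPullback_inv_snd]
    exact (Q.cancel_left_of_respectsIso _ _).2 (q i)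
  exact ⟨key @IsFinite fun i => (hd i).1, key @Etale fun i => (hd i).2⟩

/-- A chain has an upper bound. -/
theorem exists_bound (hU : Dense (U : Set X)) (c : Set (Ext U Y)) (hc : IsChain Rel c) :
    ∃ b : Ext U Y, ∀ a ∈ c, Rel a b := by
  rcases c.eq_empty_or_nonempty with rfl | ⟨a₀, ha₀⟩
  · exact ⟨base, fun a ha => ha.elim⟩
  let J : Type u := {O : X.Opens // ∃ a ∈ c, a.O = O}
  let pick : J → Ext U Y := fun O => O.2.choose
  have hpick : ∀ O, pick O ∈ c ∧ (pick O).O = O.1 := fun O => O.2.choose_spec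
  have htot : ∀ {a b : Ext U Y}, a ∈ c → b ∈ c → a.O ≤ b.O → Rel a b := fun {a b} ha hb hle => by
    rcases eq_or_ne a b with rfl | hne
    · exact rel_refl a
    rcases hc ha hb hne with h | h
    · exact h
    · exact rel_of_le_of_rel h hle
  have hmono : ∀ {O O' : J}, O.1 ≤ O'.1 → Rel (pick O) (pick O') := fun {O O'} h =>
    htot (hpick O).1 (hpick O').1 (by rw [(hpick O).2, (hpick O').2]; exact h)
  let Os : X.Opens := ⨆ O : J, (pick O).O
  have hOs : ∀ O : J, (pick O).O ≤ Os := fun O => le_iSup (fun O : J => (pick O).O) O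
  let 𝒰 : Scheme.OpenCover.{u} (Os : Scheme.{u}) :=
    Scheme.Cover.mkOfCovers J (fun O => ((pick O).O : Scheme.{u})) (fun O => X.homOfLE (hOs O))
      (fun z => by
        obtain ⟨O, hO⟩ := Opens.mem_iSup.1 z.2
        refine ⟨O, ⟨z.1, hO⟩, Os.ι.isOpenEmbedding.injective ?_⟩
        rw [← Scheme.Hom.comp_apply, X.homOfLE_ι]
        rfl)
      (fun O => inferInstanceAs (IsOpenImmersion (X.homOfLE (hOs O))))
  letI : Preorder 𝒰.I₀ := inferInstanceAs (Preorder J)
  have hR : ∀ {i j : 𝒰.I₀}, (i ⟶ j) → Rel (pick i) (pick j) := fun {i j} f => hmono (leOfHom f)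
  letI : Scheme.Cover.LocallyDirected 𝒰 :=
    { trans := fun {i j} f => X.homOfLE (hR f).choose
      trans_id := fun i => X.homOfLE_rfl _
      trans_comp := fun {i j k} f g => (X.homOfLE_homOfLE _ _).symm
      w := fun {i j} f => X.homOfLE_homOfLE (hR f).choose (hOs j)
      directed := fun {i j} x => by
        have key : ∀ (i j : 𝒰.I₀) (f : i ⟶ j) (z : 𝒰.X i) (w : 𝒰.X j), 𝒰.f i z = 𝒰.f j w →
            X.homOfLE (hR f).choose z = w := fun i j f z w hzw => by
          refine (𝒰.f j).isOpenEmbedding.injective ?_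
          show (X.homOfLE (hR f).choose ≫ X.homOfLE (hOs j)) z = _
          rw [X.homOfLE_homOfLE]
          exact hzw
        let xi := pullback.fst (𝒰.f i) (𝒰.f j) x
        let xj := pullback.snd (𝒰.f i) (𝒰.f j) x
        have hx : 𝒰.f i xi = 𝒰.f j xj := by
          rw [← Scheme.Hom.comp_apply, ← Scheme.Hom.comp_apply, pullback.condition]
        have hij : i ≤ j ∨ j ≤ i := by
          rcases eq_or_ne (pick i) (pick j) with he | hne
          · exact Or.inl (show i.1 ≤ j.1 by rw [← (hpick i).2, ← (hpick j).2, he])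
          rcases hc (hpick i).1 (hpick j).1 hne with ⟨h, -⟩ | ⟨h, -⟩
          · exact Or.inl (show i.1 ≤ j.1 by rw [← (hpick i).2, ← (hpick j).2]; exact h)
          · exact Or.inr (show j.1 ≤ i.1 by rw [← (hpick i).2, ← (hpick j).2]; exact h)
        rcases hij with h | h
        · refine ⟨i, 𝟙 i, homOfLE h, xi, (pullback.fst (𝒰.f i) (𝒰.f j)).isOpenEmbedding.injective ?_⟩
          rw [← Scheme.Hom.comp_apply, pullback.lift_fst]
          exact key i i (𝟙 i) xi xi rfl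
        · refine ⟨j, homOfLE h, 𝟙 j, xj, (pullback.snd (𝒰.f i) (𝒰.f j)).isOpenEmbedding.injective ?_⟩
          rw [← Scheme.Hom.comp_apply, pullback.lift_snd]
          exact key j j (𝟙 j) xj xj rfl
      property_trans := fun {i j} f => inferInstanceAs (IsOpenImmersion (X.homOfLE (hR f).choose)) }
  let Φ : ∀ {i j : 𝒰.I₀} (_ : i ⟶ j), (pick i).E.left ⟶ (pick j).E.left := fun f => (hR f).choose_spec.choose
  have hΦ : ∀ {i j : 𝒰.I₀} (f : i ⟶ j), IsPullback (Φ f) (pick i).E.hom (pick j).E.hom (𝒰.trans f) ∧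
      (pick i).y ≫ Φ f = (pick j).y := fun f => (hR f).choose_spec.choose_spec
  let F : 𝒰.I₀ ⥤ Scheme.{u} :=
    { obj := fun i => (pick i).E.left
      map := Φ
      map_id := fun i => hom_unique hU (h := le_rfl) (hΦ (𝟙 i)).1.w (by
          show 𝟙 (pick i).E.left ≫ _ = _
          rw [X.homOfLE_rfl, Category.id_comp]
          exact (Category.comp_id _).symm)
        (by rw [(hΦ (𝟙 i)).2]; exact (Category.comp_id _).symm)
      map_comp := fun {i j k} f g => hom_unique hU (h := (hR (f ≫ g)).choose) (hΦ (f ≫ g)).1.w (by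
          show (Φ f ≫ Φ g) ≫ _ = _
          rw [Category.assoc, (hΦ g).1.w, ← Category.assoc, (hΦ f).1.w, Category.assoc]
          congr 1
          exact X.homOfLE_homOfLE (hR f).choose (hR g).choose)
        (by rw [(hΦ (f ≫ g)).2, ← Category.assoc, (hΦ f).2, (hΦ g).2]) }
  let nt : F ⟶ 𝒰.functorOfLocallyDirected :=
    { app := fun i => (pick i).E.hom
      naturality := fun i j f => (hΦ f).1.w }
  have heq : nt.Equifibered := fun {i j} f => (hΦ f).1
  haveI : Quiver.IsThin 𝒰.I₀ := fun i j => inferInstance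
  haveI : Small.{u} 𝒰.I₀ := inferInstanceAs (Small.{u} J)
  let d : Scheme.Cover.RelativeGluingData 𝒰 := ⟨F, nt, heq⟩
  obtain ⟨G, h, ι, hprop, sqι, hw⟩ := exists_glued 𝒰 d (fun i => (pick i).E.prop)
  let O₀ : J := ⟨a₀.O, a₀, ha₀, rfl⟩
  let b : Ext U Y :=
    { O := Os
      le := (pick O₀).le.trans (hOs O₀)
      E := MorphismProperty.Over.mk ⊤ h hprop
      y := (pick O₀).y ≫ ι O₀
      sq := by
        rw [← X.homOfLE_homOfLE (pick O₀).le (hOs O₀)]
        exact (pick O₀).sq.paste_horiz (sqι O₀).flip }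
  refine ⟨b, fun a ha => ?_⟩
  let Oa : J := ⟨a.O, a, ha, rfl⟩
  refine rel_trans (htot ha (hpick Oa).1 (hpick Oa).2.ge) ⟨hOs Oa, ι Oa, (sqι Oa).flip, ?_⟩
  have hc' : ∀ {i j : 𝒰.I₀} (_ : i ⟶ j), (pick i).y ≫ ι i = (pick j).y ≫ ι j := fun {i j} f => by
    rw [← (hΦ f).2, Category.assoc]
    exact congrArg (_ ≫ ·) (hw f).symm
  rcases eq_or_ne (pick Oa) (pick O₀) with he | hne
  · exact hc' (homOfLE (show Oa.1 ≤ O₀.1 by rw [← (hpick Oa).2, ← (hpick O₀).2, he]) : (Oa : 𝒰.I₀) ⟶ O₀)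
  rcases hc (hpick Oa).1 (hpick O₀).1 hne with ⟨hl, -⟩ | ⟨hl, -⟩
  · exact hc' (homOfLE (show Oa.1 ≤ O₀.1 by rw [← (hpick Oa).2, ← (hpick O₀).2]; exact hl) : (Oa : 𝒰.I₀) ⟶ O₀)
  · exact (hc' (homOfLE (show O₀.1 ≤ Oa.1 by rw [← (hpick Oa).2, ← (hpick O₀).2]; exact hl) : (O₀ : 𝒰.I₀) ⟶ Oa)).symm

/-- A cover of a dense open extends if every extension extends across the minimal points left over. -/
theorem exists_extension [IsLocallyNoetherian X] (hU : Dense (U : Set X))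
    (h : ∀ (a : Ext U Y) (x : X), x ∉ a.O → (∀ z, z ⤳ x → z ≠ x → z ∈ a.O) →
      ∃ Ex : FEt.Cat (Spec (X.presheaf.stalk x)), Nonempty
        ((FEt.restrict (pullback.snd a.O.ι (X.fromSpecStalk x))).obj Ex ≅
          (FEt.restrict (pullback.fst a.O.ι (X.fromSpecStalk x))).obj a.E)) :
    ∃ Y' : FEt.Cat X, Nonempty ((FEt.restrict U.ι).obj Y' ≅ Y) := by
  obtain ⟨m, hm⟩ := exists_maximal_of_chains_bounded (r := Rel (U := U) (Y := Y))
    (exists_bound hU) fun {a b c} => rel_trans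
  have htop : m.O = ⊤ := by
    by_contra hne
    obtain ⟨x, hx, hmin⟩ := Spread.exists_min_point m.O hne
    obtain ⟨Ex, ⟨ex⟩⟩ := h m x hx hmin
    obtain ⟨U', hle, V', hxU', ⟨eV⟩⟩ := Spread.exists_extend_nbhd m.O m.E x Ex ex
    let φ : m.E.left ⟶ V'.left := (Spread.leftIso eV).inv ≫ pullback.fst V'.hom (X.homOfLE hle)
    have sφ : IsPullback φ m.E.hom V'.hom (X.homOfLE hle) := by
      refine IsPullback.of_iso_pullback ⟨?_⟩ (Spread.leftIso eV).symm rfl ?_
      · rw [Category.assoc, pullback.condition, ← Category.assoc]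
        congr 1
        rw [Iso.inv_comp_eq]
        exact (Spread.leftIso_w eV).symm
      · rw [Iso.symm_hom, Iso.inv_comp_eq]
        exact (Spread.leftIso_w eV).symm
    let m' : Ext U Y :=
      { O := U'
        le := m.le.trans hle
        E := V'
        y := m.y ≫ φ
        sq := by rw [← X.homOfLE_homOfLE m.le hle]; exact m.sq.paste_horiz sφ }
    obtain ⟨hle', -⟩ := hm m' ⟨hle, φ, sφ, rfl⟩
    exact hx (hle' hxU')
  obtain ⟨O, le, E, y, sq⟩ := m
  cases htop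
  haveI : IsIso (⊤ : X.Opens).ι := by rw [← Scheme.topIso_hom]; infer_instance
  let e : E.left ⟶ ((⊤ : X.Opens) : Scheme.{u}) := E.hom
  have hE : FEt.prop (e ≫ (⊤ : X.Opens).ι) := by
    rw [MorphismProperty.cancel_right_of_respectsIso (P := FEt.prop)]
    exact E.prop
  have sq' : IsPullback y Y.hom (e ≫ (⊤ : X.Opens).ι) U.ι := by
    have h2 : IsPullback (X.homOfLE le) (𝟙 (U : Scheme.{u})) (⊤ : X.Opens).ι U.ι := by
      refine (IsPullback.of_vert_isIso_mono ⟨?_⟩)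
      rw [Category.id_comp]
      exact X.homOfLE_ι le
    simpa using sq.paste_vert h2
  exact ⟨MorphismProperty.Over.mk ⊤ (e ≫ (⊤ : X.Opens).ι) hE,
    ⟨MorphismProperty.Over.isoMk sq'.isoPullback.symm sq'.isoPullback_inv_snd⟩⟩

end Groth.Agent.Pi1Ext.ExtZorn
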