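import Groth.Agent.Pi1Ext.FlatHartogs
import Groth.Agent.Pi1Ext.PuritySch
import Groth.Agent.Pi1Ext.ExtZorn
import Groth.Agent.H23.FFDescent
import Groth.Agent.Synt29.SmoothProps

/-! Purity descends along faithfully flat maps. -/

set_option autoImplicit false
set_option linter.style.haveILetI false
universe u

open CategoryTheory CategoryTheory.Limits AlgebraicGeometry IsLocalRing TensorProduct

noncomputable section

namespace Groth.Agent.Pi1Ext.PureDescent

open PuritySch

set_option backward.isDefEq.respectTransparency false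
set_option backward.isDefEq.respectTransparency.types false

/-- Depth at the closed point. -/
theorem depth_of_notMem_punctured (A : Type u) [CommRing A] [IsLocalRing A] (hA : (2 : ℕ∞) ≤ LocCoh.depth A A)
    (x : Spec (CommRingCat.of A)) (hx : x ∉ FEt.puncturedSpec A) :
    (2 : ℕ∞) ≤ LocCoh.depth ((Spec (CommRingCat.of A)).presheaf.stalk x) ((Spec (CommRingCat.of A)).presheaf.stalk x) := by
  obtain rfl : x = IsLocalRing.closedPoint A := not_not.1 hx
  rwa [Synt29.SmoothProps.depth_congr_ring (stalkClosedPointIso (CommRingCat.of A)).commRingCatIsoToRingEquiv]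

theorem exists_local (A : Type u) [CommRing A] [IsLocalRing A] [IsNoetherianRing A]
    (hA : (2 : ℕ∞) ≤ LocCoh.depth A A) (B' : Type u) [CommRing B'] [IsLocalRing B'] [Algebra A B'] [Module.Flat A B']
    [IsLocalHom (algebraMap A B')] (W : FEt.Cat (FEt.puncturedSpec A : Scheme.{u}))
    (D : FEt.Cat (Spec (CommRingCat.of B')))
    (e : (FEt.restrict (pullback.snd (FEt.puncturedSpec A).ι (sp A B'))).obj D ≅
      (FEt.restrict (pullback.fst (FEt.puncturedSpec A).ι (sp A B'))).obj W) :
    ∃ E : FEt.Cat (Spec (CommRingCat.of A)), Nonempty ((FEt.restrict (FEt.puncturedSpec A).ι).obj E ≅ W) := by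
  haveI : Module.FaithfullyFlat A B' := Module.FaithfullyFlat.of_flat_of_isLocalHom
  haveI hflat : Flat (sp A B') := Flat.SpecMap_iff.2 (RingHom.flat_algebraMap_iff.2 inferInstance)
  let ιP := (FEt.puncturedSpec A).ι
  let w : W.left ⟶ (FEt.puncturedSpec A : Scheme.{u}) := W.hom
  haveI : IsFinite w := W.prop.1
  let h : W.left ⟶ Spec (CommRingCat.of A) := w ≫ ιP
  haveI : CompactSpace W.left := QuasiCompact.compactSpace_of_compactSpace w
  haveI : QuasiSeparatedSpace W.left := by
    haveI : QuasiSeparated h := inferInstance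
    exact quasiSeparatedSpace_of_quasiSeparated h
  let B : Type u := Γ(W.left, ⊤)
  let φ : CommRingCat.of A ⟶ CommRingCat.of B := (Scheme.ΓSpecIso (CommRingCat.of A)).inv ≫ h.appTop
  letI : Algebra A B := φ.hom.toAlgebra
  let a : W.left ⟶ Spec (CommRingCat.of B) := W.left.toSpecΓ
  have hab : a ≫ sp A B = h := by
    show a ≫ Spec.map φ = h
    rw [Spec.map_comp, ← Category.assoc, ← Scheme.toSpecΓ_naturality, Category.assoc]
    simp [toSpecΓ_SpecMap_ΓSpecIso_inv]
  -- the model restricts to `W`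
  let jB : pullback (sp A B) ιP ⟶ Spec (CommRingCat.of B) := pullback.fst _ _
  let q : W.left ⟶ pullback (sp A B) ιP := pullback.lift a w hab
  have hq1 : q ≫ jB = a := pullback.lift_fst _ _ _
  have hq2 : q ≫ rest A B = w := pullback.lift_snd _ _ _
  haveI : IsIso q := by
    refine IsZariskiLocalAtTarget.of_openCover (P := MorphismProperty.isomorphisms Scheme)
      ((cover A).pullback₁ (rest A B)) fun g => ?_
    let ρg := ρ g.2
    let k : pullback (rest A B) ρg ⟶ pullback (sp A B) ιP := pullback.fst _ _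
    show IsIso (pullback.snd q k)
    let Ag := Localization.Away g.1
    let z : pullback (sp A Ag) (sp A B) ⟶ Spec (CommRingCat.of B) := pullback.snd _ _
    haveI : Flat (Spec.map (CommRingCat.ofHom (algebraMap A Ag))) :=
      Flat.SpecMap_iff.2 (RingHom.flat_algebraMap_iff.2 (IsLocalization.flat Ag (Submonoid.powers g.1)))
    haveI : IsAffine (pullback (sp A Ag) h) := by
      have hsq : IsPullback (pullback.fst (sp A Ag) h) (pullback.snd (sp A Ag) h) ρg w := by
        refine SpreadGlue.isPullback_of_comp_mono ιP ?_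
        rw [ρ_ι]
        exact IsPullback.of_hasPullback (sp A Ag) h
      haveI : IsAffineHom (pullback.fst (sp A Ag) h) :=
        MorphismProperty.of_isPullback (P := @IsAffineHom) hsq.flip (inferInstanceAs (IsAffineHom w))
      exact isAffine_of_isAffineHom (pullback.fst (sp A Ag) h)
    haveI hz : IsIso (pullback.snd a z) := H23.FFDescent.isIso_toSpecΓ_baseChange
      (CommRingCat.ofHom (algebraMap A Ag)) h (sp A B) hab
    have e1 : IsPullback (k ≫ jB) (pullback.snd (rest A B) ρg) (sp A B) (sp A Ag) := by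
      have := (IsPullback.of_hasPullback (rest A B) ρg).paste_horiz (IsPullback.of_hasPullback (sp A B) ιP)
      rwa [ρ_ι] at this
    let ε := e1.isoIsPullback _ _ (IsPullback.of_hasPullback (sp A Ag) (sp A B)).flip
    have hε : ε.hom ≫ z = k ≫ jB := IsPullback.isoIsPullback_hom_fst _ _ _ _
    have hqid : IsPullback (𝟙 W.left) q a jB := by
      refine ⟨⟨by rw [Category.id_comp, hq1]⟩, ⟨PullbackCone.IsLimit.mk _ (fun s => s.fst) (fun s => ?_)
        (fun s => ?_) fun s m h₁ h₂ => ?_⟩⟩
      · exact Category.comp_id _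
      · rw [← cancel_mono jB, Category.assoc, hq1, s.condition]
      · rw [← h₁, Category.comp_id]
    have s1 : IsPullback (pullback.fst q k ≫ 𝟙 W.left) (pullback.snd q k) a (k ≫ jB) :=
      (IsPullback.of_hasPullback q k).paste_horiz hqid
    rw [← hε] at s1
    let l : pullback q k ⟶ pullback a z :=
      pullback.lift (pullback.fst q k ≫ 𝟙 W.left) (pullback.snd q k ≫ ε.hom) (by rw [Category.assoc]; exact s1.w)
    have hl : IsPullback l (pullback.snd q k) (pullback.snd a z) ε.hom := by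
      refine IsPullback.of_right ?_ (pullback.lift_snd _ _ _) (IsPullback.of_hasPullback a z)
      rw [pullback.lift_fst]
      exact s1
    exact MorphismProperty.of_isPullback (P := MorphismProperty.isomorphisms Scheme) hl hz
  -- the base change to `B'` is finite étale
  let T := pullback (sp A B') (sp A B)
  let P := pullback (sp A B') h
  let m : P ⟶ T := pullback.lift (pullback.fst _ _) (pullback.snd _ _ ≫ a)
    (by rw [Category.assoc, hab]; exact pullback.condition)
  have hm : IsIso m.appTop := by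
    have sqT : IsPullback (pullback.snd (sp A B') (sp A B)) (pullback.fst (sp A B') (sp A B)) (sp A B) (sp A B') :=
      (IsPullback.of_hasPullback _ _).flip
    have sqP : IsPullback (pullback.snd (sp A B') h) (pullback.fst (sp A B') h) h (sp A B') :=
      (IsPullback.of_hasPullback _ _).flip
    have poP := (isIso_pushoutSection_iff sqP (US := ⊤) (UT := ⊤) (UX := ⊤) (UY := ⊤) (by simp) (by simp)
      (by simp)).mp (isIso_pushoutSection_of_isQuasiSeparated_of_flat_right sqP _ _ _
        (isAffineOpen_top _) (isAffineOpen_top _) (by simpa using CompactSpace.isCompact_univ)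
        (by simpa using isQuasiSeparated_univ))
    have poT := (isIso_pushoutSection_iff sqT (US := ⊤) (UT := ⊤) (UX := ⊤) (UY := ⊤) (by simp) (by simp)
      (by simp)).mp (isIso_pushoutSection_of_isAffineOpen sqT _ _ _
        (isAffineOpen_top _) (isAffineOpen_top _) (isAffineOpen_top _))
    simp only [Scheme.Hom.appLE, TopologicalSpace.Opens.map_top, homOfLE_refl, op_id, CategoryTheory.Functor.map_id, Category.comp_id] at poP poT
    haveI : IsIso a.appTop := by
      show IsIso W.left.toSpecΓ.appTop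
      rw [Scheme.toSpecΓ_appTop]
      infer_instance
    have poP' : IsPushout (sp A B).appTop (sp A B').appTop (a.appTop ≫ (pullback.snd (sp A B') h).appTop)
        (pullback.fst (sp A B') h).appTop := by
      refine poP.of_iso (Iso.refl _) (asIso a.appTop).symm (Iso.refl _) (Iso.refl _) ?_ (by simp) (by simp) (by simp)
      simp only [Iso.symm_hom, asIso_inv, Iso.refl_hom, Category.id_comp, IsIso.comp_inv_eq]
      exact (congrArg Scheme.Hom.appTop hab).symm.trans (Scheme.Hom.comp_appTop a (sp A B))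
    have : m.appTop = (poT.isoIsPushout _ _ poP').hom := by
      apply poT.hom_ext <;> simp only [IsPushout.inl_isoIsPushout_hom, IsPushout.inr_isoIsPushout_hom,
        ← Scheme.Hom.comp_appTop] <;> congr 1 <;> simp [m]
    rw [this]; infer_instance
  -- compare with `D`
  let q₁ := pullback.fst ιP (sp A B')
  let q₂ := pullback.snd ιP (sp A B')
  let d : D.left ⟶ Spec (CommRingCat.of B') := D.hom
  haveI : IsFinite d := D.prop.1
  haveI : Etale d := D.prop.2
  haveI : IsAffine D.left := isAffine_of_isAffineHom d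
  let j : pullback d q₂ ⟶ D.left := pullback.fst d q₂
  haveI : IsOpenImmersion j := MorphismProperty.pullback_fst _ _ inferInstance
  have hj : IsIso j.appTop := by
    refine (ConcreteCategory.isIso_iff_bijective _).2 (FlatHartogs.bijective_appTop (d ≫ sp A B')
      (FEt.puncturedSpec A) (depth_of_notMem_punctured A hA) j ?_)
    intro z hz
    show z ∈ Set.range (pullback.fst d q₂).base
    rw [Scheme.Pullback.range_fst]
    show d.base z ∈ Set.range (pullback.snd ιP (sp A B')).base
    rw [Scheme.Pullback.range_snd, Scheme.Opens.range_ι]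
    exact hz
  let el : pullback d q₂ ⟶ pullback w q₁ := e.hom.left
  haveI : IsIso el := inferInstanceAs (IsIso ((MorphismProperty.Over.forget FEt.prop ⊤ _ ⋙ CategoryTheory.Over.forget _).map e.hom))
  have hel : el ≫ pullback.snd w q₁ = pullback.snd d q₂ := MorphismProperty.Over.w e.hom
  have sW : IsPullback (pullback.snd w q₁ ≫ q₂) (pullback.fst w q₁) (sp A B') h :=
    (IsPullback.of_hasPullback w q₁).flip.paste_horiz (IsPullback.of_hasPullback ιP (sp A B')).flip
  let θ : pullback d q₂ ⟶ T := el ≫ (sW.isoPullback).hom ≫ m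
  have hθ : θ ≫ pullback.fst _ _ = j ≫ d := by
    rw [Category.assoc, Category.assoc, show m ≫ pullback.fst _ _ = pullback.fst (sp A B') h from pullback.lift_fst _ _ _,
      sW.isoPullback_hom_fst, ← Category.assoc el, hel, pullback.condition]
  haveI : IsIso θ.appTop := by
    simp only [θ, Scheme.Hom.comp_appTop]; infer_instance
  let ψ : Γ(T, ⊤) ⟶ Γ(D.left, ⊤) := θ.appTop ≫ inv j.appTop
  let r : D.left ⟶ T := D.left.isoSpec.hom ≫ Spec.map ψ ≫ T.isoSpec.inv
  have hr : r ≫ pullback.fst (sp A B') (sp A B) = d := by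
    have h1 : (pullback.fst (sp A B') (sp A B)).appTop ≫ ψ = d.appTop := by
      rw [← Category.assoc, ← Scheme.Hom.comp_appTop, hθ, Scheme.Hom.comp_appTop, Category.assoc,
        IsIso.hom_inv_id, Category.comp_id]
    rw [Category.assoc, Category.assoc, ← Scheme.isoSpec_inv_naturality, ← Spec.map_comp_assoc, h1,
      Scheme.isoSpec_inv_naturality, Iso.hom_inv_id_assoc]
  have hT : FEt.prop (pullback.fst (sp A B') (sp A B)) := by
    rw [← MorphismProperty.cancel_left_of_respectsIso (P := FEt.prop) r, hr]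
    exact D.prop
  rw [← MorphismProperty.cancel_left_of_respectsIso (P := FEt.prop) (pullbackSpecIso A B' B).inv,
    pullbackSpecIso_inv_fst'] at hT
  obtain ⟨hfin, het⟩ := fet_sp_iff.1 hT
  haveI := hfin
  haveI : Algebra.Etale B' (B' ⊗[A] B) := het
  haveI : Algebra.Etale A B := Algebra.Etale.of_etale_tensorProduct_of_faithfullyFlat B'
  haveI : Module.Finite A B := Module.Finite.of_finite_tensorProduct_of_faithfullyFlat B'
  exact ⟨MorphismProperty.Over.mk ⊤ (sp A B) (fet_sp_iff.2 ⟨inferInstance, inferInstance⟩),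
    ⟨MorphismProperty.Over.isoMk (asIso q).symm (by
      show inv q ≫ w = rest A B
      rw [← hq2, IsIso.inv_hom_id_assoc])⟩⟩

/-- Points without proper generisations have depth zero. -/
theorem dense_of_depth {X : Scheme.{u}} [IsLocallyNoetherian X] (U : X.Opens)
    (hU : ∀ x : X, x ∉ U → (2 : ℕ∞) ≤ LocCoh.depth (X.presheaf.stalk x) (X.presheaf.stalk x)) :
    Dense (U : Set X) := by
  refine dense_iff_inter_open.2 fun O hO ⟨o, ho⟩ => ?_
  obtain ⟨_, ⟨V, hV, rfl⟩, hoV, hsub⟩ := X.isBasis_affineOpens.exists_subset_of_mem_open ho hO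
  obtain ⟨p, rfl⟩ : o ∈ Set.range hV.fromSpec.base := by rw [hV.range_fromSpec]; exact hoV
  obtain ⟨q, hq, -⟩ := Ideal.exists_minimalPrimes_le (bot_le : (⊥ : Ideal Γ(X, V)) ≤ p.asIdeal)
  let q₀ : PrimeSpectrum Γ(X, V) := ⟨q, hq.1.1⟩
  let y := hV.fromSpec.base q₀
  have hyV : y ∈ (V : Set X) := hV.range_fromSpec ▸ ⟨q₀, rfl⟩
  refine ⟨y, hsub hyV, ?_⟩
  by_contra hy
  let R := X.presheaf.stalk y
  have hall : ∀ P : PrimeSpectrum R, P = IsLocalRing.closedPoint R := fun P => by
    refine (X.fromSpecStalk y).isEmbedding.injective ?_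
    rw [Scheme.fromSpecStalk_closedPoint]
    have hs : (X.fromSpecStalk y).base P ⤳ y :=
      (Scheme.range_fromSpecStalk (X := X)).subset ⟨P, rfl⟩
    obtain ⟨r, hr⟩ : (X.fromSpecStalk y).base P ∈ Set.range hV.fromSpec.base := by
      rw [hV.range_fromSpec]; exact hs.mem_open V.2 hyV
    rw [← hr] at hs ⊢
    have hle : r.asIdeal ≤ q := (PrimeSpectrum.le_iff_specializes r q₀).2
      (hV.fromSpec.isOpenEmbedding.isInducing.specializes_iff.1 hs)
    exact congrArg hV.fromSpec.base (PrimeSpectrum.ext (le_antisymm hle (hq.2 ⟨r.2, bot_le⟩ hle)))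
  have h1 := (Alg6.one_le_depth_iff (R := R) (M := R)).1 (le_trans (by decide) (hU y hy))
  obtain ⟨P, hP, -⟩ := exists_le_isAssociatedPrime_of_isNoetherianRing R (1 : R) one_ne_zero
  have hPm : P = maximalIdeal R := congrArg PrimeSpectrum.asIdeal (hall ⟨P, hP.isPrime⟩)
  exact h1 (hPm ▸ hP)

/-- Purity descends along faithfully flat maps. -/
theorem restrict_essSurj {X X₁ : Scheme.{u}} [IsLocallyNoetherian X] (U : X.Opens)
    (hU : ∀ x : X, x ∉ U → (2 : ℕ∞) ≤ LocCoh.depth (X.presheaf.stalk x) (X.presheaf.stalk x))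
    (f : X₁ ⟶ X) [Flat f] [Surjective f] (h : (FEt.restrict (f ⁻¹ᵁ U).ι).EssSurj) :
    (FEt.restrict U.ι).EssSurj := by
  refine ⟨fun Y => ExtZorn.exists_extension (dense_of_depth U hU) fun a x hx hmin => ?_⟩
  obtain ⟨D₀, ⟨e₀⟩⟩ : ∃ D₀, Nonempty ((FEt.restrict (f ⁻¹ᵁ U).ι).obj D₀ ≅ (FEt.restrict (f ∣_ U)).obj Y) :=
    ⟨_, ⟨(FEt.restrict (f ⁻¹ᵁ U).ι).objObjPreimageIso _⟩⟩
  -- over the preimage of the larger open
  let O₁ := f ⁻¹ᵁ a.O
  let u₁ : (↑(f ⁻¹ᵁ U) : Scheme.{u}) ⟶ (O₁ : Scheme.{u}) := X₁.homOfLE (f.preimage_mono a.le)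
  have hu₁ : u₁ ≫ (f ∣_ a.O) = (f ∣_ U) ≫ X.homOfLE a.le := by
    rw [← cancel_mono a.O.ι, Category.assoc, Category.assoc, morphismRestrict_ι, X.homOfLE_ι,
      morphismRestrict_ι, ← Category.assoc, X₁.homOfLE_ι]
  let eY : (FEt.restrict (X.homOfLE a.le)).obj a.E ≅ Y :=
    MorphismProperty.Over.isoMk a.sq.isoPullback.symm a.sq.isoPullback_inv_snd
  let P₁ := (FEt.restrict O₁.ι).obj D₀
  let Q₁ := (FEt.restrict (f ∣_ a.O)).obj a.E
  let e₁ : (FEt.restrict u₁).obj P₁ ≅ (FEt.restrict u₁).obj Q₁ :=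
    (Spread.restrictComp u₁ O₁.ι (f ⁻¹ᵁ U).ι (X₁.homOfLE_ι _).symm D₀).symm ≪≫ e₀ ≪≫
      (FEt.restrict (f ∣_ U)).mapIso eY.symm ≪≫ (Spread.restrictSquare u₁ (f ∣_ a.O) (f ∣_ U) (X.homOfLE a.le) hu₁ a.E).symm
  obtain ⟨hfull, hfaith⟩ := FlatHartogs.restrict_full_faithful (O₁.ι ≫ f) U hU u₁ (by
    intro z hz
    exact ⟨⟨z.1, hz⟩, O₁.ι.isOpenEmbedding.injective (by
      rw [← Scheme.Hom.comp_apply, X₁.homOfLE_ι]; rfl)⟩)
  haveI := hfull
  haveI := hfaith
  let E₁ : P₁ ≅ Q₁ := (FEt.restrict u₁).preimageIso e₁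
  -- the local ring
  obtain ⟨x₁, rfl⟩ := f.surjective x
  let A := X.presheaf.stalk (f.base x₁)
  let B' := X₁.presheaf.stalk x₁
  letI : Algebra A B' := (f.stalkMap x₁).hom.toAlgebra
  haveI : IsLocalHom (algebraMap A B') := inferInstanceAs <| IsLocalHom (f.stalkMap x₁).hom
  haveI : Module.Flat A B' := Flat.stalkMap f x₁
  let sA : Spec (CommRingCat.of A) ⟶ X := X.fromSpecStalk (f.base x₁)
  let z : Spec (CommRingCat.of B') ⟶ X₁ := X₁.fromSpecStalk x₁
  have hz : z ≫ f = sp A B' ≫ sA := (Scheme.SpecMap_stalkMap_fromSpecStalk f).symm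
  let ιP := (FEt.puncturedSpec A).ι
  have hk : Set.range (ιP ≫ sA).base ⊆ Set.range a.O.ι.base := by
    rintro _ ⟨y, rfl⟩
    rw [Scheme.Opens.range_ι]
    refine hmin _ ((Scheme.range_fromSpecStalk (X := X)).subset ⟨_, rfl⟩) fun hy => y.2 ?_
    exact (X.fromSpecStalk (f.base x₁)).isEmbedding.injective (hy.trans Scheme.fromSpecStalk_closedPoint.symm)
  let k := IsOpenImmersion.lift a.O.ι (ιP ≫ sA) hk
  have hk' : k ≫ a.O.ι = ιP ≫ sA := IsOpenImmersion.lift_fac _ _ _
  let t₁ := pullback.fst ιP (sp A B')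
  let t₂ := pullback.snd ιP (sp A B')
  have hl : Set.range (t₂ ≫ z).base ⊆ Set.range O₁.ι.base := by
    rintro _ ⟨y, rfl⟩
    rw [Scheme.Opens.range_ι]
    show f.base ((t₂ ≫ z).base y) ∈ a.O
    rw [← Scheme.Hom.comp_apply, Category.assoc, hz, ← pullback.condition_assoc, ← hk']
    exact (k.base (t₁.base y)).2
  let l := IsOpenImmersion.lift O₁.ι (t₂ ≫ z) hl
  have hl' : l ≫ O₁.ι = t₂ ≫ z := IsOpenImmersion.lift_fac _ _ _
  have hlk : l ≫ (f ∣_ a.O) = t₁ ≫ k := by
    rw [← cancel_mono a.O.ι, Category.assoc, Category.assoc, morphismRestrict_ι, ← Category.assoc, hl', hk',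
      Category.assoc, hz, pullback.condition_assoc]
  obtain ⟨E, ⟨eE⟩⟩ := exists_local A (hU _ fun h => hx (a.le h)) B' ((FEt.restrict k).obj a.E)
    ((FEt.restrict z).obj D₀)
    (Spread.restrictSquare t₂ z l O₁.ι hl'.symm D₀ ≪≫ (FEt.restrict l).mapIso E₁ ≪≫
      Spread.restrictSquare l (f ∣_ a.O) t₁ k hlk a.E)
  -- compare the punctured spectrum with the preimage
  let p₁ := pullback.fst a.O.ι sA
  let p₂ := pullback.snd a.O.ι sA
  have he : Set.range p₂.base = Set.range ιP.base := by
    rw [Scheme.Pullback.range_snd, Scheme.Opens.range_ι, Scheme.Opens.range_ι]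
    ext P
    refine ⟨fun hP h => ?_, fun hP => ?_⟩
    · obtain rfl : P = IsLocalRing.closedPoint A := h
      have hP' : sA.base (IsLocalRing.closedPoint A) ∈ a.O := hP
      exact hx ((congrArg (· ∈ a.O) (Scheme.fromSpecStalk_closedPoint (X := X) (x := f.base x₁))).mp hP')
    · show sA.base P ∈ a.O
      have h' := hk ⟨⟨P, hP⟩, rfl⟩
      rw [Scheme.Opens.range_ι] at h'
      exact h'
  let κ := IsOpenImmersion.isoOfRangeEq p₂ ιP he
  have hκ : κ.hom ≫ ιP = p₂ := IsOpenImmersion.isoOfRangeEq_hom_fac _ _ _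
  have hκ₁ : κ.hom ≫ k = p₁ := by
    rw [← cancel_mono a.O.ι, Category.assoc, hk', ← Category.assoc, hκ, pullback.condition]
  exact ⟨E, ⟨Spread.restrictComp κ.hom ιP p₂ hκ.symm E ≪≫ (FEt.restrict κ.hom).mapIso eE ≪≫
    (Spread.restrictComp κ.hom k p₁ hκ₁.symm a.E).symm⟩⟩

/-- Restriction along an isomorphism is an equivalence. -/
def restrictEquiv {S T : Scheme.{u}} (κ : S ≅ T) : FEt.Cat T ≌ FEt.Cat S :=
  CategoryTheory.Equivalence.mk (FEt.restrict κ.hom) (FEt.restrict κ.inv)
    ((NatIso.ofComponents (fun E => Spread.restrictId E) (fun g => by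
        ext
        exact pullback.lift_fst _ _ _) : FEt.restrict (𝟙 T) ≅ 𝟭 _).symm ≪≫
      MorphismProperty.Over.pullbackComp κ.inv κ.hom (𝟙 T) κ.inv_hom_id.symm)
    ((MorphismProperty.Over.pullbackComp κ.hom κ.inv (𝟙 S) κ.hom_inv_id.symm).symm ≪≫
      (NatIso.ofComponents (fun E => Spread.restrictId E) (fun g => by
        ext
        exact pullback.lift_fst _ _ _) : FEt.restrict (𝟙 S) ≅ 𝟭 _))

theorem isEquivalence_of_range_eq {A B C : Scheme.{u}} (i : A ⟶ C) (i' : B ⟶ C) [IsOpenImmersion i]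
    [IsOpenImmersion i'] (h : Set.range i.base = Set.range i'.base) (hi : (FEt.restrict i').IsEquivalence) :
    (FEt.restrict i).IsEquivalence := by
  let κ := IsOpenImmersion.isoOfRangeEq i i' h
  haveI := hi
  haveI : (FEt.restrict κ.hom).IsEquivalence := (restrictEquiv κ).isEquivalence_functor
  haveI : (MorphismProperty.Over.pullback FEt.prop ⊤ i' ⋙ MorphismProperty.Over.pullback FEt.prop ⊤ κ.hom).IsEquivalence :=
    Functor.isEquivalence_trans (FEt.restrict i') (FEt.restrict κ.hom)
  exact Functor.isEquivalence_of_iso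
    (MorphismProperty.Over.pullbackComp κ.hom i' i (IsOpenImmersion.isoOfRangeEq_hom_fac _ _ _).symm).symm

end Groth.Agent.Pi1Ext.PureDescent
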