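import Groth.Agent.RegLoc6.Serre
import Mathlib.LinearAlgebra.Dual.BaseChange
import Mathlib.RingTheory.Flat.FaithfullyFlat.Algebra
import Mathlib.RingTheory.LocalRing.Module

/-!
Duals of finite modules over two-dimensional regular local rings are free; freeness of duals descends.
-/

set_option autoImplicit false
universe u

open TensorProduct

namespace Groth.Agent.Pi1Ext.RegPurity

open Groth.Agent.RegLoc6 IsLocalRing

theorem free_dual_of_spanFinrank_le_two {A : Type u} [CommRing A] [IsRegularLocalRing A]
    (h : (maximalIdeal A).spanFinrank ≤ 2) (C : Type u) [AddCommGroup C] [Module A C] [Module.Finite A C] :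
    Module.Free A (Module.Dual A C) := by
  obtain ⟨q, g, hg⟩ := Module.Finite.exists_fin' A C
  obtain ⟨p, ψ₀, hψ₀⟩ := Module.Finite.exists_fin' A (LinearMap.ker g)
  let ψ : (Fin p → A) →ₗ[A] (Fin q → A) := (LinearMap.ker g).subtype.comp ψ₀
  let δ : Module.Dual A (Fin q → A) →ₗ[A] Module.Dual A (Fin p → A) := ψ.dualMap
  let Q := Module.Dual A (Fin p → A) ⧸ LinearMap.range δ
  have hQ : PdLE A 2 Q := pdLE_mono h (pdLE_of_isRegularLocalRing A Q)
  have h1 : PdLE A 1 (LinearMap.range δ) := by
    have := (pdLE_succ_iff (LinearMap.range δ).mkQ (Submodule.mkQ_surjective _)).1 hQ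
    exact pdLE_of_equiv (N := ↥(LinearMap.range δ)) (LinearEquiv.ofEq _ _ (Submodule.ker_mkQ _)) this
  have h0 : Module.Projective A (LinearMap.ker δ) := by
    have := (pdLE_succ_iff δ.rangeRestrict δ.surjective_rangeRestrict).1 h1
    exact pdLE_zero_iff.1 (pdLE_of_equiv (N := ↥(LinearMap.ker δ)) (LinearEquiv.ofEq _ _ (LinearMap.ker_rangeRestrict δ)) this)
  have hker : LinearMap.range g.dualMap = LinearMap.ker δ := by
    have hexact : Function.Exact ψ g := by
      intro y
      refine ⟨fun hy => ?_, ?_⟩
      · obtain ⟨a, ha⟩ := hψ₀ ⟨y, hy⟩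
        exact ⟨a, congrArg Subtype.val ha⟩
      · rintro ⟨a, rfl⟩
        exact (ψ₀ a).2
    ext l
    constructor
    · rintro ⟨m, rfl⟩
      exact LinearMap.ext fun a => by
        show m (g (ψ a)) = 0
        rw [(hexact (ψ a)).2 ⟨a, rfl⟩, map_zero]
    · intro hl
      have hle : LinearMap.ker g ≤ LinearMap.ker l := fun y hy => by
        obtain ⟨a, rfl⟩ := (hexact y).1 hy
        exact LinearMap.congr_fun hl a
      refine ⟨((LinearMap.ker g).liftQ l hle).comp (g.quotKerEquivOfSurjective hg).symm.toLinearMap, ?_⟩
      ext y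
      simp [LinearMap.dualMap_apply]
  let e : Module.Dual A C ≃ₗ[A] LinearMap.ker δ :=
    (LinearEquiv.ofInjective g.dualMap (LinearMap.dualMap_injective_of_surjective hg)).trans
      (LinearEquiv.ofEq _ _ hker)
  haveI : Module.Projective A (Module.Dual A C) := Module.Projective.of_equiv e.symm
  haveI : Module.Finite A (Module.Dual A C) :=
    Module.Finite.of_injective g.dualMap (LinearMap.dualMap_injective_of_surjective hg)
  exact Module.free_of_flat_of_isLocalRing

/-- The base change map on duals. -/
noncomputable def dualBC (A A' : Type u) [CommRing A] [CommRing A'] [Algebra A A'] (M : Type u)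
    [AddCommGroup M] [Module A M] : A' ⊗[A] Module.Dual A M →ₗ[A'] Module.Dual A' (A' ⊗[A] M) :=
  LinearMap.liftBaseChange A' (Module.Dual.baseChange A')

theorem dualBC_bijective (A A' : Type u) [CommRing A] [CommRing A'] [Algebra A A'] [Module.Flat A A']
    [IsNoetherianRing A] (C : Type u) [AddCommGroup C] [Module A C] [Module.Finite A C] :
    Function.Bijective (dualBC A A' C) := by
  obtain ⟨q, g, hg⟩ := Module.Finite.exists_fin' A C
  obtain ⟨p, ψ₀, hψ₀⟩ := Module.Finite.exists_fin' A (LinearMap.ker g)
  let ψ : (Fin p → A) →ₗ[A] (Fin q → A) := (LinearMap.ker g).subtype.comp ψ₀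
  have hexact : Function.Exact ψ g := by
    intro y
    refine ⟨fun hy => ?_, ?_⟩
    · obtain ⟨a, ha⟩ := hψ₀ ⟨y, hy⟩
      exact ⟨a, congrArg Subtype.val ha⟩
    · rintro ⟨a, rfl⟩
      exact (ψ₀ a).2
  have hfree : ∀ (n : ℕ), Function.Bijective (dualBC A A' (Fin n → A)) := fun n => by
    have hb := TensorProduct.isBaseChange A (Fin n → A) A'
    have hd : IsBaseChange A' hb.toDual := hb.dual
    suffices heq : ∀ z, dualBC A A' (Fin n → A) z = hd.equiv z by
      rw [funext heq]
      exact hd.equiv.bijective
    intro z
    induction z using TensorProduct.induction_on with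
    | zero => simp
    | tmul a l =>
      rw [IsBaseChange.equiv_tmul]
      refine LinearMap.ext fun w => ?_
      induction w using TensorProduct.induction_on with
      | zero => simp
      | tmul b v =>
        have h1 := hb.toDual_comp_apply l v
        simp only [TensorProduct.mk_apply] at h1
        rw [show (b ⊗ₜ[A] v : A' ⊗[A] (Fin n → A)) = b • ((1 : A') ⊗ₜ[A] v) by simp [TensorProduct.smul_tmul']]
        simp only [map_smul, LinearMap.smul_apply, h1]
        simp [dualBC, TensorProduct.smul_tmul', Algebra.algebraMap_eq_smul_one, mul_comm]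
      | add x y hx hy => rw [map_add, map_add, hx, hy]
    | add x y hx hy => rw [map_add, map_add, hx, hy]
  have nat : ∀ {M N : Type u} [AddCommGroup M] [Module A M] [AddCommGroup N] [Module A N] (φ : M →ₗ[A] N)
      (z : A' ⊗[A] Module.Dual A N),
      dualBC A A' M (φ.dualMap.lTensor A' z) = (φ.baseChange A').dualMap (dualBC A A' N z) := by
    intro M N _ _ _ _ φ z
    induction z using TensorProduct.induction_on with
    | zero => simp
    | tmul a l =>
      refine LinearMap.ext fun w => ?_
      induction w using TensorProduct.induction_on with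
      | zero => simp
      | tmul b v => simp [dualBC, LinearMap.dualMap_apply]
      | add x y hx hy => rw [map_add, map_add, hx, hy]
    | add x y hx hy => rw [map_add, map_add, hx, hy, map_add, map_add]
  have hginj : Function.Injective (g.dualMap.lTensor A') :=
    Module.Flat.lTensor_preserves_injective_linearMap _ (LinearMap.dualMap_injective_of_surjective hg)
  have hgbc : Function.Surjective (g.baseChange A') := by
    rw [LinearMap.baseChange_eq_ltensor]
    exact LinearMap.lTensor_surjective A' hg
  constructor
  · intro z z' hzz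
    refine hginj ((hfree q).1 ?_)
    rw [nat, nat, hzz]
  · intro l
    obtain ⟨y, hy⟩ := (hfree q).2 ((g.baseChange A').dualMap l)
    have hy0 : ψ.dualMap.lTensor A' y = 0 := (hfree p).1 (by
      rw [nat, hy, map_zero]
      refine LinearMap.ext fun w => ?_
      have hw : g.baseChange A' (ψ.baseChange A' w) = 0 := by
        rw [← LinearMap.comp_apply, ← LinearMap.baseChange_comp, hexact.linearMap_comp_eq_zero]
        simp
      simp [LinearMap.dualMap_apply, hw])
    have hex : Function.Exact g.dualMap ψ.dualMap := by
      intro l'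
      refine ⟨fun hl => ?_, ?_⟩
      · have hle : LinearMap.ker g ≤ LinearMap.ker l' := fun v hv => by
          obtain ⟨a, rfl⟩ := (hexact v).1 hv
          exact LinearMap.congr_fun hl a
        refine ⟨((LinearMap.ker g).liftQ l' hle).comp (g.quotKerEquivOfSurjective hg).symm.toLinearMap, ?_⟩
        ext v
        simp [LinearMap.dualMap_apply]
      · rintro ⟨m, rfl⟩
        exact LinearMap.ext fun a => by
          show m (g (ψ a)) = 0
          rw [(hexact (ψ a)).2 ⟨a, rfl⟩, map_zero]
    obtain ⟨z, rfl⟩ := ((Module.Flat.lTensor_exact A' hex) y).1 hy0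
    exact ⟨z, LinearMap.dualMap_injective_of_surjective hgbc ((nat g z).symm.trans hy)⟩

/-- Freeness of the dual descends along faithfully flat local base changes. -/
theorem free_dual_of_baseChange (A A' : Type u) [CommRing A] [IsLocalRing A] [IsNoetherianRing A] [CommRing A']
    [Algebra A A'] [Module.FaithfullyFlat A A'] (C : Type u) [AddCommGroup C] [Module A C] [Module.Finite A C]
    [Module.Free A' (Module.Dual A' (A' ⊗[A] C))] : Module.Free A (Module.Dual A C) := by
  let e := LinearEquiv.ofBijective _ (dualBC_bijective A A' C)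
  haveI : Module.Flat A' (A' ⊗[A] Module.Dual A C) := Module.Flat.of_linearEquiv e
  haveI : Module.Flat A (Module.Dual A C) := Module.Flat.of_flat_tensorProduct A _ A'
  exact Module.free_of_flat_of_isLocalRing

end Groth.Agent.Pi1Ext.RegPurity
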