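import Groth.Agent.S18423
import Groth.Agent.S2089
import Mathlib

/-! # A finite flat morphism étale off a subset of depth `≥ 2` is étale -/

set_option autoImplicit false

universe u

open TensorProduct AlgebraicGeometry CategoryTheory

namespace Groth.Agent.Pi1Ext

theorem dim_ge_of_depth_ge {R : Type u} [CommRing R] [IsLocalRing R] [IsNoetherianRing R]
    (h : (2 : ℕ∞) ≤ LocCoh.depth R R) : (2 : WithBot ℕ∞) ≤ ringKrullDim R := by
  obtain ⟨p, hp⟩ := associatedPrimes.nonempty R R
  exact (WithBot.coe_le_coe.mpr h).trans ((Groth.Agent.S2089.result p hp).trans (ringKrullDim_quotient_le p))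

theorem formallyEtale_atPrime_comp {A A' B B' : Type u} [CommRing A] [CommRing A'] [CommRing B] [CommRing B']
    [Algebra A A'] [Algebra A B] [Algebra B B'] [Algebra A' B'] [Algebra A B']
    [IsScalarTower A A' B'] [IsScalarTower A B B'] (M : Submonoid A) [IsLocalization M A']
    [IsLocalization (Algebra.algebraMapSubmonoid B M) B'] (q' : Ideal B') [q'.IsPrime] :
    Algebra.IsEtaleAt A' q' ↔ Algebra.IsEtaleAt A (q'.comap (algebraMap B B')) := by
  let L := Localization.AtPrime q'
  haveI : IsLocalization.AtPrime L (q'.comap (algebraMap B B')) :=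
    IsLocalization.isLocalization_isLocalization_atPrime_isLocalization
      (Algebra.algebraMapSubmonoid B M) (T := L) q'
  haveI : IsScalarTower A B L := IsScalarTower.of_algebraMap_eq fun x => by
    rw [IsScalarTower.algebraMap_apply A B' L, IsScalarTower.algebraMap_apply A B B',
      ← IsScalarTower.algebraMap_apply B B' L]
  let e : Localization.AtPrime (q'.comap (algebraMap B B')) ≃ₐ[A] L :=
    (IsLocalization.algEquiv (q'.comap (algebraMap B B')).primeCompl _ _).restrictScalars A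
  constructor
  · intro h
    haveI : Algebra.FormallyEtale A' L := h
    haveI : Algebra.FormallyEtale A A' := Algebra.FormallyEtale.of_isLocalization M
    haveI : Algebra.FormallyEtale A L := Algebra.FormallyEtale.comp A A' L
    exact Algebra.FormallyEtale.of_equiv e.symm
  · intro h
    haveI : Algebra.FormallyEtale A (Localization.AtPrime (q'.comap (algebraMap B B'))) := h
    haveI : Algebra.FormallyEtale A L := Algebra.FormallyEtale.of_equiv e
    exact Algebra.FormallyEtale.localization_base M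

theorem etale_of_flat_etale_off {A B : Type u} [CommRing A] [CommRing B] [Algebra A B]
    [IsNoetherianRing A] [Module.Finite A B] [Module.Flat A B] (W : Set (PrimeSpectrum A))
    (hW : ∀ q : PrimeSpectrum B, PrimeSpectrum.comap (algebraMap A B) q ∈ W → Algebra.IsEtaleAt A q.asIdeal)
    (hdim : ∀ p ∉ W, (2 : WithBot ℕ∞) ≤ ringKrullDim (Localization.AtPrime p.asIdeal)) :
    Algebra.Etale A B := by
  haveI : Algebra.FinitePresentation A B := Algebra.FinitePresentation.of_finiteType.mp inferInstance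
  rw [← Algebra.etaleLocus_eq_univ_iff_etale, Set.eq_univ_iff_forall]
  suffices ∀ p : PrimeSpectrum A, ∀ q : PrimeSpectrum B,
      PrimeSpectrum.comap (algebraMap A B) q = p → Algebra.IsEtaleAt A q.asIdeal from fun q => this _ q rfl
  intro p
  induction p using WellFounded.induction
    (InvImage.wf (fun p : PrimeSpectrum A => p.asIdeal.height) wellFounded_lt) with
  | h p ih =>
    by_cases hp : p ∈ W
    · exact fun q hq => hW q (hq ▸ hp)
    intro q hq
    let A' := Localization.AtPrime p.asIdeal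
    let B' := A' ⊗[A] B
    letI : Algebra B B' := Algebra.TensorProduct.rightAlgebra
    haveI : IsLocalization (Algebra.algebraMapSubmonoid B p.asIdeal.primeCompl) B' :=
      IsLocalization.tensorRight (R := A) (S := B) (A := A') p.asIdeal.primeCompl
    haveI : IsScalarTower A B B' := IsScalarTower.of_algebraMap_eq fun x => by
      show algebraMap A B' x = (1 : A') ⊗ₜ[A] algebraMap A B x
      rw [Algebra.algebraMap_eq_smul_one (A := B), TensorProduct.tmul_smul, ← Algebra.TensorProduct.one_def,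
        Algebra.algebraMap_eq_smul_one]
    haveI : Algebra.Etale A' B' := Groth.Agent.S18423.result A' B' (hdim p hp) fun q' hq' => by
      rw [formallyEtale_atPrime_comp (A := A) (B := B) p.asIdeal.primeCompl]
      have hcomap : (q'.asIdeal.comap (algebraMap B B')).comap (algebraMap A B) =
          (q'.asIdeal.comap (algebraMap A' B')).comap (algebraMap A A') := by
        rw [Ideal.comap_comap, Ideal.comap_comap, ← IsScalarTower.algebraMap_eq,
          ← IsScalarTower.algebraMap_eq]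
      refine ih ⟨(q'.asIdeal.comap (algebraMap A' B')).comap (algebraMap A A'), inferInstance⟩ ?_
        ⟨q'.asIdeal.comap (algebraMap B B'), inferInstance⟩ (PrimeSpectrum.ext hcomap)
      refine Ideal.height_strict_mono_of_isPrime (I := (q'.asIdeal.comap (algebraMap A' B')).comap (algebraMap A A')) ?_
      have hle := IsLocalRing.le_maximalIdeal (Ideal.IsPrime.ne_top'
        (I := q'.asIdeal.comap (algebraMap A' B')))
      refine lt_of_le_of_ne ?_ fun e => hq' ?_
      · exact (Ideal.comap_mono hle).trans_eq (Localization.AtPrime.under_maximalIdeal (I := p.asIdeal))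
      · rw [← IsLocalization.map_comap p.asIdeal.primeCompl A' (q'.asIdeal.comap (algebraMap A' B'))]
        rw [show Ideal.under A (q'.asIdeal.comap (algebraMap A' B')) = p.asIdeal from e]
        exact Localization.AtPrime.map_eq_maximalIdeal
    have hdisj : Disjoint (↑(Algebra.algebraMapSubmonoid B p.asIdeal.primeCompl) : Set B) (q.asIdeal : Set B) := by
      rw [Set.disjoint_left]
      rintro _ ⟨a, ha, rfl⟩ hm
      exact ha (by rw [← hq]; exact hm)
    haveI := IsLocalization.isPrime_of_isPrime_disjoint _ B' q.asIdeal q.2 hdisj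
    have h := (formallyEtale_atPrime_comp (A := A) (B := B) (A' := A') p.asIdeal.primeCompl
      (q.asIdeal.map (algebraMap B B'))).mp (by
        have := (Algebra.etaleLocus_eq_univ_iff_etale (R := A') (A := B')).mpr inferInstance
        exact Set.eq_univ_iff_forall.mp this ⟨q.asIdeal.map (algebraMap B B'), inferInstance⟩)
    have e := IsLocalization.comap_map_of_isPrime_disjoint _ B' q.2 hdisj
    simp only [e] at h
    exact h

theorem etale_appLE_iff {X Y : Scheme.{u}} (π : Y ⟶ X) {V U' : X.Opens} {W' : Y.Opens}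
    (h1 : U' = V) (h2 : W' = π ⁻¹ᵁ V) (e : W' ≤ π ⁻¹ᵁ U') :
    (π.appLE U' W' e).hom.Etale ↔ (π.app V).hom.Etale := by
  subst h1 h2
  rw [Scheme.Hom.app_eq_appLE]

theorem etale_morphismRestrict_iff {X Y : Scheme.{u}} (π : Y ⟶ X) [IsAffineHom π] {V : X.Opens}
    (hV : IsAffineOpen V) : Etale (π ∣_ V) ↔ (π.app V).hom.Etale := by
  haveI : IsAffine V := hV
  haveI : IsAffine ↑(π ⁻¹ᵁ V) := hV.preimage π
  rw [HasRingHomProperty.iff_of_isAffine (P := @Etale), Scheme.Hom.appTop, Scheme.Hom.app_eq_appLE,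
    morphismRestrict_appLE]
  exact etale_appLE_iff π (by simp) (by simp) _

theorem etale_app_of_le {X Y : Scheme.{u}} (π : Y ⟶ X) (U : X.Opens) [Etale (π ∣_ U)] [IsAffineHom π]
    {D : X.Opens} (hD : IsAffineOpen D) (hle : D ≤ U) : (π.app D).hom.Etale := by
  refine (etale_morphismRestrict_iff π hD).mp ?_
  have e : IsPullback (Limits.pullback.fst (π ∣_ U) (X.homOfLE hle) ≫ (π ⁻¹ᵁ U).ι)
      (Limits.pullback.snd (π ∣_ U) (X.homOfLE hle)) π D.ι := by
    have := (IsPullback.of_hasPullback (π ∣_ U) (X.homOfLE hle)).paste_horiz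
      (isPullback_morphismRestrict π U).flip
    rwa [Scheme.homOfLE_ι] at this
  have e' := (isPullback_morphismRestrict π D).flip
  rw [← e'.isoIsPullback_hom_snd _ _ e]
  exact (MorphismProperty.cancel_left_of_respectsIso (P := @Etale) _ _).mpr
    (MorphismProperty.pullback_snd (P := @Etale) _ _ inferInstance)

theorem etale_of_finite_flat_etale_off {X Y : Scheme.{u}} [IsLocallyNoetherian X] (π : Y ⟶ X)
    [IsFinite π] [Flat π] (U : X.Opens) [Etale (π ∣_ U)]
    (hU : ∀ x : X, x ∉ U → (2 : WithBot ℕ∞) ≤ ringKrullDim (X.presheaf.stalk x)) : Etale π := by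
  rw [IsZariskiLocalAtTarget.iff_of_iSup_eq_top (P := @Etale) (fun V : X.affineOpens => V.1)
    (iSup_affineOpens_eq_top X)]
  rintro ⟨V, hV⟩
  have hV' := hV.preimage π
  refine (etale_morphismRestrict_iff π hV).mpr ?_
  algebraize [(π.app V).hom]
  haveI : IsNoetherianRing Γ(X, V) := IsLocallyNoetherian.component_noetherian ⟨V, hV⟩
  haveI : Module.Finite Γ(X, V) Γ(Y, π ⁻¹ᵁ V) := IsFinite.finite_app π V hV
  haveI : Module.Flat Γ(X, V) Γ(Y, π ⁻¹ᵁ V) := by
    have := HasRingHomProperty.appLE (P := @Flat) π ‹Flat π› ⟨V, hV⟩ ⟨_, hV'⟩ le_rfl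
    rw [← Scheme.Hom.app_eq_appLE] at this
    exact this
  haveI : Algebra.FinitePresentation Γ(X, V) Γ(Y, π ⁻¹ᵁ V) :=
    Algebra.FinitePresentation.of_finiteType.mp inferInstance
  refine etale_of_flat_etale_off {p | hV.fromSpec p ∈ U} (fun q hq => ?_) fun p hp => ?_
  · obtain ⟨f, hle, hmem⟩ := hV.exists_basicOpen_le (V := U ⊓ V)
      ⟨hV.fromSpec (PrimeSpectrum.comap (algebraMap Γ(X, V) Γ(Y, π ⁻¹ᵁ V)) q),
        hq, hV.range_fromSpec.le ⟨_, rfl⟩⟩ (hV.range_fromSpec.le ⟨_, rfl⟩)
    have het := etale_app_of_le π U (hV.basicOpen f) (hle.trans inf_le_left)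
    have hD : π ⁻¹ᵁ X.basicOpen f = Y.basicOpen (π.app V f) := π.preimage_basicOpen f
    letI : Algebra Γ(Y, π ⁻¹ᵁ V) Γ(Y, π ⁻¹ᵁ X.basicOpen f) :=
      (Y.presheaf.map (homOfLE (π.preimage_mono (X.basicOpen_le f))).op).hom.toAlgebra
    haveI : IsLocalization.Away (algebraMap Γ(X, V) Γ(Y, π ⁻¹ᵁ V) f) Γ(Y, π ⁻¹ᵁ X.basicOpen f) :=
      hV'.isLocalization_of_eq_basicOpen _ _ hD
    letI : Algebra Γ(X, X.basicOpen f) Γ(Y, π ⁻¹ᵁ X.basicOpen f) := (π.app _).hom.toAlgebra
    haveI : Algebra.Etale Γ(X, X.basicOpen f) Γ(Y, π ⁻¹ᵁ X.basicOpen f) := het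
    letI : Algebra Γ(X, V) Γ(Y, π ⁻¹ᵁ X.basicOpen f) :=
      ((algebraMap Γ(Y, π ⁻¹ᵁ V) Γ(Y, π ⁻¹ᵁ X.basicOpen f)).comp (algebraMap Γ(X, V) Γ(Y, π ⁻¹ᵁ V))).toAlgebra
    haveI : IsScalarTower Γ(X, V) Γ(Y, π ⁻¹ᵁ V) Γ(Y, π ⁻¹ᵁ X.basicOpen f) := IsScalarTower.of_algebraMap_eq fun _ => rfl
    haveI : IsScalarTower Γ(X, V) Γ(X, X.basicOpen f) Γ(Y, π ⁻¹ᵁ X.basicOpen f) :=
      IsScalarTower.of_algebraMap_eq fun x =>
        (congrArg (fun g => g.hom x) (π.naturality (homOfLE (X.basicOpen_le f)).op)).symm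
    haveI := hV.isLocalization_basicOpen f
    haveI : Algebra.Etale Γ(X, V) Γ(X, X.basicOpen f) := Algebra.Etale.of_isLocalizationAway f
    haveI : Algebra.Etale Γ(X, V) Γ(Y, π ⁻¹ᵁ X.basicOpen f) :=
      Algebra.Etale.comp Γ(X, V) Γ(X, X.basicOpen f) Γ(Y, π ⁻¹ᵁ X.basicOpen f)
    haveI : Algebra.Etale Γ(X, V) (Localization.Away (algebraMap Γ(X, V) Γ(Y, π ⁻¹ᵁ V) f)) :=
      Algebra.Etale.of_equiv ((IsLocalization.algEquiv (Submonoid.powers (algebraMap Γ(X, V) Γ(Y, π ⁻¹ᵁ V) f))
        Γ(Y, π ⁻¹ᵁ X.basicOpen f) _).restrictScalars Γ(X, V))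
    refine (Algebra.basicOpen_subset_etaleLocus_iff_etale (f := algebraMap Γ(X, V) Γ(Y, π ⁻¹ᵁ V) f)).mpr
      inferInstance ?_
    show algebraMap Γ(X, V) Γ(Y, π ⁻¹ᵁ V) f ∉ q.asIdeal
    intro hm
    have hb : PrimeSpectrum.comap (algebraMap Γ(X, V) Γ(Y, π ⁻¹ᵁ V)) q ∈ hV.fromSpec ⁻¹ᵁ X.basicOpen f := hmem
    rw [hV.fromSpec_preimage_basicOpen] at hb
    exact hb hm
  · letI : Algebra Γ(X, V) (X.presheaf.stalk (hV.fromSpec p)) :=
      X.presheaf.algebra_section_stalk ⟨hV.fromSpec p, hV.range_fromSpec.le ⟨_, rfl⟩⟩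
    haveI : IsLocalization.AtPrime (X.presheaf.stalk (hV.fromSpec p)) p.asIdeal :=
      hV.isLocalization_stalk' p (hV.range_fromSpec.le ⟨_, rfl⟩)
    rw [ringKrullDim_eq_of_ringEquiv (IsLocalization.algEquiv p.asIdeal.primeCompl
      (Localization.AtPrime p.asIdeal) (X.presheaf.stalk (hV.fromSpec p))).toRingEquiv]
    exact hU _ hp

end Groth.Agent.Pi1Ext
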