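import Groth.Agent.Pi1Ext.LefMain
import Groth.Agent.Pi1Ext.DualFree
import Groth.Agent.Pi1Ext.EtalePure
import Groth.Agent.Hensel.FiniteEtaleLift
import Groth.Agent.CILib.Basic
import Groth.Agent.LC.CanonComplete

/-!
Purity of the branch locus over regular local rings, algebraic form.
-/

set_option autoImplicit false
universe u

open TensorProduct IsLocalRing

namespace Groth.Agent.Pi1Ext.RegPurity

noncomputable section

open Groth.Agent

variable {A : Type u} [CommRing A] {C : Type u} [CommRing C] [Algebra A C]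

theorem etAway_baseChange (A' : Type u) [CommRing A'] [Algebra A A'] {g : A} (hg : EtAway A C g) :
    EtAway A' (A' ⊗[A] C) (algebraMap A A' g) := by
  let g' := algebraMap A A' g
  let R := Localization.Away g'
  let C' := A' ⊗[A] C
  haveI : Algebra.Etale R (R ⊗[A] C) := etale_tensor_of_etAway hg R (by
    rw [IsScalarTower.algebraMap_apply A A' R]; exact IsLocalization.Away.algebraMap_isUnit g')
  haveI : Algebra.Etale R (R ⊗[A'] C') :=
    Algebra.Etale.of_equiv (Algebra.TensorProduct.cancelBaseChange A A' R R C).symm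
  haveI : Algebra.Etale A' R := Algebra.Etale.of_isLocalizationAway g'
  haveI : Algebra.Etale A' (R ⊗[A'] C') := Algebra.Etale.comp A' R _
  haveI : Algebra.Etale A' (C' ⊗[A'] R) := Algebra.Etale.of_equiv (Algebra.TensorProduct.comm A' R C')
  haveI : IsLocalization.Away (algebraMap A' C' g') (C' ⊗[A'] R) := by
    have := (inferInstance : IsLocalization (Algebra.algebraMapSubmonoid C' (Submonoid.powers g')) (C' ⊗[A'] R))
    rwa [Algebra.algebraMapSubmonoid_powers] at this
  exact Algebra.Etale.of_equiv ((IsLocalization.algEquiv (Submonoid.powers (algebraMap A' C' g'))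
    (C' ⊗[A'] R) (Localization.Away (algebraMap A' C' g'))).restrictScalars A')

/-- `C` is étale over `A` away from the closed point. -/
def EtOff (A : Type u) [CommRing A] [IsLocalRing A] (C : Type u) [CommRing C] [Algebra A C] : Prop :=
  ∀ g ∈ maximalIdeal A, EtAway A C g

theorem etOff_quot [IsLocalRing A] (hC : EtOff A C) (I : Ideal A) [IsLocalRing (A ⧸ I)] :
    EtOff (A ⧸ I) ((A ⧸ I) ⊗[A] C) := fun g hg => by
  obtain ⟨g, rfl⟩ := Ideal.Quotient.mk_surjective g
  refine etAway_baseChange _ (hC g ?_)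
  rw [IsLocalRing.mem_maximalIdeal, mem_nonunits_iff] at hg ⊢
  exact fun h => hg (h.map _)

theorem etOff_baseChange [IsLocalRing A] [IsNoetherianRing A] [Module.Finite A C] (hC : EtOff A C)
    (A' : Type u) [CommRing A'] [IsLocalRing A'] [IsNoetherianRing A'] [Algebra A A']
    (hm : maximalIdeal A' = (maximalIdeal A).map (algebraMap A A')) : EtOff A' (A' ⊗[A] C) := fun g' hg' => by
  haveI : Algebra.FinitePresentation A' (A' ⊗[A] C) :=
    Algebra.FinitePresentation.of_finiteType.mp inferInstance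
  unfold EtAway
  rw [← Algebra.basicOpen_subset_etaleLocus_iff_etale]
  intro q hq
  obtain ⟨g, hg, hgq⟩ : ∃ g ∈ maximalIdeal A,
      algebraMap A' (A' ⊗[A] C) (algebraMap A A' g) ∉ q.asIdeal := by
    by_contra! hall
    refine hq (Ideal.mem_comap.1 (?_ : g' ∈ q.asIdeal.comap (algebraMap A' (A' ⊗[A] C))))
    rw [hm] at hg'
    exact (show (maximalIdeal A).map (algebraMap A A') ≤ q.asIdeal.comap (algebraMap A' (A' ⊗[A] C)) from
      Ideal.map_le_iff_le_comap.2 hall) hg'
  exact Algebra.basicOpen_subset_etaleLocus_iff_etale.2 (etAway_baseChange A' (hC g hg)) hgq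

section Algebra

variable [IsDomain A] [Module.Finite A C]

/-- `f` becomes bijective after inverting `g`. -/
def IsoAway {B : Type u} [CommRing B] [Algebra A B] (f : C →ₐ[A] B) (g : A) : Prop :=
  (∀ b : B, ∃ (n : ℕ) (c : C), g ^ n • b = f c) ∧ ∀ c, f c = 0 → ∃ n : ℕ, g ^ n • c = 0

omit [IsDomain A] [Module.Finite A C] in
theorem IsoAway.isLocalization {B : Type u} [CommRing B] [Algebra A B] {f : C →ₐ[A] B} {g : A}
    (hf : IsoAway f g) :
    letI := ((algebraMap B (Localization.Away (algebraMap A B g))).comp f.toRingHom).toAlgebra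
    IsLocalization.Away (algebraMap A C g) (Localization.Away (algebraMap A B g)) := by
  let Bg := Localization.Away (algebraMap A B g)
  letI := ((algebraMap B Bg).comp f.toRingHom).toAlgebra
  have hm : ∀ c, algebraMap C Bg c = algebraMap B Bg (f c) := fun _ => rfl
  refine (isLocalization_iff _ _).2 ⟨?_, ?_, ?_⟩
  · rintro ⟨_, n, rfl⟩
    show IsUnit (algebraMap C Bg (algebraMap A C g ^ n))
    rw [hm, map_pow f, AlgHom.commutes, map_pow]
    exact IsLocalization.Away.algebraMap_pow_isUnit _ n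
  · intro z
    obtain ⟨b, ⟨_, j, rfl⟩, rfl⟩ := IsLocalization.exists_mk'_eq (Submonoid.powers (algebraMap A B g)) z
    obtain ⟨n, c, hc⟩ := hf.1 b
    refine ⟨⟨c, ⟨algebraMap A C g ^ (n + j), n + j, rfl⟩⟩, ?_⟩
    show _ * algebraMap C Bg (algebraMap A C g ^ (n + j)) = algebraMap C Bg c
    rw [hm, hm, map_pow f, AlgHom.commutes, ← hc, Algebra.smul_def, map_mul, map_pow, map_pow, map_pow,
      pow_add, mul_comm (_ ^ n) (_ ^ j), ← mul_assoc, ← map_pow (algebraMap B Bg) (algebraMap A B g) j]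
    erw [IsLocalization.mk'_spec]
    rw [mul_comm]
  · intro c c' h
    rw [hm, hm, IsLocalization.eq_iff_exists (Submonoid.powers (algebraMap A B g))] at h
    obtain ⟨⟨_, j, rfl⟩, hj⟩ := h
    obtain ⟨n, hn⟩ := hf.2 (g ^ j • (c - c')) (by
      rw [map_smul, Algebra.smul_def, map_pow, _root_.map_sub, mul_sub, sub_eq_zero]; exact hj)
    refine ⟨⟨algebraMap A C g ^ (n + j), n + j, rfl⟩, ?_⟩
    show algebraMap A C g ^ (n + j) * c = algebraMap A C g ^ (n + j) * c'
    rw [← sub_eq_zero, ← mul_sub, ← map_pow, ← Algebra.smul_def, pow_add, mul_smul, hn]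

omit [IsDomain A] [Module.Finite A C] in
theorem IsoAway.etale {B : Type u} [CommRing B] [Algebra A B] {f : C →ₐ[A] B} {g : A}
    (hf : IsoAway f g) (hg : EtAway A C g) : EtAway A B g := by
  let Bg := Localization.Away (algebraMap A B g)
  letI := ((algebraMap B Bg).comp f.toRingHom).toAlgebra
  haveI : IsScalarTower A C Bg := IsScalarTower.of_algebraMap_eq fun a => by
    rw [IsScalarTower.algebraMap_apply A B Bg, RingHom.algebraMap_toAlgebra]
    exact congrArg (algebraMap B Bg) (f.commutes a).symm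
  haveI := hf.isLocalization
  haveI : Algebra.Etale A (Localization.Away (algebraMap A C g)) := hg
  exact Algebra.Etale.of_equiv ((IsLocalization.algEquiv (Submonoid.powers (algebraMap A C g))
    (Localization.Away (algebraMap A C g)) Bg).restrictScalars A)

omit [IsDomain A] [Module.Finite A C] in
theorem IsoAway.exists_extend {B : Type u} [CommRing B] [Algebra A B] {f : C →ₐ[A] B} {g : A}
    (hf : IsoAway f g) {D : Type u} [CommRing D] [Algebra A D] (ψ : C →ₐ[A] D)
    (hu : IsUnit (algebraMap A D g)) : ∃ ψ' : B →ₐ[A] D, ∀ c, ψ' (f c) = ψ c := by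
  let Bg := Localization.Away (algebraMap A B g)
  letI := ((algebraMap B Bg).comp f.toRingHom).toAlgebra
  haveI : IsScalarTower A C Bg := IsScalarTower.of_algebraMap_eq fun a => by
    rw [IsScalarTower.algebraMap_apply A B Bg, RingHom.algebraMap_toAlgebra]
    exact congrArg (algebraMap B Bg) (f.commutes a).symm
  haveI := hf.isLocalization
  have hu' : ∀ y : Submonoid.powers (algebraMap A C g), IsUnit (ψ y) := by
    rintro ⟨_, n, rfl⟩
    simp only [map_pow, AlgHom.commutes]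
    exact hu.pow n
  let l : Bg →ₐ[A] D := IsLocalization.liftAlgHom (f := ψ) hu'
  exact ⟨l.comp (IsScalarTower.toAlgHom A B Bg), fun c => IsLocalization.lift_eq hu' c⟩

/-- The trace dual is an algebra. -/
theorem exists_algebra {h k : A} (hp : RegPair A h k) (eh : EtAway A C h) (ek : EtAway A C k)
    [hfree : Module.Free A (Module.Dual A C)] [IsNoetherianRing A] :
    ∃ (B : Type u) (_ : CommRing B) (_ : Algebra A B) (f : C →ₐ[A] B),
      Module.Finite A B ∧ Module.Free A B ∧ ∀ g, EtAway A C g → IsoAway f g := by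
  let K := FractionRing A
  let B : Subalgebra A (K ⊗[A] C) := away C K h ⊓ away C K k
  have hmem : ∀ y, y ∈ B ↔ y ∈ lat (A := A) C K := fun y =>
    ⟨fun hy => mem_lat_of_away hp eh ek hy.1 hy.2,
      fun hy => ⟨mem_away_of_mem_lat eh hy, mem_away_of_mem_lat ek hy⟩⟩
  let f : C →ₐ[A] B := (Algebra.TensorProduct.includeRight : C →ₐ[A] K ⊗[A] C).codRestrict B
    fun c => ⟨image_mem_away K h c, image_mem_away K k c⟩
  obtain ⟨e⟩ := lat_equiv_dual C K eh hp.1
  let e' : B ≃ₗ[A] Module.Dual A C :=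
    (LinearEquiv.ofEq (Subalgebra.toSubmodule B) (lat C K) (SetLike.ext hmem)).trans e
  haveI : Module.Finite A (Module.Dual A C) := by
    obtain ⟨q, π, hπ⟩ := Module.Finite.exists_fin' A C
    exact Module.Finite.of_injective π.dualMap (LinearMap.dualMap_injective_of_surjective hπ)
  refine ⟨B, inferInstance, inferInstance, f, Module.Finite.equiv e'.symm, Module.Free.of_equiv e'.symm,
    fun g hg => ⟨fun b => ?_, fun c hc => ?_⟩⟩
  · obtain ⟨n, c, hc⟩ := mem_away_of_mem_lat hg ((hmem b.1).1 b.2)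
    exact ⟨n, c, Subtype.ext hc⟩
  · exact eq_zero_of_image_eq_zero hg (congrArg Subtype.val hc)

theorem exists_etale_algebra [IsLocalRing A] [IsNoetherianRing A] (hC : EtOff A C)
    (hd : (2 : WithBot ℕ∞) ≤ ringKrullDim A) {h k : A} (hhm : h ∈ maximalIdeal A) (hkm : k ∈ maximalIdeal A)
    (hp : RegPair A h k) [Module.Free A (Module.Dual A C)] :
    ∃ (B : Type u) (_ : CommRing B) (_ : Algebra A B) (f : C →ₐ[A] B),
      Module.Finite A B ∧ Algebra.Etale A B ∧ ∀ g, EtAway A C g → IsoAway f g := by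
  obtain ⟨B, _, _, f, hfin, hfree, hiso⟩ := exists_algebra hp (hC h hhm) (hC k hkm)
  haveI := hfin
  haveI := hfree
  refine ⟨B, inferInstance, inferInstance, f, hfin, ?_, hiso⟩
  haveI : Algebra.FinitePresentation A B := Algebra.FinitePresentation.of_finiteType.mp inferInstance
  refine etale_of_flat_etale_off {p | p.asIdeal ≠ maximalIdeal A} (fun q hq => ?_) fun p hp' => ?_
  · obtain ⟨g, hg, hgq⟩ : ∃ g ∈ maximalIdeal A, g ∉ (PrimeSpectrum.comap (algebraMap A B) q).asIdeal := by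
      refine SetLike.not_le_iff_exists.1 fun hle => hq ?_
      exact ((IsLocalRing.maximalIdeal.isMaximal A).eq_of_le (Ideal.IsPrime.ne_top inferInstance) hle).symm
    exact Algebra.basicOpen_subset_etaleLocus_iff_etale.2 ((hiso g (hC g hg)).etale (hC g hg)) hgq
  · have hpm : p.asIdeal = maximalIdeal A := not_not.1 hp'
    rw [IsLocalization.AtPrime.ringKrullDim_eq_height p.asIdeal (Localization.AtPrime p.asIdeal), hpm,
      IsLocalRing.maximalIdeal_height_eq_ringKrullDim]
    exact hd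

end Algebra

section Regular

/-- Three suitable elements of a regular local ring of dimension at least three. -/
theorem exists_triple (A : Type u) [CommRing A] [IsRegularLocalRing A] [IsDomain A]
    (hd : 3 ≤ (maximalIdeal A).spanFinrank) :
    ∃ x h k : A, x ∈ maximalIdeal A ∧ x ∉ maximalIdeal A ^ 2 ∧ h ∈ maximalIdeal A ∧
      k ∈ maximalIdeal A ∧ ¬ x ∣ h ∧ ¬ x ∣ k ∧ Triple x h k := by
  have hfin : ∀ (R : Type u) [CommRing R] [IsRegularLocalRing R],
      ((maximalIdeal R).spanFinrank : WithBot ℕ∞) = ringKrullDim R := fun R _ _ => (isRegularLocalRing_iff R).1 ‹_›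
  have step : ∀ (R : Type u) [CommRing R] [IsRegularLocalRing R], 1 ≤ (maximalIdeal R).spanFinrank →
      ∀ r, r ∈ maximalIdeal R → r ∉ maximalIdeal R ^ 2 → ∃ (_ : IsRegularLocalRing (R ⧸ Ideal.span {r})),
        (maximalIdeal (R ⧸ Ideal.span {r})).spanFinrank + 1 = (maximalIdeal R).spanFinrank := by
    intro R _ _ _ r hr hr2
    obtain ⟨h1, h2⟩ := RegLoc6.isRegularLocalRing_quot_and hr hr2
    haveI := h1
    refine ⟨h1, ?_⟩
    rw [← hfin, ← hfin] at h2
    exact_mod_cast h2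
  have pick : ∀ (R : Type u) [CommRing R] [IsRegularLocalRing R], 1 ≤ (maximalIdeal R).spanFinrank →
      ∃ r, r ∈ maximalIdeal R ∧ r ∉ maximalIdeal R ^ 2 := by
    intro R _ _ h
    refine SetLike.not_le_iff_exists.1 (RegLoc6.maximalIdeal_sq_ne fun hf => ?_)
    rw [IsLocalRing.isField_iff_maximalIdeal_eq.1 hf, Submodule.spanFinrank_bot] at h
    omega
  obtain ⟨x, hx, hx2⟩ := pick A (by omega)
  obtain ⟨hR1, hd1⟩ := step A (by omega) x hx hx2
  haveI := hR1
  haveI := RegLoc6.isDomain_of_isRegularLocalRing (A ⧸ Ideal.span {x})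
  obtain ⟨h₀, hh0, hh02⟩ := pick (A ⧸ Ideal.span {x}) (by omega)
  obtain ⟨hR2, hd2⟩ := step (A ⧸ Ideal.span {x}) (by omega) h₀ hh0 hh02
  haveI := hR2
  haveI := RegLoc6.isDomain_of_isRegularLocalRing ((A ⧸ Ideal.span {x}) ⧸ Ideal.span {h₀})
  obtain ⟨k₀, hk0, hk02⟩ := pick ((A ⧸ Ideal.span {x}) ⧸ Ideal.span {h₀}) (by omega)
  obtain ⟨h, rfl⟩ := Ideal.Quotient.mk_surjective h₀
  obtain ⟨k₁, rfl⟩ := Ideal.Quotient.mk_surjective k₀
  obtain ⟨k, rfl⟩ := Ideal.Quotient.mk_surjective k₁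
  have hup : ∀ {R : Type u} [CommRing R] [IsLocalRing R] (I : Ideal R) [IsLocalRing (R ⧸ I)] (r : R),
      Ideal.Quotient.mk I r ∈ maximalIdeal (R ⧸ I) → r ∈ maximalIdeal R := fun I _ r hr => by
    rw [IsLocalRing.mem_maximalIdeal, mem_nonunits_iff] at hr ⊢
    exact fun h => hr (h.map _)
  have hhm := hup _ h hh0
  have hkm := hup _ k (hup _ _ hk0)
  have hh2 : h ∉ maximalIdeal A ^ 2 := fun hc => hh02 (by
    have := Ideal.mem_map_of_mem (Ideal.Quotient.mk (Ideal.span {x})) hc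
    rwa [Ideal.map_pow, RegLoc6.map_maximalIdeal_quot] at this)
  haveI hPx : (Ideal.span {x}).IsPrime := (Ideal.Quotient.isDomain_iff_prime _).1 inferInstance
  haveI hR3 : IsRegularLocalRing (A ⧸ Ideal.span {h}) := (RegLoc6.isRegularLocalRing_quot_and hhm hh2).1
  haveI := RegLoc6.isDomain_of_isRegularLocalRing (A ⧸ Ideal.span {h})
  haveI hPh : (Ideal.span {h}).IsPrime := (Ideal.Quotient.isDomain_iff_prime _).1 inferInstance
  have hx0 : x ≠ 0 := fun h0 => hx2 (h0 ▸ zero_mem _)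
  have hh0' : h ≠ 0 := fun h0 => hh2 (h0 ▸ zero_mem _)
  have xp : Prime x := (Ideal.span_singleton_prime hx0).1 hPx
  have hpr : Prime h := (Ideal.span_singleton_prime hh0').1 hPh
  let P := Ideal.span {x, h}
  have hPeq : P = (Ideal.span {Ideal.Quotient.mk (Ideal.span {x}) h}).comap (Ideal.Quotient.mk (Ideal.span {x})) := by
    rw [← Set.image_singleton, ← Ideal.map_span, Ideal.comap_map_of_surjective _ Ideal.Quotient.mk_surjective,
      ← RingHom.ker_eq_comap_bot, Ideal.mk_ker, ← Ideal.span_union, Set.union_comm, Set.singleton_union]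
  haveI hP : P.IsPrime := by
    haveI : (Ideal.span {Ideal.Quotient.mk (Ideal.span {x}) h}).IsPrime :=
      (Ideal.Quotient.isDomain_iff_prime _).1 inferInstance
    rw [hPeq]
    exact Ideal.IsPrime.comap _
  have hxh : ¬ x ∣ h := fun hd => hh02 (by
    rw [Ideal.Quotient.eq_zero_iff_mem.2 (Ideal.mem_span_singleton.2 hd)]; exact zero_mem _)
  have hkP : k ∉ P := fun hk => hk02 (by
    rw [hPeq, Ideal.mem_comap] at hk
    rw [Ideal.Quotient.eq_zero_iff_mem.2 hk]; exact zero_mem _)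
  have hxk : ¬ x ∣ k := fun hd => hkP (Ideal.mem_span_pair.2 (by
    obtain ⟨c, rfl⟩ := hd; exact ⟨c, 0, by ring⟩))
  have hhk : ¬ h ∣ k := fun hd => hkP (Ideal.mem_span_pair.2 (by
    obtain ⟨c, rfl⟩ := hd; exact ⟨0, c, by ring⟩))
  have hkne : k ≠ 0 := fun h0 => hxk (h0 ▸ dvd_zero x)
  have h1 : ∀ (a : ℕ) (z : A), k * z ∈ Ideal.span {x, h ^ a} → z ∈ Ideal.span {x, h ^ a} := fun a => by
    induction a with
    | zero =>
      intro z _
      rw [Ideal.mem_span_pair]
      exact ⟨0, z, by simp⟩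
    | succ a ih =>
      intro z hz
      obtain ⟨u, v, huv⟩ := Ideal.mem_span_pair.1 hz
      obtain ⟨w, e, hwe⟩ := Ideal.mem_span_pair.1 ((hP.mem_or_mem
        (Ideal.mem_span_pair.2 ⟨u, v * h ^ a, by rw [← huv]; ring⟩ : k * z ∈ P)).resolve_left hkP)
      obtain ⟨f, hf⟩ : x ∣ k * e - v * h ^ a := (xp.dvd_or_dvd (a := h)
        ⟨u - k * w, by linear_combination k * hwe - huv⟩).resolve_left hxh
      obtain ⟨p, q, hpq⟩ := Ideal.mem_span_pair.1 (ih e (Ideal.mem_span_pair.2 ⟨f, v, by linear_combination -hf⟩))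
      exact Ideal.mem_span_pair.2 ⟨w + p * h, q, by linear_combination hwe + h * hpq⟩
  refine ⟨x, h, k, hx, hx2, hhm, hkm, hxh, hxk, ⟨hx0, hkne, fun n z hz => xp.pow_dvd_of_dvd_mul_left n hxh hz,
    fun n z hz => xp.pow_dvd_of_dvd_mul_left n hxk hz, fun n => ?_,
    ⟨hh0', fun z hz => (hpr.dvd_or_dvd hz).resolve_left hhk⟩⟩⟩
  induction n with
  | zero =>
    intro a z _
    rw [Ideal.mem_span_pair]
    exact ⟨z, 0, by simp⟩
  | succ n ih =>
    intro a z hz
    obtain ⟨u, v, huv⟩ := Ideal.mem_span_pair.1 hz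
    obtain ⟨w, e, hwe⟩ := Ideal.mem_span_pair.1 (h1 a z
      (Ideal.mem_span_pair.2 ⟨u * x ^ n, v, by rw [← huv]; ring⟩))
    obtain ⟨q, hq⟩ : x ∣ k * e - v := by
      have hdiv : x ^ 1 ∣ h ^ a * (k * e - v) := ⟨u * x ^ n - k * w, by linear_combination k * hwe - huv⟩
      simpa using dvd_of_dvd_pow_mul (fun m z hm => xp.pow_dvd_of_dvd_mul_left m hxh hm) 1 a _ hdiv
    have hkw : k * w + h ^ a * q = x ^ n * u := mul_left_cancel₀ hx0 (by
      linear_combination k * hwe - huv - h ^ a * hq)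
    obtain ⟨p, r, hpr'⟩ := Ideal.mem_span_pair.1 (ih a w (Ideal.mem_span_pair.2 ⟨u, -q, by linear_combination -hkw⟩))
    exact Ideal.mem_span_pair.2 ⟨p, r * x + e, by linear_combination hwe + x * hpr'⟩

variable [IsDomain A] [Module.Finite A C] {K : Type u} [Field K] [Algebra A K] [IsFractionRing A K]

theorem xS_saturated {x g : A} (hg0 : g ≠ 0) {n m : ℕ} {y : K ⊗[A] C}
    (hy : g ^ m • y ∈ xS x (away C K g) n) : y ∈ xS x (away C K g) n := by
  obtain ⟨w, hw, hw'⟩ := hy
  have hg : algebraMap A K (g ^ m) ≠ 0 :=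
    (map_ne_zero_iff _ (IsFractionRing.injective A K)).2 (pow_ne_zero m hg0)
  have hgw : g ^ m • (algebraMap A K (g ^ m))⁻¹ • w = w := by
    rw [← algebraMap_smul K (g ^ m), smul_inv_smul₀ hg]
  refine ⟨(algebraMap A K (g ^ m))⁻¹ • w, away_saturated (n := m) (by rw [hgw]; exact hw), ?_⟩
  rw [LinearMap.lsmul_apply] at hw' ⊢
  rw [smul_comm, hw', ← algebraMap_smul K (g ^ m) y, inv_smul_smul₀ hg]

omit [IsFractionRing A K] in
theorem isUnit_away {g : A} (hu : IsUnit (algebraMap A K g)) :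
    IsUnit (algebraMap A (away C K g) g) := by
  obtain ⟨u, hu⟩ := hu
  let v : K ⊗[A] C := (↑u⁻¹ : K) ⊗ₜ[A] 1
  have hgv : g • v = 1 := by
    rw [TensorProduct.smul_tmul', Algebra.smul_def, ← hu, Units.mul_inv, Algebra.TensorProduct.one_def]
  have hv : v ∈ away C K g := ⟨1, 1, by rw [pow_one, hgv, Algebra.TensorProduct.one_def]⟩
  refine IsUnit.of_mul_eq_one ⟨v, hv⟩ (Subtype.ext ?_)
  rw [Subalgebra.coe_mul, Subalgebra.coe_one, ← hgv, Algebra.smul_def]
  rfl

end Regular

section Step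

variable [IsDomain A] [IsLocalRing A] [IsNoetherianRing A] [IsAdicComplete (maximalIdeal A) A] [Module.Finite A C]

theorem free_dual_of_quotient {x h k : A} (hxm : x ∈ maximalIdeal A) (hhm : h ∈ maximalIdeal A)
    (hkm : k ∈ maximalIdeal A) (t : Triple x h k) (hC : EtOff A C)
    (B₀ : Type u) [CommRing B₀] [Algebra A B₀] [Algebra (A ⧸ Ideal.span {x}) B₀]
    [IsScalarTower A (A ⧸ Ideal.span {x}) B₀]
    [Module.Finite (A ⧸ Ideal.span {x}) B₀] [Algebra.Etale (A ⧸ Ideal.span {x}) B₀]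
    (f₀ : C →ₐ[A] B₀) (hf₀ : ∀ g ∈ ({h, k} : Set A), ∀ b : B₀, ∃ (n : ℕ) (c : C), g ^ n • b = f₀ c)
    (hker : ∀ g ∈ ({h, k} : Set A), ∀ c, f₀ c = 0 → ∃ (n : ℕ) (c' : C), g ^ n • c = x • c') :
    Module.Free A (Module.Dual A C) := by
  let K := FractionRing A
  have hinjK := IsFractionRing.injective A K
  have hh0 : h ≠ 0 := t.pair.1
  have hk0 : k ≠ 0 := t.k_ne
  haveI : IsAdicComplete (Ideal.span {x}) A → True := fun _ => trivial
  haveI : HenselianRing A (maximalIdeal A) := inferInstance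
  haveI : HenselianRing A (Ideal.span {x}) :=
    Hensel.henselianRing_of_le (Ideal.span_singleton_le_iff_mem _ |>.2 hxm)
  obtain ⟨Bt, _, _, hfin, het, ⟨eB⟩⟩ :=
    Hensel.exists_finite_etale_lift (A := A) (I := Ideal.span {x}) B₀
  haveI := hfin
  haveI := het
  let ρ : Bt →ₐ[A] B₀ := (eB.restrictScalars A).toAlgHom.comp Algebra.TensorProduct.includeRight
  have hρ : Function.Surjective ρ := fun b => by
    obtain ⟨z, rfl⟩ := eB.surjective b
    obtain ⟨w, rfl⟩ := TensorProduct.mk_surjective A Bt (A ⧸ Ideal.span {x}) Ideal.Quotient.mk_surjective z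
    exact ⟨w, rfl⟩
  have hρker : ∀ b, ρ b = 0 → ∃ b', b = x • b' := fun b hb => by
    have h1 : (1 : A ⧸ Ideal.span {x}) ⊗ₜ[A] b = 0 := eB.injective (hb.trans (map_zero eB).symm)
    have h2 : Submodule.Quotient.mk b = (0 : Bt ⧸ (Ideal.span {x} • (⊤ : Submodule A Bt))) := by
      rw [← map_zero (TensorProduct.quotTensorEquivQuotSMul Bt (Ideal.span {x})), ← h1]
      exact (by simp : TensorProduct.quotTensorEquivQuotSMul Bt (Ideal.span {x})
        ((1 : A ⧸ Ideal.span {x}) ⊗ₜ[A] b) = _).symm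
    rw [Submodule.Quotient.mk_eq_zero, Submodule.ideal_span_singleton_smul] at h2
    obtain ⟨b', -, hb'⟩ := h2
    exact ⟨b', hb'.symm⟩
  have hβ : ∀ g ∈ ({h, k} : Set A), EtAway A C g → g ≠ 0 →
      ∃ β : Bt →ₐ[A] ↥(away C K g) ⧸ xI x (away C K g) 1, ∀ b (n : ℕ) (c : C), g ^ n • ρ b = f₀ c →
        g ^ n • β b = Ideal.Quotient.mk _ ⟨(1 : K) ⊗ₜ[A] c, image_mem_away K g c⟩ := by
    intro g hg eg hg0
    have hu : IsUnit (algebraMap A (↥(away C K g) ⧸ xI x (away C K g) 1) g) := by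
      rw [IsScalarTower.algebraMap_apply A (away C K g)]
      exact (isUnit_away (IsUnit.mk0 _ ((map_ne_zero_iff _ hinjK).2 hg0))).map _
    let ψ₀ : C →ₐ[A] ↥(away C K g) ⧸ xI x (away C K g) 1 :=
      (Ideal.Quotient.mkₐ A _).comp ((Algebra.TensorProduct.includeRight : C →ₐ[A] K ⊗[A] C).codRestrict
        (away C K g) (image_mem_away K g))
    have hxD : algebraMap A (↥(away C K g) ⧸ xI x (away C K g) 1) x = 0 := by
      rw [IsScalarTower.algebraMap_apply A (away C K g), Ideal.Quotient.algebraMap_eq,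
        Ideal.Quotient.eq_zero_iff_mem]
      exact Ideal.subset_span (by rw [pow_one]; rfl)
    let C₀ := C ⧸ Ideal.span {algebraMap A C x}
    let f₁ : C₀ →ₐ[A] B₀ := Ideal.Quotient.liftₐ _ f₀ fun c hc => by
      obtain ⟨d, rfl⟩ := Ideal.mem_span_singleton'.1 hc
      rw [_root_.map_mul, AlgHom.commutes, IsScalarTower.algebraMap_apply A (A ⧸ Ideal.span {x}) B₀,
        Ideal.Quotient.algebraMap_eq, Ideal.Quotient.eq_zero_iff_mem.2 (Ideal.mem_span_singleton_self x),
        map_zero, mul_zero]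
    let ψ₁ : C₀ →ₐ[A] ↥(away C K g) ⧸ xI x (away C K g) 1 := Ideal.Quotient.liftₐ _ ψ₀ fun c hc => by
      obtain ⟨d, rfl⟩ := Ideal.mem_span_singleton'.1 hc
      rw [_root_.map_mul, AlgHom.commutes, hxD, mul_zero]
    have hiso : IsoAway f₁ g := ⟨fun b => by
        obtain ⟨n, c, hc⟩ := hf₀ g hg b
        exact ⟨n, Ideal.Quotient.mk _ c, hc⟩,
      fun c hc => by
        obtain ⟨c, rfl⟩ := Ideal.Quotient.mk_surjective c
        obtain ⟨n, c', hc'⟩ := hker g hg c hc
        refine ⟨n, ?_⟩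
        rw [← Ideal.Quotient.mkₐ_eq_mk A, ← map_smul, hc', Ideal.Quotient.mkₐ_eq_mk,
          Ideal.Quotient.eq_zero_iff_mem, Algebra.smul_def]
        exact Ideal.mul_mem_right _ _ (Ideal.mem_span_singleton_self _)⟩
    obtain ⟨ψ, hψ⟩ := hiso.exists_extend (D := ↥(away C K g) ⧸ xI x (away C K g) 1) ψ₁ hu
    refine ⟨ψ.comp ρ, fun b n c hbc => ?_⟩
    rw [AlgHom.comp_apply, ← map_smul, hbc]
    exact hψ (Ideal.Quotient.mk _ c)
  obtain ⟨βh, hβh⟩ := hβ h (by simp) (hC h hhm) hh0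
  obtain ⟨βk, hβk⟩ := hβ k (by simp) (hC k hkm) hk0
  refine free_dual_step hxm hhm t (hC x hxm) (hC h hhm) (hC k hkm) βh βk (fun b yh yk hyh hyk => ?_)
    (fun c => ?_) fun b hb => ?_
  · obtain ⟨n, c, hc⟩ := hf₀ h (by simp) (ρ b)
    obtain ⟨m, c', hc'⟩ := hf₀ k (by simp) (ρ b)
    have e1 : h ^ n • (yh : K ⊗[A] C) - (1 : K) ⊗ₜ[A] c ∈ xS x (away C K h) 1 :=
      (mk_eq_mk_iff (h ^ n • yh) ⟨(1 : K) ⊗ₜ[A] c, image_mem_away K h c⟩).1 (by
        rw [← Ideal.Quotient.mkₐ_eq_mk A, map_smul, Ideal.Quotient.mkₐ_eq_mk, hyh]; exact hβh b n c hc)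
    have e2 : k ^ m • (yk : K ⊗[A] C) - (1 : K) ⊗ₜ[A] c' ∈ xS x (away C K k) 1 :=
      (mk_eq_mk_iff (k ^ m • yk) ⟨(1 : K) ⊗ₜ[A] c', image_mem_away K k c'⟩).1 (by
        rw [← Ideal.Quotient.mkₐ_eq_mk A, map_smul, Ideal.Quotient.mkₐ_eq_mk, hyk]; exact hβk b m c' hc')
    obtain ⟨l, d, hd⟩ := hker h (by simp) (k ^ m • c - h ^ n • c') (by
      rw [_root_.map_sub, map_smul, map_smul, ← hc, ← hc', smul_comm, sub_self])
    refine xS_saturated (m := l + n + m) (mul_ne_zero hh0 hk0) ?_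
    have e3 : x • ((1 : K) ⊗ₜ[A] d) ∈ xS x (away C K (h * k)) 1 :=
      ⟨(1 : K) ⊗ₜ[A] d, image_mem_away K _ d, by rw [LinearMap.lsmul_apply, pow_one]⟩
    have := Submodule.smul_mem _ (k ^ (l + n) * h ^ m) (add_mem (sub_mem
      (Submodule.smul_mem _ (h ^ l * k ^ m) (xS_le_of_le away_mono e1))
      (Submodule.smul_mem _ (h ^ l * h ^ n) (xS_le_of_le away_mono' e2))) e3)
    have he : x • ((1 : K) ⊗ₜ[A] d) = (h ^ l * k ^ m) • ((1 : K) ⊗ₜ[A] c) - (h ^ l * h ^ n) • ((1 : K) ⊗ₜ[A] c') := by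
      rw [← TensorProduct.tmul_smul, ← hd]
      simp [smul_sub, smul_smul, TensorProduct.tmul_sub, TensorProduct.tmul_smul]
    convert this using 1
    rw [he]
    simp only [smul_sub, smul_add, smul_smul]
    module
  · obtain ⟨b, hb⟩ := hρ (f₀ c)
    refine ⟨0, b, ?_⟩
    have := hβh b 0 c (by rw [pow_zero, one_smul, hb])
    rw [pow_zero, one_smul] at this
    rw [this, pow_zero, one_smul]
  · obtain ⟨n, c, hc⟩ := hf₀ h (by simp) (ρ b)
    have h1 := hβh b n c hc
    rw [hb, smul_zero, eq_comm, ← (Ideal.Quotient.mk (xI x (away C K h) 1)).map_zero, mk_eq_mk_iff] at h1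
    rw [Subalgebra.coe_zero, sub_zero] at h1
    obtain ⟨w, ⟨l, c', hc'⟩, hw⟩ := h1
    rw [LinearMap.lsmul_apply, pow_one] at hw
    replace hw : x • w = (1 : K) ⊗ₜ[A] c := hw
    obtain ⟨j, hj⟩ := eq_zero_of_image_eq_zero (K := K) (hC h hhm) (c := h ^ l • c - x • c') (by
      rw [TensorProduct.tmul_sub, TensorProduct.tmul_smul, TensorProduct.tmul_smul, ← hc', ← hw, smul_comm,
        sub_self])
    have h2 : ρ (h ^ (j + l + n) • b) = 0 := by
      rw [pow_add, mul_smul, map_smul, map_smul, hc, ← map_smul, pow_add, mul_smul]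
      rw [smul_sub, sub_eq_zero] at hj
      rw [hj, map_smul, map_smul, Algebra.smul_def x, IsScalarTower.algebraMap_apply A (A ⧸ Ideal.span {x}) B₀,
        Ideal.Quotient.algebraMap_eq, Ideal.Quotient.eq_zero_iff_mem.2 (Ideal.mem_span_singleton_self x),
        map_zero, zero_mul, smul_zero]
    obtain ⟨b', hb'⟩ := hρker _ h2
    exact ⟨j + l + n, b', hb'⟩

end Step

theorem free_dual_complete (A : Type u) [CommRing A] [IsRegularLocalRing A] [IsDomain A]
    [IsAdicComplete (maximalIdeal A) A] (hd : 3 ≤ (maximalIdeal A).spanFinrank)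
    (ih : ∀ (R : Type u) [CommRing R] [IsRegularLocalRing R] (T : Type u) [CommRing T] [Algebra R T]
      [Module.Finite R T], EtOff R T → (maximalIdeal R).spanFinrank < (maximalIdeal A).spanFinrank →
      Module.Free R (Module.Dual R T))
    (C : Type u) [CommRing C] [Algebra A C] [Module.Finite A C] (hC : EtOff A C) :
    Module.Free A (Module.Dual A C) := by
  obtain ⟨x, h, k, hxm, hx2, hhm, hkm, hxh, hxk, t⟩ := exists_triple A hd
  obtain ⟨hR, hdim⟩ := RegLoc6.isRegularLocalRing_quot_and hxm hx2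
  haveI := hR
  haveI := RegLoc6.isDomain_of_isRegularLocalRing (A ⧸ Ideal.span {x})
  have hdim' := hdim
  rw [← (isRegularLocalRing_iff A).1 ‹_›, ← (isRegularLocalRing_iff (A ⧸ Ideal.span {x})).1 hR] at hdim'
  have hlt : (maximalIdeal (A ⧸ Ideal.span {x})).spanFinrank + 1 = (maximalIdeal A).spanFinrank := by
    exact_mod_cast hdim'
  have hoff := etOff_quot hC (Ideal.span {x})
  haveI := ih (A ⧸ Ideal.span {x}) ((A ⧸ Ideal.span {x}) ⊗[A] C) hoff (by omega)
  have hmem : ∀ g ∈ maximalIdeal A, Ideal.Quotient.mk (Ideal.span {x}) g ∈ maximalIdeal (A ⧸ Ideal.span {x}) :=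
    fun g hg => RegLoc6.map_maximalIdeal_quot (Ideal.span {x}) ▸ Ideal.mem_map_of_mem _ hg
  have hpair : RegPair (A ⧸ Ideal.span {x}) (Ideal.Quotient.mk _ h) (Ideal.Quotient.mk _ k) := by
    refine ⟨fun h0 => hxh (Ideal.mem_span_singleton.1 (Ideal.Quotient.eq_zero_iff_mem.1 h0)), fun z hz => ?_⟩
    obtain ⟨z, rfl⟩ := Ideal.Quotient.mk_surjective z
    obtain ⟨u, hu⟩ := hz
    obtain ⟨u, rfl⟩ := Ideal.Quotient.mk_surjective u
    rw [← map_mul, ← map_mul, Ideal.Quotient.eq, Ideal.mem_span_singleton'] at hu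
    obtain ⟨v, hv⟩ := hu
    obtain ⟨p, q, hpq⟩ := Ideal.mem_span_pair.1 (t.k_nzd₂ 1 1 z
      (Ideal.mem_span_pair.2 ⟨v, u, by linear_combination hv⟩))
    refine ⟨Ideal.Quotient.mk _ q, ?_⟩
    rw [← map_mul, Ideal.Quotient.eq, Ideal.mem_span_singleton']
    exact ⟨p, by linear_combination hpq⟩
  obtain ⟨B₀, _, _, f, hfin, het, hiso⟩ := exists_etale_algebra hoff (by
    rw [← (isRegularLocalRing_iff (A ⧸ Ideal.span {x})).1 hR]; exact_mod_cast (by omega : 2 ≤ _))
    (hmem h hhm) (hmem k hkm) hpair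
  letI : Algebra A B₀ := Algebra.compHom B₀ (Ideal.Quotient.mk (Ideal.span {x}))
  haveI : IsScalarTower A (A ⧸ Ideal.span {x}) B₀ := IsScalarTower.of_algebraMap_eq fun _ => rfl
  haveI := hfin
  haveI := het
  let f₀ : C →ₐ[A] B₀ := (f.restrictScalars A).comp Algebra.TensorProduct.includeRight
  have hsmul : ∀ (g : A) (n : ℕ) {M : Type u} [AddCommGroup M] [Module A M] [Module (A ⧸ Ideal.span {x}) M]
      [IsScalarTower A (A ⧸ Ideal.span {x}) M] (m : M),
      (Ideal.Quotient.mk (Ideal.span {x}) g) ^ n • m = g ^ n • m := fun g n {M} _ _ _ _ m => by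
    rw [← map_pow, ← Ideal.Quotient.algebraMap_eq, algebraMap_smul]
  have hgm : ∀ g ∈ ({h, k} : Set A), g ∈ maximalIdeal A := by rintro g (rfl | rfl) <;> assumption
  refine free_dual_of_quotient hxm hhm hkm t hC B₀ f₀ (fun g hg b => ?_) fun g hg c hc => ?_
  · obtain ⟨n, c, hc⟩ := (hiso _ (hoff _ (hmem g (hgm g hg)))).1 b
    obtain ⟨w, rfl⟩ := TensorProduct.mk_surjective A C (A ⧸ Ideal.span {x}) Ideal.Quotient.mk_surjective c
    exact ⟨n, w, by rw [← hsmul]; exact hc⟩
  · obtain ⟨n, hn⟩ := (hiso _ (hoff _ (hmem g (hgm g hg)))).2 ((1 : A ⧸ Ideal.span {x}) ⊗ₜ[A] c) hc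
    rw [← map_pow, ← Ideal.Quotient.algebraMap_eq, algebraMap_smul, ← TensorProduct.tmul_smul] at hn
    have h2 : Submodule.Quotient.mk (g ^ n • c) = (0 : C ⧸ (Ideal.span {x} • (⊤ : Submodule A C))) := by
      rw [← map_zero (TensorProduct.quotTensorEquivQuotSMul C (Ideal.span {x})), ← hn]
      exact (by simp : TensorProduct.quotTensorEquivQuotSMul C (Ideal.span {x})
        ((1 : A ⧸ Ideal.span {x}) ⊗ₜ[A] (g ^ n • c)) = _).symm
    rw [Submodule.Quotient.mk_eq_zero, Submodule.ideal_span_singleton_smul] at h2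
    obtain ⟨c', -, hc'⟩ := h2
    exact ⟨n, c', hc'.symm⟩

/-- Over a regular local ring of dimension at least two the trace dual of an algebra étale off the
closed point is free. -/
theorem free_dual (A : Type u) [CommRing A] [IsRegularLocalRing A] (C : Type u) [CommRing C] [Algebra A C]
    [Module.Finite A C] (hC : EtOff A C) : Module.Free A (Module.Dual A C) := by
  obtain ⟨d, hd⟩ : ∃ d, (maximalIdeal A).spanFinrank = d := ⟨_, rfl⟩
  induction d using Nat.strong_induction_on generalizing A C with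
  | _ d ih =>
    by_cases h2 : d ≤ 2
    · exact free_dual_of_spanFinrank_le_two (hd.trans_le h2) C
    haveI := LC.Canon.isNoetherianRing_completion (R := A)
    haveI := LC.Canon.faithfullyFlat_completion (R := A)
    let A' := AdicCompletion (maximalIdeal A) A
    haveI : IsRegularLocalRing A' := CILib.isRegularLocalRing_adicCompletion A
    haveI := CILib.isAdicComplete_adicCompletion A
    haveI := RegLoc6.isDomain_of_isRegularLocalRing A'
    have hd' : (maximalIdeal A').spanFinrank = d := by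
      have h := CILib.ringKrullDim_adicCompletion A
      rw [← (isRegularLocalRing_iff A).1 ‹_›, ← (isRegularLocalRing_iff A').1 ‹_›, hd] at h
      exact_mod_cast h
    suffices h : Module.Free A' (Module.Dual A' (A' ⊗[A] C)) by
      haveI := h
      exact free_dual_of_baseChange A A' C
    have hC' : EtOff A' (A' ⊗[A] C) := etOff_baseChange hC A' (AdicCompletion.maximalIdeal_eq_map (R := A))
    exact free_dual_complete A' (by omega) (fun R _ _ T _ _ _ hT hlt => ih _ (by omega) R T hT rfl) _ hC'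

end

end Groth.Agent.Pi1Ext.RegPurity

noncomputable section

namespace Groth.Agent.Pi1Ext.RegPurity

open IsLocalRing

/-- A regular local ring of dimension at least two has a regular pair in its maximal ideal. -/
theorem exists_regPair (A : Type u) [CommRing A] [IsRegularLocalRing A]
    (hA : (2 : WithBot ℕ∞) ≤ ringKrullDim A) :
    ∃ h k : A, h ∈ maximalIdeal A ∧ k ∈ maximalIdeal A ∧ RegPair A h k := by
  haveI := RegLoc6.isDomain_of_isRegularLocalRing A
  have h2 : 2 ≤ (maximalIdeal A).spanFinrank := by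
    rw [← (isRegularLocalRing_iff A).1 ‹_›] at hA
    exact_mod_cast hA
  have hne : ¬ IsField A := fun hf => by
    rw [IsLocalRing.isField_iff_maximalIdeal_eq.1 hf, Submodule.spanFinrank_bot] at h2
    omega
  obtain ⟨x, hx, hx2⟩ := SetLike.not_le_iff_exists.1 (RegLoc6.maximalIdeal_sq_ne hne)
  obtain ⟨hR, hdim⟩ := RegLoc6.isRegularLocalRing_quot_and hx hx2
  haveI := hR
  haveI := RegLoc6.isDomain_of_isRegularLocalRing (A ⧸ Ideal.span {x})
  rw [← (isRegularLocalRing_iff A).1 ‹_›, ← (isRegularLocalRing_iff (A ⧸ Ideal.span {x})).1 hR] at hdim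
  have hd : (maximalIdeal (A ⧸ Ideal.span {x})).spanFinrank + 1 = (maximalIdeal A).spanFinrank := by
    exact_mod_cast hdim
  obtain ⟨k, hk, hkx⟩ : ∃ k ∈ maximalIdeal A, k ∉ Ideal.span {x} := by
    refine SetLike.not_le_iff_exists.1 fun hle => ?_
    have h0 : maximalIdeal (A ⧸ Ideal.span {x}) = ⊥ := by
      rw [← RegLoc6.map_maximalIdeal_quot, Ideal.map_eq_bot_iff_le_ker, Ideal.mk_ker]
      exact hle
    rw [h0, Submodule.spanFinrank_bot] at hd
    omega
  have hx0 : x ≠ 0 := fun h0 => hx2 (h0 ▸ zero_mem _)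
  have hp : Prime x := (Ideal.span_singleton_prime hx0).1 ((Ideal.Quotient.isDomain_iff_prime _).1 inferInstance)
  exact ⟨x, k, hx, hk, hx0, fun z hz => (hp.dvd_or_dvd hz).resolve_left fun h =>
    hkx (Ideal.mem_span_singleton.2 h)⟩

/-- Purity of the branch locus, algebraic form: an algebra étale off the closed point of a regular
local ring becomes a finite étale algebra. -/
theorem exists_finite_etale_of_etOff (A : Type u) [CommRing A] [IsRegularLocalRing A]
    (hA : (2 : WithBot ℕ∞) ≤ ringKrullDim A) (C : Type u) [CommRing C] [Algebra A C] [Module.Finite A C]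
    (hC : EtOff A C) :
    ∃ (B : Type u) (_ : CommRing B) (_ : Algebra A B) (f : C →ₐ[A] B),
      Module.Finite A B ∧ Algebra.Etale A B ∧ ∀ g ∈ maximalIdeal A, IsoAway f g := by
  haveI := RegLoc6.isDomain_of_isRegularLocalRing A
  haveI := free_dual A C hC
  obtain ⟨h, k, hh, hk, hp⟩ := exists_regPair A hA
  obtain ⟨B, i1, i2, f, h1, h2, h3⟩ := exists_etale_algebra hC hA hh hk hp
  exact ⟨B, i1, i2, f, h1, h2, fun g hg => h3 g (hC g hg)⟩

end Groth.Agent.Pi1Ext.RegPurity

end
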