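import Groth.Agent.Pi1Ext.BranchAlg
import Groth.Agent.StalkLoc7.Basic

/-! Purity of the branch locus for schemes. -/

set_option autoImplicit false
set_option linter.style.haveILetI false
universe u

open AlgebraicGeometry CategoryTheory IsLocalRing

namespace Groth.Agent.Pi1Ext.BranchSch

set_option backward.isDefEq.respectTransparency false
set_option backward.isDefEq.respectTransparency.types false

/-- Purity of the branch locus, global algebraic form. -/
theorem isEtaleAt_global {A S : Type u} [CommRing A] [CommRing S] [Algebra A S] [Algebra.FiniteType A S]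
    (q : Ideal S) [q.IsPrime] [Algebra.QuasiFiniteAt A q] (p : Ideal A) [p.IsPrime]
    [IsRegularLocalRing (Localization.AtPrime p)] (hqp : q.comap (algebraMap A S) = p)
    [IsDomain (Localization.AtPrime q)] [IsIntegrallyClosed (Localization.AtPrime q)]
    (hdim : ringKrullDim (Localization.AtPrime q) = ringKrullDim (Localization.AtPrime p))
    (h1 : (1 : WithBot ℕ∞) ≤ ringKrullDim (Localization.AtPrime q))
    (hunr : ∀ (t : Ideal S) (_ : t.IsPrime), t ≤ q → t.height = 1 → Algebra.IsUnramifiedAt A t) :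
    Algebra.IsEtaleAt A q := by
  obtain ⟨t, ht, hts, htm⟩ := BranchAlg.exists_over p q hqp
  haveI := BranchAlg.quasiFiniteAt p q t hts
  let e := BranchAlg.locEquiv p q t hts
  haveI : IsDomain (Localization.AtPrime t) := e.symm.toMulEquiv.isDomain (Localization.AtPrime q)
  haveI : IsIntegrallyClosed (Localization.AtPrime t) := IsIntegrallyClosed.of_equiv e.toRingEquiv
  have he := ringKrullDim_eq_of_ringEquiv e.toRingEquiv
  refine BranchAlg.formallyEtale_symm p q t hts (BranchAlg.isEtaleAt_local t (he ▸ hdim) (he ▸ h1)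
    fun t' ht' hle hh => ?_)
  haveI : (t'.comap (algebraMap S (BranchAlg.Sloc (S := S) p))).IsPrime := Ideal.comap_isPrime _ _
  exact BranchAlg.formallyUnramified p _ t' rfl (hunr _ inferInstance (hts ▸ Ideal.comap_mono hle)
    ((IsLocalization.height_under (Algebra.algebraMapSubmonoid S p.primeCompl) t').trans hh))

/-- An étale point has an étale neighbourhood. -/
theorem exists_etale_of_isEtaleAt {X Y : Scheme.{u}} (f : X ⟶ Y) {U : Y.Opens} (hU : IsAffineOpen U)
    {V : X.Opens} (hV : IsAffineOpen V) (hVU : V ≤ f ⁻¹ᵁ U) (x : X) (hxV : x ∈ V)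
    (h : letI := (f.appLE U V hVU).hom.toAlgebra
      ∃ (_ : Algebra.FinitePresentation Γ(Y, U) Γ(X, V)),
        Algebra.IsEtaleAt Γ(Y, U) (hV.primeIdealOf ⟨x, hxV⟩).asIdeal) :
    ∃ W : X.Opens, x ∈ W ∧ Etale (W.ι ≫ f) := by
  letI := (f.appLE U V hVU).hom.toAlgebra
  obtain ⟨_, _⟩ := h
  obtain ⟨r, hr, hu⟩ := Algebra.exists_etale_of_isEtaleAt (R := Γ(Y, U)) (hV.primeIdealOf ⟨x, hxV⟩).asIdeal
  refine ⟨X.basicOpen r, StalkLoc7.mem_basicOpen hV hxV hr, ?_⟩
  have hle : X.basicOpen r ≤ f ⁻¹ᵁ U := (X.basicOpen_le r).trans hVU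
  have : IsAffine _ := hU
  have : IsAffine _ := hV.basicOpen r
  rw [← Scheme.Hom.resLE_comp_ι f hle]
  haveI : Etale (f.resLE U (X.basicOpen r) hle) := by
    rw [HasRingHomProperty.iff_of_isAffine (P := @Etale)]
    refine (RingHom.Etale.respectsIso.arrow_mk_iso_iff
      (arrowResLEAppIso f U (X.basicOpen r) hle)).mpr ?_
    have := hV.isLocalization_basicOpen r
    rw [← RingHom.etale_algebraMap] at hu
    convert RingHom.Etale.respectsIso.1 _
      (IsLocalization.algEquiv (.powers r) _ Γ(X, X.basicOpen r)).toRingEquiv hu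
    ext a
    exact StalkLoc7.appLE_eq f hVU r a
  infer_instance

/-- Purity of the branch locus. -/
theorem exists_etale_nhd {X Y : Scheme.{u}} (f : X ⟶ Y) [LocallyOfFiniteType f] [IsLocallyNoetherian Y] (x : X)
    (hx : IsDomain (X.presheaf.stalk x) ∧ IsIntegrallyClosed (X.presheaf.stalk x))
    (hy : IsRegularLocalRing (Y.presheaf.stalk (f.base x)))
    (hq : f.QuasiFiniteAt x)
    (hdim : ringKrullDim (X.presheaf.stalk x) = ringKrullDim (Y.presheaf.stalk (f.base x)))
    (hdim1 : (1 : WithBot ℕ∞) ≤ ringKrullDim (X.presheaf.stalk x))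
    (hunr : ∀ x' : X, x' ⤳ x → ringKrullDim (X.presheaf.stalk x') = 1 →
      (f.stalkMap x').hom.FormallyUnramified) :
    ∃ U : X.Opens, x ∈ U ∧ Etale (U.ι ≫ f) := by
  obtain ⟨U, hU, hxU, -⟩ := exists_isAffineOpen_mem_and_subset (x := f x) (U := ⊤) trivial
  obtain ⟨V, hV, hxV, hVU⟩ := exists_isAffineOpen_mem_and_subset (x := x) (U := f ⁻¹ᵁ U) hxU
  have hFT := f.finiteType_appLE hU hV hVU
  have hqf := hq.quasiFiniteAt hV hU hVU hxV
  letI := (f.appLE U V hVU).hom.toAlgebra
  haveI : IsNoetherianRing Γ(Y, U) := IsLocallyNoetherian.component_noetherian ⟨U, hU⟩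
  haveI : Algebra.FiniteType Γ(Y, U) Γ(X, V) := hFT
  haveI : Algebra.FinitePresentation Γ(Y, U) Γ(X, V) :=
    Algebra.FinitePresentation.of_finiteType.mp inferInstance
  refine exists_etale_of_isEtaleAt f hU hV hVU x hxV ⟨inferInstance, ?_⟩
  let p := (hU.primeIdealOf ⟨f x, hVU hxV⟩).asIdeal
  let q := (hV.primeIdealOf ⟨x, hxV⟩).asIdeal
  haveI : Algebra.QuasiFiniteAt Γ(Y, U) q := hqf
  have hpq : q.comap (algebraMap Γ(Y, U) Γ(X, V)) = p :=
    congr($(IsAffineOpen.comap_primeIdealOf_appLE U hU V hV hVU hxV).1)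
  letI := TopCat.Presheaf.algebra_section_stalk Y.presheaf (U := U) ⟨f x, hVU hxV⟩
  letI := TopCat.Presheaf.algebra_section_stalk X.presheaf (U := V) ⟨x, hxV⟩
  haveI := hU.isLocalization_stalk ⟨f x, hVU hxV⟩
  haveI := hV.isLocalization_stalk ⟨x, hxV⟩
  let ey := (IsLocalization.algEquiv p.primeCompl (Localization.AtPrime p)
    (Y.presheaf.stalk ((⟨f x, hVU hxV⟩ : U) : Y))).toRingEquiv
  let ex := (IsLocalization.algEquiv q.primeCompl (Localization.AtPrime q)
    (X.presheaf.stalk ((⟨x, hxV⟩ : V) : X))).toRingEquiv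
  haveI : IsRegularLocalRing (Y.presheaf.stalk ((⟨f x, hVU hxV⟩ : U) : Y)) := hy
  haveI : IsRegularLocalRing (Localization.AtPrime p) := IsRegularLocalRing.of_ringEquiv ey.symm
  haveI : IsDomain (X.presheaf.stalk ((⟨x, hxV⟩ : V) : X)) := hx.1
  haveI : IsIntegrallyClosed (X.presheaf.stalk ((⟨x, hxV⟩ : V) : X)) := hx.2
  haveI : IsDomain (Localization.AtPrime q) := ex.toMulEquiv.isDomain _
  haveI : IsIntegrallyClosed (Localization.AtPrime q) := IsIntegrallyClosed.of_equiv ex.symm
  refine isEtaleAt_global q p hpq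
    ((ringKrullDim_eq_of_ringEquiv ex).trans (hdim.trans (ringKrullDim_eq_of_ringEquiv ey).symm))
    (hdim1.trans (ringKrullDim_eq_of_ringEquiv ex).ge) fun t ht htq hone => ?_
  let x' : X := hV.fromSpec ⟨t, ht⟩
  have hx'V : x' ∈ V := hV.range_fromSpec.subset ⟨_, rfl⟩
  have hprime : hV.primeIdealOf ⟨x', hx'V⟩ = ⟨t, ht⟩ :=
    hV.fromSpec.isOpenEmbedding.injective (hV.fromSpec_primeIdealOf _)
  have hspec : x' ⤳ x := by
    have := ((PrimeSpectrum.le_iff_specializes ⟨t, ht⟩ (hV.primeIdealOf ⟨x, hxV⟩)).1 htq).map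
      hV.fromSpec.continuous
    exact this.trans (specializes_of_eq (hV.fromSpec_primeIdealOf ⟨x, hxV⟩))
  letI := TopCat.Presheaf.algebra_section_stalk X.presheaf (U := V) ⟨x', hx'V⟩
  haveI := hV.isLocalization_stalk ⟨x', hx'V⟩
  have hd1 : ringKrullDim (X.presheaf.stalk x') = 1 := by
    rw [show ringKrullDim (X.presheaf.stalk x') =
      ringKrullDim (X.presheaf.stalk ((⟨x', hx'V⟩ : V) : X)) from rfl,
      IsLocalization.AtPrime.ringKrullDim_eq_height (hV.primeIdealOf ⟨x', hx'V⟩).asIdeal, hprime]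
    exact congrArg _ hone
  let p' := (hU.primeIdealOf ⟨f x', hVU hx'V⟩).asIdeal
  let q' := (hV.primeIdealOf ⟨x', hx'V⟩).asIdeal
  have : q'.LiesOver p' := ⟨congr($(IsAffineOpen.comap_primeIdealOf_appLE U hU V hV hVU hx'V).1).symm⟩
  letI := Localization.AtPrime.algebraOfLiesOver p' q'
  haveI : Algebra.FormallyUnramified (Localization.AtPrime p') (Localization.AtPrime q') := by
    rw [← RingHom.formallyUnramified_algebraMap]
    exact (RingHom.FormallyUnramified.respectsIso.arrow_mk_iso_iff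
      (IsAffineOpen.arrowStalkMapIso f U hU V hV hVU hx'V)).mp (hunr x' hspec hd1)
  have hu : Algebra.IsUnramifiedAt Γ(Y, U) q' :=
    Algebra.FormallyUnramified.comp _ (Localization.AtPrime p') _
  have hqt : q' = t := congrArg PrimeSpectrum.asIdeal hprime
  have key : ∀ (a b : Ideal Γ(X, V)) (_ : a.IsPrime) (_ : b.IsPrime), a = b →
      Algebra.IsUnramifiedAt Γ(Y, U) a → Algebra.IsUnramifiedAt Γ(Y, U) b := fun a b _ _ hab h => by
    subst hab; exact h
  exact key q' t inferInstance ht hqt hu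

end Groth.Agent.Pi1Ext.BranchSch
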