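import Groth.Prelude.Def_NonAbH2
import Groth.Prelude.Def_TwC
import Groth.Agent.GrpSchLib.GaPts
import Mathlib.RingTheory.Finiteness.ModuleFinitePresentation
import Mathlib.RingTheory.Flat.FaithfullyFlat.Algebra
import Mathlib.RingTheory.AdjoinRoot
import Mathlib.AlgebraicGeometry.Sites.Fpqc
import Mathlib.AlgebraicGeometry.Morphisms.Finite
import Mathlib.AlgebraicGeometry.Limits
import Mathlib.FieldTheory.Finite.Basic

/-! The Artin–Schreier sequence is exact for the fpqc topology. -/

set_option autoImplicit false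
universe u

open CategoryTheory CategoryTheory.Limits MonoidalCategory CartesianMonoidalCategory MonObj GrpObj AlgebraicGeometry
open Opposite

noncomputable section

namespace Groth.Agent.Pi1Ext.ASSeq

variable {p : ℕ} [Fact p.Prime]

section Ring

variable {R : Type u} [CommRing R] (hp : (p : R) = 0)

/-- `ZMod p → R` in characteristic `p`. -/
def cst : ZMod p →+* R :=
  haveI := ringChar.charP R
  ZMod.castHom (ringChar.dvd hp) R

theorem sub_pow_p (hp : (p : R) = 0) (x y : R) : (x - y) ^ p = x ^ p - y ^ p := by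
  rcases subsingleton_or_nontrivial R with h | h
  · exact Subsingleton.elim _ _
  · haveI : CharP R p := CharP.of_ringHom_of_ne_zero (cst hp) p (Fact.out : p.Prime).ne_zero
    exact sub_pow_char ..

theorem cst_pow (a : ZMod p) : cst hp a ^ p = cst hp a := by rw [← map_pow, ZMod.pow_card]

theorem natural {R' : Type u} [CommRing R'] (hp' : (p : R') = 0) (f : R →+* R') (a : ZMod p) :
    f (cst hp a) = cst hp' a := RingHom.congr_fun (Subsingleton.elim (f.comp (cst hp)) (cst hp')) a

/-- The idempotent cutting out the locus `t = a`. -/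
def idem (t : R) (a : ZMod p) : R := 1 - (t - cst hp a) ^ (p - 1)

theorem sub_mul_idem {t : R} (ht : t ^ p = t) (a : ZMod p) : (t - cst hp a) * idem hp t a = 0 := by
  have hp1 : p - 1 + 1 = p := Nat.succ_pred_eq_of_pos (Fact.out : p.Prime).pos
  rw [idem, mul_sub, _root_.mul_one, ← pow_succ', hp1, sub_pow_p hp, ht, cst_pow, sub_self]

theorem exists_isUnit_idem [IsLocalRing R] {t : R} (ht : t ^ p = t) : ∃ a, IsUnit (idem hp t a) := by
  let K := IsLocalRing.ResidueField R
  let π : R →+* K := IsLocalRing.residue R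
  haveI : CharP K p := CharP.of_ringHom_of_ne_zero (π.comp (cst hp)) p (Fact.out : p.Prime).ne_zero
  have h : π t ∈ (⊥ : Subfield K) := (Subfield.mem_bot_iff_pow_eq_self (F := K) (p := p)).2 (by rw [← map_pow, ht])
  rw [← ZMod.fieldRange_castHom_eq_bot p] at h
  obtain ⟨a, ha⟩ := h
  refine ⟨a, ?_⟩
  refine Classical.not_not.1 fun hu => ?_
  have h1 : π (idem hp t a) = 0 := (IsLocalRing.residue_eq_zero_iff _).2 hu
  have h2 : π (cst hp a) = π t := by
    rw [← ha]
    exact RingHom.congr_fun (Subsingleton.elim (π.comp (cst hp)) (ZMod.castHom dvd_rfl K)) a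
  rw [idem, map_sub, map_one, map_pow, map_sub, h2, sub_self,
    zero_pow (by have := (Fact.out : p.Prime).two_le; omega), sub_zero] at h1
  exact one_ne_zero h1

theorem eq_of_isUnit_idem {t : R} (ht : t ^ p = t) {a : ZMod p} (ha : IsUnit (idem hp t a)) :
    t = cst hp a :=
  sub_eq_zero.1 (ha.mul_left_eq_zero.1 (sub_mul_idem hp ht a))

theorem cst_injective [Nontrivial R] : Function.Injective (cst (p := p) hp) := (cst hp).injective

theorem idem_natural {R' : Type u} [CommRing R'] (hp' : (p : R') = 0) (f : R →+* R') (t : R) (a : ZMod p) :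
    f (idem hp t a) = idem hp' (f t) a := by
  rw [idem, idem, map_sub, map_one, map_pow, map_sub, natural hp hp']

end Ring

section Poly

variable (A : Type u) [CommRing A] [Nontrivial A] (p)

open Polynomial in
/-- `X ↦ X - X ^ p` is finite free. -/
theorem poly_props : (eval₂RingHom (C : A →+* A[X]) (X - X ^ p)).Finite ∧
    (eval₂RingHom (C : A →+* A[X]) (X - X ^ p)).Flat ∧
    (eval₂RingHom (C : A →+* A[X]) (X - X ^ p)).FinitePresentation ∧
    Function.Surjective (PrimeSpectrum.comap (eval₂RingHom (C : A →+* A[X]) (X - X ^ p))) := by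
  set φ := eval₂RingHom (C : A →+* A[X]) (X - X ^ p) with hφ
  let g : (A[X])[X] := X ^ p - X + C X
  have hg : g.Monic := by
    have h2 := (Fact.out : p.Prime).two_le
    refine monic_X_pow_add ?_ |> fun h => (show g = X ^ p + (C X - X) by ring) ▸ h
    refine (degree_sub_le _ _).trans_lt (max_lt (degree_C_le.trans_lt ?_) (degree_X_le.trans_lt ?_)) <;>
      · norm_cast <;> omega
  let fwd : AdjoinRoot g →+* A[X] := AdjoinRoot.lift φ X (by simp [g, hφ])
  let bwd : A[X] →+* AdjoinRoot g :=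
    eval₂RingHom ((AdjoinRoot.of g).comp C) (AdjoinRoot.root g)
  have hroot : (AdjoinRoot.root g) ^ p - AdjoinRoot.root g + AdjoinRoot.of g X = 0 := by
    have := AdjoinRoot.eval₂_root g
    simpa [g] using this
  have h1 : fwd.comp bwd = RingHom.id _ := by
    refine Polynomial.ringHom_ext (fun a => ?_) ?_ <;> simp [fwd, bwd, hφ]
  have h2 : bwd.comp fwd = RingHom.id _ := by
    refine AdjoinRoot.ringHom_ext (Polynomial.ringHom_ext (fun a => ?_) ?_) ?_
    · simp [fwd, bwd, hφ]
    · simp [fwd, bwd, hφ]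
      linear_combination -hroot
    · simp [fwd, bwd]
  have hφ' : φ = fwd.comp (AdjoinRoot.of g) := RingHom.ext fun a => by simp [fwd]
  have hb : Function.Bijective fwd :=
    Function.bijective_iff_has_inverse.2 ⟨bwd, RingHom.congr_fun h2, RingHom.congr_fun h1⟩
  haveI : Module.Finite A[X] (AdjoinRoot g) := (AdjoinRoot.powerBasis' hg).finite
  haveI : Module.Free A[X] (AdjoinRoot g) := Module.Free.of_basis (AdjoinRoot.powerBasis' hg).basis
  haveI : Nontrivial (AdjoinRoot g) := fwd.domain_nontrivial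
  haveI : Module.FinitePresentation A[X] (AdjoinRoot g) := Module.finitePresentation_of_projective _ _
  have e : AdjoinRoot.of g = algebraMap A[X] (AdjoinRoot g) := rfl
  rw [hφ', e]
  refine ⟨(RingHom.Finite.of_surjective _ hb.2).comp (RingHom.finite_algebraMap.2 inferInstance),
    RingHom.Flat.comp (RingHom.flat_algebraMap_iff.2 inferInstance) (RingHom.Flat.of_bijective hb),
    (RingHom.FinitePresentation.of_bijective hb).comp (RingHom.finitePresentation_algebraMap.2 inferInstance), ?_⟩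
  rw [PrimeSpectrum.comap_comp]
  haveI : Module.FaithfullyFlat A[X] (AdjoinRoot g) := inferInstance
  exact PrimeSpectrum.comap_surjective_of_faithfullyFlat.comp
    (PrimeSpectrum.comapEquiv (RingEquiv.ofBijective fwd hb)).symm.surjective

end Poly

section Seq

open GrpSchLib GaPts
attribute [-instance] ULift.module ULift.module'

variable (p)

/-- The coordinate ring of the additive group as a polynomial ring. -/
def toPoly : Coord.{u} →+* Polynomial (ULift.{u} ℤ) := ringHomOfFn Polynomial.X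

/-- Back from the polynomial ring. -/
def ofPoly : Polynomial (ULift.{u} ℤ) →+* Coord.{u} :=
  Polynomial.eval₂RingHom (algebraMap (ULift.{u} ℤ) Coord.{u}) gen

theorem ulift_hom_ext {R : Type*} [CommRing R] (f g : ULift.{u} ℤ →+* R) : f = g := by
  ext ⟨r⟩
  exact RingHom.congr_fun (Subsingleton.elim (f.comp ULift.ringEquiv.symm.toRingHom)
    (g.comp ULift.ringEquiv.symm.toRingHom)) r

theorem toPoly_ofPoly : toPoly.{u}.comp ofPoly = RingHom.id _ :=
  Polynomial.ringHom_ext (fun r => RingHom.congr_fun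
    (ulift_hom_ext ((toPoly.comp ofPoly).comp Polynomial.C) Polynomial.C) r)
    (by simp [toPoly, ofPoly, ringHomOfFn_gen])

theorem ofPoly_toPoly : ofPoly.comp toPoly.{u} = RingHom.id _ :=
  GaPts.ringHom_ext (by simp [toPoly, ofPoly, ringHomOfFn_gen])

/-- The coordinate form of `t ↦ t - t ^ p`. -/
def asRing : Coord.{u} →+* Coord.{u} := ringHomOfFn (gen - gen ^ p)

theorem asRing_eq : asRing.{u} p = ofPoly.comp
    ((Polynomial.eval₂RingHom Polynomial.C (Polynomial.X - Polynomial.X ^ p)).comp toPoly) :=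
  GaPts.ringHom_ext (by simp [asRing, toPoly, ofPoly, ringHomOfFn_gen])

/-- `t ↦ t - t ^ p` over the integers. -/
def asMapZ : Red.GaZ.{u} ⟶ Red.GaZ.{u} :=
  Over.homMk (Spec.map (CommRingCat.ofHom (asRing.{u} p))) (specULiftZIsTerminal.hom_ext _ _)

theorem asMapZ_props : IsFinite (asMapZ.{u} p).left ∧ Flat (asMapZ.{u} p).left ∧
    QuasiCompact (asMapZ.{u} p).left ∧ Surjective (asMapZ.{u} p).left := by
  obtain ⟨h1, h2, -, h4⟩ := poly_props p (ULift.{u} ℤ)
  have b1 : Function.Bijective (toPoly.{u}) := ⟨fun x y h => by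
      simpa [← RingHom.comp_apply, ofPoly_toPoly] using congrArg ofPoly h,
    fun x => ⟨ofPoly x, RingHom.congr_fun toPoly_ofPoly x⟩⟩
  have b2 : Function.Bijective (ofPoly.{u}) := ⟨fun x y h => by
      simpa [← RingHom.comp_apply, toPoly_ofPoly] using congrArg toPoly h,
    fun x => ⟨toPoly x, RingHom.congr_fun ofPoly_toPoly x⟩⟩
  have a1 : IsFinite (asMapZ.{u} p).left := (IsFinite.SpecMap_iff _).2 (by
    show (asRing.{u} p).Finite
    rw [asRing_eq]
    exact (RingHom.Finite.of_surjective _ b2.2).comp (h1.comp (RingHom.Finite.of_surjective _ b1.2)))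
  refine ⟨a1, (HasRingHomProperty.Spec_iff (P := @Flat)).2 (by
    show (asRing.{u} p).Flat
    rw [asRing_eq]
    exact ((RingHom.Flat.of_bijective b1).comp h2).comp (RingHom.Flat.of_bijective b2)), inferInstance, ⟨?_⟩⟩
  show Function.Surjective (PrimeSpectrum.comap (asRing.{u} p))
  rw [asRing_eq, PrimeSpectrum.comap_comp, PrimeSpectrum.comap_comp]
  exact ((PrimeSpectrum.comapEquiv (RingEquiv.ofBijective _ b1)).symm.surjective.comp h4).comp
    (PrimeSpectrum.comapEquiv (RingEquiv.ofBijective _ b2)).symm.surjective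

variable {p} {S : Scheme.{u}}

theorem natCast_eq_zero (hp : (p : Γ(S, ⊤)) = 0) (T : Over S) : (p : Γ(T.left, ⊤)) = 0 := by
  rw [← map_natCast T.hom.appTop.hom p, hp, map_zero]

theorem gaFn_asMap {T : Over S} (x : T ⟶ Red.Ga S) :
    Red.gaFn (x ≫ (Over.pullback (toBaseZ S)).map (asMapZ p)) = Red.gaFn x - Red.gaFn x ^ p := by
  have h : specPt (x ≫ (Over.pullback (toBaseZ S)).map (asMapZ p)) =
      specPt x ≫ Spec.map (CommRingCat.ofHom (asRing.{u} p)) := by
    rw [specPt, specPt, Over.comp_left, Category.assoc, Category.assoc]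
    exact congrArg (x.left ≫ ·) (GmPts.pullback_map_left_fst (S := S) (asMapZ p))
  rw [gaFn_eq, gaFn_eq, h, GmPts.appTop_comp_apply, specMap_appTop, CommRingCat.ofHom_apply, asRing,
    ringHomOfFn_gen, map_sub, map_pow, map_sub, map_pow]

variable (hp : (p : Γ(S, ⊤)) = 0) (F : Red.Ga S ⟶ Red.Ga S)
  (hF : ∀ (T : Over S) (x : T ⟶ Red.Ga S), Red.gaFn (x ≫ F) = Red.gaFn x ^ p)

include hF in
theorem gaFn_v {T : Over S} (x : T ⟶ Red.Ga S) :
    Red.gaFn (x ≫ (𝟙 (Red.Ga S) * F⁻¹)) = Red.gaFn x - Red.gaFn x ^ p := by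
  have h := gaFn_mul (x ≫ F) (x ≫ F)⁻¹
  rw [mul_inv_cancel, gaFn_one, hF] at h
  rw [MonObj.comp_mul, GrpObj.comp_inv, Category.comp_id, gaFn_mul]
  linear_combination -h

include hF in
theorem v_eq : 𝟙 (Red.Ga S) * F⁻¹ = (Over.pullback (toBaseZ S)).map (asMapZ p) :=
  gaFn_injective (by
    show Red.gaFn _ = Red.gaFn _
    have h1 := gaFn_v F hF (𝟙 (Red.Ga S))
    have h2 := gaFn_asMap (p := p) (𝟙 (Red.Ga S))
    rw [Category.id_comp] at h1 h2
    rw [h1, h2])

variable {G' : Over S} [GrpObj G'] (e : G' ≅ TwC.const S (Multiplicative (ZMod p)))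
  (he : TwC.IsConstGrp (Multiplicative (ZMod p)) G' e)
  (i : G' ⟶ Red.Ga S) [IsMonHom i]
  (hi : Red.gaFn (TwC.pt S (Multiplicative (ZMod p)) (Multiplicative.ofAdd 1) ≫ e.inv ≫ i) = 1)

/-- The component of label `a`. -/
abbrev comp (T : Over S) (a : ZMod p) : T ⟶ G' :=
  toUnit T ≫ TwC.pt S (Multiplicative (ZMod p)) (Multiplicative.ofAdd a) ≫ e.inv

include he hi in
theorem gaFn_comp_pt (T : Over S) (a : ZMod p) :
    Red.gaFn (comp e T a ≫ i) = cst (natCast_eq_zero hp T) a := by
  let χ : ZMod p → Γ(T.left, ⊤) := fun b => Red.gaFn (comp e T b ≫ i)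
  have hmul : ∀ b c : ZMod p, χ (b + c) = χ b + χ c := by
    intro b c
    simp only [χ, comp, Category.assoc]
    rw [← gaFn_mul, ← MonObj.comp_mul]
    have := congrArg (· ≫ i) (he (Multiplicative.ofAdd b) (Multiplicative.ofAdd c))
    simp only [MonObj.mul_comp, Category.assoc, ← ofAdd_add] at this
    rw [this]
  have h1 : χ 1 = 1 := by
    simp only [χ, comp, Category.assoc]
    rw [GaPts.gaFn_comp, hi, map_one]
  have h0 : χ 0 = 0 := by
    have := hmul 0 0
    rwa [add_zero, left_eq_add] at this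
  let χh : ZMod p →+ Γ(T.left, ⊤) := ⟨⟨χ, h0⟩, hmul⟩
  show χh a = cst (natCast_eq_zero hp T) a
  obtain ⟨n, rfl⟩ := ZMod.natCast_zmod_surjective (n := p) a
  rw [← nsmul_one, map_nsmul χh, map_nsmul (cst (natCast_eq_zero hp T)), (cst (natCast_eq_zero hp T)).map_one]
  exact congrArg (n • ·) h1

theorem eq_comp_of_range {T : Over S} (g : T ⟶ G') :
    ∃ V : ZMod p → T.left.Opens, (∀ x, ∃ a, x ∈ V a) ∧
      ∀ a, (Over.homMk (V a).ι rfl : Over.mk ((V a).ι ≫ T.hom) ⟶ T) ≫ g = comp e _ a := by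
  let y : T ⟶ TwC.const S (Multiplicative (ZMod p)) := g ≫ e.hom
  let inj := fun m : Multiplicative (ZMod p) => Sigma.ι (fun _ : Multiplicative (ZMod p) => S) m
  let yl : T.left ⟶ ∐ fun _ : Multiplicative (ZMod p) => S := y.left
  refine ⟨fun a => yl ⁻¹ᵁ (inj (Multiplicative.ofAdd a)).opensRange, fun x => ?_, fun a => ?_⟩
  · obtain ⟨m, z, hz⟩ := (sigmaOpenCover (fun _ : Multiplicative (ZMod p) => S)).exists_eq (yl.base x)
    exact ⟨Multiplicative.toAdd m, ⟨z, hz⟩⟩
  · rw [← cancel_mono e.hom]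
    ext1
    simp only [comp, Category.assoc, e.inv_hom_id, Category.comp_id, Over.comp_left, Over.homMk_left]
    show _ ≫ yl = (toUnit (Over.mk ((yl ⁻¹ᵁ (inj (Multiplicative.ofAdd a)).opensRange).ι ≫ T.hom))).left ≫ inj (Multiplicative.ofAdd a)
    let V := yl ⁻¹ᵁ (inj (Multiplicative.ofAdd a)).opensRange
    have hr : Set.range (V.ι ≫ yl).base ⊆ Set.range (inj (Multiplicative.ofAdd a)).base := by
      rintro _ ⟨x, rfl⟩
      exact x.2
    have hl := IsOpenImmersion.lift_fac (inj (Multiplicative.ofAdd a)) (V.ι ≫ yl) hr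
    rw [← hl]
    congr 1
    have h := congrArg (· ≫ (TwC.const S (Multiplicative (ZMod p))).hom) hl
    simp only [Category.assoc] at h
    rw [show inj (Multiplicative.ofAdd a) ≫ (TwC.const S (Multiplicative (ZMod p))).hom = 𝟙 S from Sigma.ι_desc _ _,
      Category.comp_id, show yl ≫ (TwC.const S (Multiplicative (ZMod p))).hom = T.hom from Over.w y] at h
    exact h.trans (Over.w (toUnit (Over.mk (V.ι ≫ T.hom)))).symm

/-- Sections agree if they agree after restriction to the members of an open cover. -/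
theorem fn_ext {T : Scheme.{u}} {J : Type} (V : J → T.Opens) (hV : ∀ x, ∃ a, x ∈ V a)
    {s t : Γ(T, ⊤)} (h : ∀ a, (V a).ι.appTop s = (V a).ι.appTop t) : s = t := by
  refine T.sheaf.eq_of_locally_eq' V ⊤ (fun a => homOfLE le_top) (fun x _ => by
    obtain ⟨a, ha⟩ := hV x
    exact TopologicalSpace.Opens.mem_iSup.2 ⟨a, ha⟩) s t fun a => ?_
  have e : (V a).ι.appTop ≫ (V a).topIso.hom = T.presheaf.map (homOfLE le_top : V a ⟶ ⊤).op := by
    rw [Scheme.Opens.ι_appTop, Scheme.Opens.topIso_hom]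
    erw [← T.presheaf.map_comp]
    rfl
  have h2 := congrArg (V a).topIso.hom.hom (h a)
  rw [← CommRingCat.comp_apply, ← CommRingCat.comp_apply, e] at h2
  exact h2

/-- A section invertible on the image of a morphism pulls back to a unit. -/
theorem isUnit_appTop {W T : Scheme.{u}} (f : W ⟶ T) (r : Γ(T, ⊤)) (h : ∀ w, f.base w ∈ T.basicOpen r) :
    IsUnit (f.appTop r) :=
  RingedSpace.isUnit_of_isUnit_germ _ _ _ fun w _ => (W.mem_basicOpen_top _ w).1
    (by rw [← Scheme.preimage_basicOpen_top]; exact h w)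

include hp he hi in
theorem gaFn_pow (T : Over S) (g : T ⟶ G') : Red.gaFn (g ≫ i) ^ p = Red.gaFn (g ≫ i) := by
  obtain ⟨V, hV, hc⟩ := eq_comp_of_range e g
  refine fn_ext V hV fun a => ?_
  have : (V a).ι.appTop (Red.gaFn (g ≫ i)) = cst (natCast_eq_zero hp (Over.mk ((V a).ι ≫ T.hom))) a := by
    rw [← gaFn_comp_pt hp e he i hi, ← hc a, Category.assoc, GaPts.gaFn_comp]
    rfl
  rw [map_pow, this, cst_pow]

include hp he hi in
theorem existsUnique_root (T : Over S) (t : Γ(T.left, ⊤)) (ht : t ^ p = t) :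
    ∃! g : T ⟶ G', Red.gaFn (g ≫ i) = t := by
  have hpT := natCast_eq_zero hp T
  let U : ZMod p → T.left.Opens := fun a => T.left.basicOpen (idem hpT t a)
  have hst : ∀ x : T.left, (p : T.left.presheaf.stalk x) = 0 := fun x => by
    rw [← map_natCast (T.left.presheaf.germ ⊤ x trivial).hom p, hpT, map_zero]
  have hgerm : ∀ (x : T.left) (a : ZMod p), x ∈ U a ↔
      IsUnit (idem (hst x) (T.left.presheaf.germ ⊤ x trivial t) a) := fun x a => by
    rw [← idem_natural hpT (hst x) (T.left.presheaf.germ ⊤ x trivial).hom]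
    exact T.left.mem_basicOpen_top (idem hpT t a) x
  have htx : ∀ x : T.left, (T.left.presheaf.germ ⊤ x trivial t) ^ p = T.left.presheaf.germ ⊤ x trivial t :=
    fun x => by rw [← map_pow, ht]
  have hcov : ∀ x, ∃ a, x ∈ U a := fun x => by
    obtain ⟨a, ha⟩ := exists_isUnit_idem (hst x) (htx x)
    exact ⟨a, (hgerm x a).2 ha⟩
  have huniq : ∀ x a b, x ∈ U a → x ∈ U b → a = b := fun x a b ha hb =>
    cst_injective (hst x) ((eq_of_isUnit_idem (hst x) (htx x) ((hgerm x a).1 ha)).symm.trans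
      (eq_of_isUnit_idem (hst x) (htx x) ((hgerm x b).1 hb)))
  have hval : ∀ a, (U a).ι.appTop t = cst (natCast_eq_zero hp (Over.mk ((U a).ι ≫ T.hom))) a := by
    intro a
    have hp' : (p : Γ((U a : Scheme.{u}), ⊤)) = 0 := natCast_eq_zero hp (Over.mk ((U a).ι ≫ T.hom))
    refine eq_of_isUnit_idem hp' (by rw [← map_pow, ht]) ?_
    rw [← idem_natural hpT hp' (U a).ι.appTop.hom]
    exact isUnit_appTop _ _ fun x => x.2
  obtain ⟨hcol⟩ := nonempty_isColimit_cofanMk_of (fun a => (U a).ι) (top_unique fun x _ => by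
      obtain ⟨a, ha⟩ := hcov x
      exact TopologicalSpace.Opens.mem_iSup.2 ⟨a, by rwa [Scheme.Opens.opensRange_ι]⟩)
    (fun a b hab => by
      rw [Function.onFun, Scheme.Opens.opensRange_ι, Scheme.Opens.opensRange_ι, disjoint_iff]
      exact le_bot_iff.1 fun x hx => hab (huniq x a b hx.1 hx.2))
  let ml : T.left ⟶ G'.left := Cofan.IsColimit.desc hcol fun a => (comp e (Over.mk ((U a).ι ≫ T.hom)) a).left
  have hml : ∀ a, (U a).ι ≫ ml = (comp e (Over.mk ((U a).ι ≫ T.hom)) a).left := fun a =>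
    Cofan.IsColimit.fac hcol _ a
  let g : T ⟶ G' := Over.homMk ml (Cofan.IsColimit.hom_ext hcol _ _ fun a => by
    show (U a).ι ≫ ml ≫ G'.hom = (U a).ι ≫ T.hom
    rw [← Category.assoc, hml a]
    exact Over.w _)
  have hg : ∀ a, (Over.homMk (U a).ι rfl : Over.mk ((U a).ι ≫ T.hom) ⟶ T) ≫ g = comp e _ a := fun a =>
    Over.OverMorphism.ext (hml a)
  have key : ∀ {a}, ∀ g₁ : T ⟶ G',
      (Over.homMk (U a).ι rfl : Over.mk ((U a).ι ≫ T.hom) ⟶ T) ≫ g₁ = comp e _ a →
        (U a).ι.appTop (Red.gaFn (g₁ ≫ i)) = (U a).ι.appTop t := fun {a} g₁ h => by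
    rw [hval, ← gaFn_comp_pt hp e he i hi, ← h, Category.assoc, GaPts.gaFn_comp]
    rfl
  refine ⟨g, fn_ext U hcov fun a => key g (hg a), fun g' hg' => ?_⟩
  obtain ⟨V, hV, hc⟩ := eq_comp_of_range e g'
  have hVU : ∀ a, V a ≤ U a := by
    intro a x hx
    refine (hgerm x a).2 ?_
    let j : Over.mk ((V a).ι ≫ T.hom) ⟶ T := Over.homMk (V a).ι rfl
    have h1 : (V a).ι.appTop t = cst (natCast_eq_zero hp (Over.mk ((V a).ι ≫ T.hom))) a := by
      rw [← gaFn_comp_pt hp e he i hi, ← hc a, ← hg', Category.assoc, GaPts.gaFn_comp]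
      rfl
    have hp' : (p : Γ((V a : Scheme.{u}), ⊤)) = 0 := natCast_eq_zero hp (Over.mk ((V a).ι ≫ T.hom))
    have h2 : IsUnit (idem hp' ((V a).ι.appTop t) a) := by
      rw [idem, h1, sub_self, zero_pow (by have := (Fact.out : p.Prime).two_le; omega), sub_zero]
      exact isUnit_one
    rw [← idem_natural hpT hp' (V a).ι.appTop.hom] at h2
    have h2 := Scheme.basicOpen_of_isUnit _ h2
    rw [← Scheme.preimage_basicOpen_top] at h2
    exact (hgerm x a).1 (show (⟨x, hx⟩ : (V a : Scheme.{u})) ∈ (V a).ι ⁻¹ᵁ T.left.basicOpen (idem hpT t a) by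
      rw [h2]; trivial)
  have hUV : ∀ a, U a ≤ V a := fun a x hx => by
    obtain ⟨b, hb⟩ := hV x
    rwa [huniq x a b hx (hVU b hb)]
  ext1
  refine Cofan.IsColimit.hom_ext hcol _ _ fun a => ?_
  have h3 := hc a
  rw [le_antisymm (hVU a) (hUV a)] at h3
  exact congrArg CommaMorphism.left (h3.trans (hg a).symm)

include hp hF he hi in
theorem isExactSeq_fpqc : NonAbH1.IsExactSeq Scheme.fpqcPrecoverage i (𝟙 (Red.Ga S) * F⁻¹) := by
  set v : Red.Ga S ⟶ Red.Ga S := 𝟙 (Red.Ga S) * F⁻¹ with hv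
  have hv' : ∀ {T : Over S} (x : T ⟶ Red.Ga S), Red.gaFn (x ≫ v) = Red.gaFn x - Red.gaFn x ^ p :=
    fun x => gaFn_v F hF x
  clear_value v
  have vmul : ∀ {T : Over S} (x y : T ⟶ Red.Ga S), (x * y) ≫ v = (x ≫ v) * (y ≫ v) := fun {T} x y =>
    gaFn_injective (by
      show Red.gaFn _ = Red.gaFn _
      rw [hv', gaFn_mul, gaFn_mul, hv', hv']
      have := sub_pow_p (natCast_eq_zero hp T) (Red.gaFn x + Red.gaFn y) (Red.gaFn y)
      rw [add_sub_cancel_right] at this
      linear_combination this)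
  have huv : i ≫ v = 1 := gaFn_injective (by
    show Red.gaFn _ = Red.gaFn _
    rw [hv', gaFn_one, sub_eq_zero]
    have := gaFn_pow hp e he i hi G' (𝟙 G')
    rw [Category.id_comp] at this
    exact this.symm)
  have hvm : IsMonHom v := by
    refine ⟨?_, ?_⟩
    · apply gaFn_injective
      show Red.gaFn _ = Red.gaFn _
      have h1 : (η[Red.Ga S] : 𝟙_ (Over S) ⟶ Red.Ga S) = 1 := by
        rw [Hom.one_def, toUnit_unit, Category.id_comp]
      rw [h1, hv', gaFn_one, zero_pow (Fact.out : p.Prime).ne_zero, sub_zero]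
    · rw [mul_eq_mul, vmul, MonObj.comp_mul, tensorHom_fst, tensorHom_snd]
  refine ⟨inferInstance, hvm, huv, ?_, ?_⟩
  · let m := (Red.Ga S ◁ i) ≫ μ[Red.Ga S]
    have hm : ∀ {T : Over S} (x : T ⟶ Red.Ga S) (g : T ⟶ G'), lift x g ≫ m = x * (g ≫ i) := by
      intro T x g
      rw [Hom.mul_def, ← Category.assoc, lift_whiskerLeft]
    have hm' : m = fst (Red.Ga S) G' * (snd (Red.Ga S) G' ≫ i) := by
      rw [← hm, lift_fst_snd, Category.id_comp]
    have hw : fst (Red.Ga S) G' ≫ v = m ≫ v := by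
      rw [hm', vmul, Category.assoc, huv, MonObj.comp_one, _root_.mul_one]
    have hk : ∀ s : PullbackCone v v, (Red.gaFn s.snd - Red.gaFn s.fst) ^ p = Red.gaFn s.snd - Red.gaFn s.fst :=
      fun s => by
        have h := congrArg Red.gaFn s.condition
        rw [hv', hv'] at h
        rw [sub_pow_p (natCast_eq_zero hp s.pt)]
        linear_combination h
    have hr := fun s : PullbackCone v v => existsUnique_root hp e he i hi s.pt _ (hk s)
    refine IsPullback.of_isLimit' ⟨hw⟩ (PullbackCone.IsLimit.mk _ (fun s => lift s.fst (hr s).choose) ?_ ?_ ?_)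
    · intro s; exact lift_fst _ _
    · intro s
      rw [hm]
      apply gaFn_injective
      show Red.gaFn _ = Red.gaFn _
      rw [gaFn_mul, (hr s).choose_spec.1, add_sub_cancel]
    · intro s l h1 h2
      refine hom_ext _ _ (h1.trans (lift_fst _ _).symm) ?_
      rw [lift_snd]
      refine (hr s).choose_spec.2 _ ?_
      have hl : lift s.fst (l ≫ snd _ _) = l := by
        rw [← h1]; exact hom_ext _ _ (lift_fst _ _) (lift_snd _ _)
      rw [← hl, hm] at h2
      show Red.gaFn _ = _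
      rw [← h2, gaFn_mul, add_sub_cancel_left]
  · rw [hv, v_eq F hF]
    obtain ⟨a1, a2, a3, a4⟩ := asMapZ_props.{u} p
    let w := (Over.pullback (toBaseZ S)).map (asMapZ p)
    haveI : IsFinite w.left := MorphismProperty.baseChange_map (P := @IsFinite) _ _ a1
    haveI : Flat w.left := MorphismProperty.baseChange_map (P := @Flat) _ _ a2
    haveI : Surjective w.left := MorphismProperty.baseChange_map (P := @Surjective) _ _ a4
    refine ⟨Presieve.singleton w.left, Scheme.Hom.singleton_mem_fpqcPrecoverage _, ?_⟩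
    rintro _ _ ⟨⟩
    exact ⟨𝟙 _, Category.id_comp _⟩

end Seq

end Groth.Agent.Pi1Ext.ASSeq
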