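import Groth.Agent.S17758
import Groth.Agent.RegLoc6.RegEtale
import Groth.Agent.S0558
import Groth.Agent.Hensel.Semilocal
import Groth.Agent.Hensel.Local
import Groth.Agent.Hensel.FiniteEtaleLift
import Groth.Agent.Adic7.Basic
import Groth.Agent.LC.CanonComplete
import Mathlib.RingTheory.Unramified.LocalRing
import Mathlib.RingTheory.Ideal.GoingDown
import Mathlib.RingTheory.Spectrum.Prime.Topology

/-! Punctured spectra of quotients of complete regular rings by few equations are connected, also after finite étale extensions. -/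

set_option autoImplicit false
set_option linter.style.haveILetI false
universe u

open IsLocalRing TensorProduct

noncomputable section

namespace Groth.Agent.Pi1Ext.CIConn

/-- The non-closed points generalizing a point. -/
def star {C : Type u} [CommRing C] (n : PrimeSpectrum C) : Set (PrimeSpectrum C) := {x | x ≤ n ∧ x ≠ n}

/-- Connectedness at each closed point of a finite étale algebra over `S ⧸ (s)`. -/
theorem isConnected_star (S : Type u) [CommRing S] [IsRegularLocalRing S] [IsAdicComplete (maximalIdeal S) S]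
    (d : ℕ) (hd : ringKrullDim S = d) (s : Finset S) (hs : s.card + 2 ≤ d) (C : Type u) [CommRing C]
    [Algebra (S ⧸ Ideal.span (s : Set S)) C] [Module.Finite (S ⧸ Ideal.span (s : Set S)) C]
    [Algebra.Etale (S ⧸ Ideal.span (s : Set S)) C] (n : PrimeSpectrum C) (hn : n.asIdeal.IsMaximal) :
    IsConnected (star n) := by
  classical
  let I := Ideal.span (s : Set S)
  have hIm : I ≤ maximalIdeal S := by
    by_contra h
    have htop : I = ⊤ := by
      by_contra hne
      exact h (IsLocalRing.le_maximalIdeal hne)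
    haveI : Subsingleton (S ⧸ I) := Ideal.Quotient.subsingleton_iff.2 htop
    haveI : Subsingleton C := Module.subsingleton (S ⧸ I) C
    exact hn.ne_top (Subsingleton.elim _ _)
  haveI : HenselianLocalRing S :=
    Groth.Agent.Hensel.henselianLocalRing_of_henselianRing S
  haveI : HenselianRing S I := Groth.Agent.Hensel.henselianRing_of_le (J := maximalIdeal S) hIm
  obtain ⟨S₁, _, _, hfin, het, ⟨eC⟩⟩ := Groth.Agent.Hensel.exists_finite_etale_lift (I := I) C
  haveI := hfin
  haveI := het
  let φ : S₁ →+* C := eC.toRingEquiv.toRingHom.comp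
    (Algebra.TensorProduct.includeRight (R := S) (A := S ⧸ I) (B := S₁)).toRingHom
  have hφ : Function.Surjective φ := fun c => by
    obtain ⟨x, rfl⟩ := eC.surjective c
    induction x using TensorProduct.induction_on with
    | zero => exact ⟨0, by rw [map_zero]; exact (map_zero eC).symm⟩
    | tmul a b =>
      obtain ⟨a, rfl⟩ := Ideal.Quotient.mk_surjective a
      refine ⟨a • b, ?_⟩
      show eC ((1 : S ⧸ I) ⊗ₜ[S] (a • b)) = _
      rw [← TensorProduct.smul_tmul, Algebra.smul_def, mul_one]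
      rfl
    | add x y hx hy =>
      obtain ⟨x', hx'⟩ := hx
      obtain ⟨y', hy'⟩ := hy
      exact ⟨x' + y', by rw [map_add, hx', hy']; exact (map_add eC x y).symm⟩
  have hker : RingHom.ker φ ≤ I.map (algebraMap S S₁) := fun x hx => by
    have h0 : (1 : S ⧸ I) ⊗ₜ[S] x = 0 := eC.injective (by rw [map_zero]; exact hx)
    let χ : (S ⧸ I) ⊗[S] S₁ →ₐ[S] S₁ ⧸ I.map (algebraMap S S₁) :=
      Algebra.TensorProduct.lift (Ideal.Quotient.liftₐ I (Algebra.ofId S _) fun a ha => by
        show algebraMap S (S₁ ⧸ I.map (algebraMap S S₁)) a = 0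
        rw [IsScalarTower.algebraMap_apply S S₁, Ideal.Quotient.algebraMap_eq, Ideal.Quotient.eq_zero_iff_mem]
        exact Ideal.mem_map_of_mem _ ha) (Ideal.Quotient.mkₐ S _) fun a b => mul_comm _ _
    have h1 := congrArg χ h0
    rw [map_zero, Algebra.TensorProduct.lift_tmul, map_one, one_mul] at h1
    exact Ideal.Quotient.eq_zero_iff_mem.1 h1
  -- the local factor
  let M : MaximalSpectrum S₁ := ⟨n.asIdeal.comap φ, Ideal.comap_isMaximal_of_surjective φ hφ⟩
  obtain ⟨_, e, he, hM⟩ := Groth.Agent.Hensel.exists_idempotents_of_henselian S S₁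
  let J := Ideal.span {1 - e M}
  let L := S₁ ⧸ J
  haveI : IsLocalRing L := Groth.Agent.Hensel.isLocalRing_quotient_one_sub he.idem hM M
  haveI : IsLocalization.AtPrime L M.asIdeal :=
    Groth.Agent.Hensel.isLocalization_atPrime_quotient_one_sub he.idem hM M
  haveI : IsNoetherianRing S₁ := IsNoetherianRing.of_finite S S₁
  haveI : IsNoetherianRing L := inferInstanceAs (IsNoetherianRing (S₁ ⧸ J))
  haveI : Module.Finite S L := inferInstanceAs (Module.Finite S (S₁ ⧸ J))
  have hMS : M.asIdeal.under S = maximalIdeal S := by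
    haveI := M.isMaximal
    exact IsLocalRing.eq_maximalIdeal (Ideal.isMaximal_comap_of_isIntegral_of_isMaximal (R := S) M.asIdeal)
  haveI : IsLocalHom (algebraMap S L) := by
    haveI : Algebra.IsIntegral S L := Algebra.IsIntegral.of_finite S L
    refine ((local_hom_TFAE (algebraMap S L)).out 4 0 rfl rfl).1 ?_
    exact IsLocalRing.eq_maximalIdeal (Ideal.isMaximal_comap_of_isIntegral_of_isMaximal (R := S) (maximalIdeal L))
  haveI : Algebra.FormallyUnramified S L := by
    haveI : Algebra.FormallyUnramified S₁ L := Algebra.FormallyUnramified.quotient J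
    exact Algebra.FormallyUnramified.comp S S₁ L
  have hmL : (maximalIdeal S).map (algebraMap S L) = maximalIdeal L := Algebra.FormallyUnramified.map_maximalIdeal
  haveI : IsAdicComplete (maximalIdeal L) L := by
    have h1 : IsAdicComplete (maximalIdeal S) L := Adic7.isAdicComplete_of_finite _ _
    rw [← hmL]
    exact (IsAdicComplete.map_algebraMap_iff (S := L) (maximalIdeal S) L).mpr h1
  haveI : IsRegularLocalRing (Localization.AtPrime M.asIdeal) := by
    haveI := M.isMaximal
    refine RegLoc6.regular_of_etale (A := S) M.asIdeal ?_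
    haveI : (M.asIdeal.under S).IsPrime := inferInstance
    have : IsLocalization.AtPrime S (M.asIdeal.under S) := by
      refine IsLocalization.self fun x hx => ?_
      by_contra hu
      exact hx (by rw [hMS]; exact hu)
    exact IsRegularLocalRing.of_ringEquiv
      (IsLocalization.algEquiv (M.asIdeal.under S).primeCompl S (Localization.AtPrime (M.asIdeal.under S))).toRingEquiv
  haveI : IsRegularLocalRing L :=
    IsRegularLocalRing.of_ringEquiv
      (IsLocalization.algEquiv M.asIdeal.primeCompl (Localization.AtPrime M.asIdeal) L).toRingEquiv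
  haveI : IsDomain L := RegLoc6.isDomain_of_isRegularLocalRing L
  obtain ⟨D, hD⟩ : ∃ D : ℕ, ringKrullDim L = D := ⟨_, (IsRegularLocalRing.spanFinrank_maximalIdeal (R := L)).symm⟩
  have hdD : d ≤ D := by
    have h1 := IsLocalization.AtPrime.ringKrullDim_eq_height M.asIdeal L
    haveI : Module.Flat S S₁ := Algebra.Smooth.flat S S₁
    have h2 : (M.asIdeal.under S).height ≤ M.asIdeal.height :=
      (Ideal.height_eq_height_add_of_liesOver_of_hasGoingDown (M.asIdeal.under S) M.asIdeal).symm ▸ le_self_add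
    rw [hMS] at h2
    have h3 : ((d : ℕ∞) : WithBot ℕ∞) ≤ ((D : ℕ∞) : WithBot ℕ∞) := by
      rw [show ((d : ℕ∞) : WithBot ℕ∞) = ringKrullDim S from hd.symm,
        show ((D : ℕ∞) : WithBot ℕ∞) = ringKrullDim L from hD.symm, h1, ← IsLocalRing.maximalIdeal_height_eq_ringKrullDim]
      exact WithBot.coe_le_coe.2 h2
    exact_mod_cast h3
  -- the connected set
  let σ : S₁ →+* L := Ideal.Quotient.mk J
  let gs : Fin s.card → L := fun i => algebraMap S L (s.equivFin.symm i).1
  have hgs : I.map (algebraMap S L) = Ideal.span (Set.range gs) := by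
    rw [Ideal.map_span]
    congr 1
    ext x
    constructor
    · rintro ⟨a, ha, rfl⟩
      exact ⟨s.equivFin ⟨a, ha⟩, by simp [gs]⟩
    · rintro ⟨i, rfl⟩
      exact ⟨_, (s.equivFin.symm i).2, rfl⟩
  have hne : I.map (algebraMap S L) ≠ ⊤ := fun h => (maximalIdeal.isMaximal L).ne_top
    (top_unique (h ▸ hmL ▸ Ideal.map_mono hIm))
  have hconn := Groth.Agent.S17758.result L D hD s.card (hs.trans hdD) gs _ hne (congrArg Ideal.radical hgs)
  have hconn' := hconn.image _ (PrimeSpectrum.continuous_comap σ).continuousOn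
  have hσM : (maximalIdeal L).comap σ = M.asIdeal :=
    IsLocalization.AtPrime.comap_maximalIdeal L M.asIdeal
  have hσle : ∀ z : PrimeSpectrum L, PrimeSpectrum.comap σ z ≤ ⟨M.asIdeal, M.isMaximal.isPrime⟩ := fun z =>
    (Ideal.comap_mono (le_maximalIdeal z.isPrime.ne_top)).trans hσM.le
  have himg : PrimeSpectrum.comap φ '' star n =
      PrimeSpectrum.comap σ '' {z | I.map (algebraMap S L) ≤ z.asIdeal ∧ z.asIdeal ≠ maximalIdeal L} := by
    ext y
    constructor
    · rintro ⟨x, ⟨hxn, hne⟩, rfl⟩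
      have hxM : (PrimeSpectrum.comap φ x).asIdeal ≤ M.asIdeal := Ideal.comap_mono hxn
      obtain ⟨z, hz⟩ : PrimeSpectrum.comap φ x ∈ Set.range (PrimeSpectrum.comap σ) := by
        rw [range_comap_of_surjective _ _ Ideal.Quotient.mk_surjective, Ideal.mk_ker, PrimeSpectrum.zeroLocus_span]
        refine Set.singleton_subset_iff.2 ?_
        refine ((PrimeSpectrum.comap φ x).2.mem_or_mem (?_ : e M * (1 - e M) ∈ _)).resolve_left
          fun h => (hM M).1 (hxM h)
        rw [mul_sub, mul_one, (he.idem M).eq, sub_self]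
        exact zero_mem _
      refine ⟨z, ⟨?_, fun hz' => hne ?_⟩, hz⟩
      · rw [Ideal.map_le_iff_le_comap]
        intro a ha
        show σ (algebraMap S S₁ a) ∈ z.asIdeal
        have : algebraMap S S₁ a ∈ (PrimeSpectrum.comap φ x).asIdeal := by
          show φ (algebraMap S S₁ a) ∈ x.asIdeal
          have h0 : φ (algebraMap S S₁ a) = 0 := by
            show eC ((1 : S ⧸ I) ⊗ₜ[S] algebraMap S S₁ a) = 0
            rw [Algebra.algebraMap_eq_smul_one, ← TensorProduct.smul_tmul, Algebra.smul_def, mul_one,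
              Ideal.Quotient.algebraMap_eq, Ideal.Quotient.eq_zero_iff_mem.2 ha, TensorProduct.zero_tmul, map_zero]
          rw [h0]
          exact zero_mem _
        rw [← hz] at this
        exact this
      · refine PrimeSpectrum.ext (Ideal.comap_injective_of_surjective φ hφ ?_)
        show _ = M.asIdeal
        rw [← hσM, ← hz']
        exact (congrArg PrimeSpectrum.asIdeal hz).symm
    · rintro ⟨z, ⟨hIz, hzm⟩, rfl⟩
      obtain ⟨x, hx⟩ : PrimeSpectrum.comap σ z ∈ Set.range (PrimeSpectrum.comap φ) := by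
        rw [range_comap_of_surjective _ _ hφ]
        refine hker.trans (Ideal.map_le_iff_le_comap.2 fun a ha => ?_)
        exact hIz (Ideal.mem_map_of_mem _ ha)
      refine ⟨x, ⟨?_, fun h => hzm ?_⟩, hx⟩
      · intro c hc
        obtain ⟨c, rfl⟩ := hφ c
        exact hσle z (hx ▸ hc : c ∈ (PrimeSpectrum.comap σ z).asIdeal)
      · refine Ideal.comap_injective_of_surjective σ Ideal.Quotient.mk_surjective ?_
        rw [hσM]
        exact (congrArg PrimeSpectrum.asIdeal (hx.symm.trans (congrArg (PrimeSpectrum.comap φ) h)))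
  rw [← himg] at hconn'
  exact ⟨hconn'.nonempty.of_image, ((PrimeSpectrum.isEmbedding_comap_of_surjective _ φ hφ).isInducing.isPreconnected_image).1 hconn'.isPreconnected⟩

variable (A : Type u) [CommRing A] [IsNoetherianRing A] [IsLocalRing A]

/-- Clopen subsets of the punctured part of a finite étale algebra extend. -/
theorem exists_clopen (S : Type u) [CommRing S] [IsRegularLocalRing S] [IsAdicComplete (maximalIdeal S) S]
    (d : ℕ) (hd : ringKrullDim S = d) (s : Finset S) (hs : s.card + 2 ≤ d)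
    (e : AdicCompletion (maximalIdeal A) A ≃+* S ⧸ Ideal.span (s : Set S))
    (C : Type u) [CommRing C] [Algebra A C] [Module.Finite A C] [Algebra.Etale A C]
    (O O' : Set (PrimeSpectrum C)) (hO : IsOpen O) (hO' : IsOpen O')
    (hcov : ∀ x : PrimeSpectrum C, ¬ x.asIdeal.IsMaximal → x ∈ O ∨ x ∈ O')
    (hdis : ∀ x : PrimeSpectrum C, ¬ x.asIdeal.IsMaximal → x ∈ O → x ∉ O') :
    (∀ n : PrimeSpectrum C, n.asIdeal.IsMaximal → ∃ x, x ≤ n ∧ ¬ x.asIdeal.IsMaximal) ∧
      ∃ G : Set (PrimeSpectrum C), IsClopen G ∧ ∀ x : PrimeSpectrum C, ¬ x.asIdeal.IsMaximal → (x ∈ G ↔ x ∈ O) := by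
  classical
  let A' := AdicCompletion (maximalIdeal A) A
  haveI : Module.Flat A A' := AdicCompletion.flat_of_isNoetherian _
  haveI : Module.FaithfullyFlat A A' := Groth.Agent.LC.Canon.faithfullyFlat_completion (R := A)
  haveI : IsNoetherianRing C := IsNoetherianRing.of_finite A C
  let R := S ⧸ Ideal.span (s : Set S)
  let C' := A' ⊗[A] C
  letI : Algebra R C' := ((algebraMap A' C').comp e.symm.toRingHom).toAlgebra
  haveI : Module.Finite R C' := by
    rw [← RingHom.finite_algebraMap, RingHom.algebraMap_toAlgebra]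
    exact (RingHom.finite_algebraMap.2 inferInstance).comp (RingHom.Finite.of_surjective _ e.symm.surjective)
  haveI : Algebra.Etale R C' := by
    rw [← RingHom.etale_algebraMap, RingHom.algebraMap_toAlgebra]
    have h1 : (algebraMap A' C').Etale := RingHom.etale_algebraMap.2 inferInstance
    have h2 : e.symm.toRingHom.Etale := RingHom.Etale.of_bijective e.symm.bijective
    exact RingHom.Etale.stableUnderComposition _ _ h2 h1
  let π : PrimeSpectrum C' → PrimeSpectrum C :=
    PrimeSpectrum.comap (Algebra.TensorProduct.includeRight (R := A) (A := A') (B := C)).toRingHom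
  have hπm : ∀ P : PrimeSpectrum C', P.asIdeal.IsMaximal → (π P).asIdeal.IsMaximal := by
    intro P hP
    haveI := hP
    haveI : Algebra.IsIntegral A C := Algebra.IsIntegral.of_finite A C
    haveI : Algebra.IsIntegral A' C' := Algebra.IsIntegral.of_finite A' C'
    refine Ideal.isMaximal_of_isIntegral_of_isMaximal_comap (R := A) _ ?_
    have h1 : (π P).asIdeal.comap (algebraMap A C) =
        (P.asIdeal.comap (algebraMap A' C')).comap (algebraMap A A') := by
      ext a
      show (Algebra.TensorProduct.includeRight (R := A) (A := A') (B := C)) (algebraMap A C a) ∈ P.asIdeal ↔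
        algebraMap A' C' (algebraMap A A' a) ∈ P.asIdeal
      rw [AlgHom.commutes, ← IsScalarTower.algebraMap_apply]
    rw [h1, IsLocalRing.eq_maximalIdeal (Ideal.isMaximal_comap_of_isIntegral_of_isMaximal (R := A') P.asIdeal),
      ((local_hom_TFAE (algebraMap A A')).out 0 4 rfl rfl).1 (inferInstance : IsLocalHom (algebraMap A A'))]
    exact maximalIdeal.isMaximal A
  have hπmono : ∀ P Q, P ≤ Q → π P ≤ π Q := fun P Q h => Ideal.comap_mono h
  -- lifting points below a point
  have hlift : ∀ n : PrimeSpectrum C, n.asIdeal.IsMaximal → ∃ n' : PrimeSpectrum C', π n' = n ∧ n'.asIdeal.IsMaximal ∧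
      ∀ x ≤ n, x ≠ n → ∃ x', x' ∈ star n' ∧ π x' = x := by
    intro n hn
    let cm := (Algebra.TensorProduct.comm A A' C).toAlgHom.toRingHom
    have hcm : ∀ Q, π (PrimeSpectrum.comap cm Q) = PrimeSpectrum.comap (algebraMap C (C ⊗[A] A')) Q := fun Q => by
      show PrimeSpectrum.comap _ (PrimeSpectrum.comap cm Q) = _
      rw [← PrimeSpectrum.comap_comp_apply]
      rfl
    obtain ⟨Q, hQ⟩ := PrimeSpectrum.comap_surjective_of_faithfullyFlat (A := C) (B := C ⊗[A] A') n
    obtain ⟨m', hm', hQm⟩ := Ideal.exists_le_maximal Q.asIdeal Q.isPrime.ne_top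
    let N : PrimeSpectrum (C ⊗[A] A') := ⟨m', hm'.isPrime⟩
    have hN : PrimeSpectrum.comap (algebraMap C (C ⊗[A] A')) N = n := by
      refine PrimeSpectrum.ext (hn.eq_of_le (Ideal.IsPrime.ne_top inferInstance) ?_).symm
      rw [← hQ]
      exact Ideal.comap_mono hQm
    have hNmax : (PrimeSpectrum.comap cm N).asIdeal.IsMaximal := by
      haveI := hm'
      exact Ideal.comap_isMaximal_of_surjective cm (Algebra.TensorProduct.comm A A' C).surjective
    refine ⟨PrimeSpectrum.comap cm N, (hcm N).trans hN, hNmax, fun x hx hxn => ?_⟩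
    have hgen : GeneralizingMap (PrimeSpectrum.comap (algebraMap C (C ⊗[A] A'))) :=
      Algebra.HasGoingDown.iff_generalizingMap_primeSpectrumComap.1 inferInstance
    obtain ⟨P, hP, hPx⟩ := @hgen N x ((PrimeSpectrum.le_iff_specializes _ _).1 (hx.trans hN.ge))
    refine ⟨PrimeSpectrum.comap cm P, ⟨Ideal.comap_mono ((PrimeSpectrum.le_iff_specializes _ _).2 hP), fun h => hxn ?_⟩,
      (hcm P).trans hPx⟩
    rw [← hPx, ← hcm, h, hcm, hN]
  have hstar : ∀ n' : PrimeSpectrum C', n'.asIdeal.IsMaximal → IsConnected (star n') := fun n' hn' =>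
    isConnected_star S d hd s hs C' n' hn'
  have hnm : ∀ n' : PrimeSpectrum C', n'.asIdeal.IsMaximal → ∀ x' ∈ star n', ¬ (π x').asIdeal.IsMaximal := by
    intro n' hn' x' hx' hmax
    -- the fibre over a closed point is discrete
    haveI : Algebra.IsIntegral A C := Algebra.IsIntegral.of_finite A C
    haveI : Algebra.IsIntegral A' C' := Algebra.IsIntegral.of_finite A' C'
    haveI := hmax
    refine hx'.2 (PrimeSpectrum.ext ((?_ : x'.asIdeal.IsMaximal).eq_of_le n'.isPrime.ne_top hx'.1))
    refine Ideal.isMaximal_of_isIntegral_of_isMaximal_comap (R := A') _ ?_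
    have hle : maximalIdeal A' ≤ x'.asIdeal.comap (algebraMap A' C') := by
      rw [AdicCompletion.maximalIdeal_eq_map, Ideal.map_le_iff_le_comap]
      intro a ha
      show algebraMap A' C' (algebraMap A A' a) ∈ x'.asIdeal
      rw [← IsScalarTower.algebraMap_apply, ← (Algebra.TensorProduct.includeRight (R := A) (A := A') (B := C)).commutes]
      show algebraMap A C a ∈ (π x').asIdeal
      have := IsLocalRing.eq_maximalIdeal (Ideal.isMaximal_comap_of_isIntegral_of_isMaximal (R := A) (π x').asIdeal)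
      exact (Ideal.mem_comap.1 (this.symm ▸ ha) : _)
    exact ((maximalIdeal.isMaximal A').eq_of_le (Ideal.IsPrime.ne_top inferInstance) hle) ▸ maximalIdeal.isMaximal A'
  refine ⟨fun n hn => ?_, ?_⟩
  · obtain ⟨n', hn', hn'm, -⟩ := hlift n hn
    obtain ⟨x', hx'⟩ := (hstar n' hn'm).nonempty
    exact ⟨π x', hn' ▸ hπmono _ _ hx'.1, hnm n' hn'm x' hx'⟩
  -- all generalizations of a closed point lie on one side
  have hside : ∀ n : PrimeSpectrum C, n.asIdeal.IsMaximal →
      (∀ x ≤ n, ¬ x.asIdeal.IsMaximal → x ∈ O) ∨ (∀ x ≤ n, ¬ x.asIdeal.IsMaximal → x ∈ O') := by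
    intro n hn
    obtain ⟨n', hn', hn'm, hl⟩ := hlift n hn
    have hpre := (hstar n' hn'm).isPreconnected (π ⁻¹' O) (π ⁻¹' O')
      (hO.preimage (PrimeSpectrum.continuous_comap _)) (hO'.preimage (PrimeSpectrum.continuous_comap _))
      (fun z hz => hcov _ (hnm n' hn'm z hz))
    by_contra! hcon
    obtain ⟨⟨x, hxn, hxm, hxO⟩, y, hyn, hym, hyO⟩ := hcon
    obtain ⟨x', hx', rfl⟩ := hl x hxn (fun h => hxm (h ▸ hn))
    obtain ⟨y', hy', rfl⟩ := hl y hyn (fun h => hym (h ▸ hn))
    obtain ⟨z, hz, hzO, hzO'⟩ := hpre ⟨y', hy', (hcov _ hym).resolve_right hyO⟩ ⟨x', hx', (hcov _ hxm).resolve_left hxO⟩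
    exact hdis _ (hnm n' hn'm z hz) hzO hzO'
  let side : Set (PrimeSpectrum C) :=
    {x | (¬ x.asIdeal.IsMaximal → x ∈ O) ∧ (x.asIdeal.IsMaximal → ∀ y ≤ x, ¬ y.asIdeal.IsMaximal → y ∈ O)}
  let side' : Set (PrimeSpectrum C) :=
    {x | (¬ x.asIdeal.IsMaximal → x ∈ O') ∧ (x.asIdeal.IsMaximal → ¬ ∀ y ≤ x, ¬ y.asIdeal.IsMaximal → y ∈ O)}
  have hclosed : ∀ (P Q : Set (PrimeSpectrum C)), IsOpen P → IsOpen Q →
      (∀ x, ¬ x.asIdeal.IsMaximal → x ∈ P ∨ x ∈ Q) → (∀ x, ¬ x.asIdeal.IsMaximal → x ∈ P → x ∉ Q) →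
      ∀ T : Set (PrimeSpectrum C), (∀ x, ¬ x.asIdeal.IsMaximal → (x ∈ T ↔ x ∈ P)) →
      (∀ n, n.asIdeal.IsMaximal → ∀ x ≤ n, ¬ x.asIdeal.IsMaximal → x ∈ P → n ∈ T) → IsClosed T := by
    intro P Q hP hQ hc hd' T hT hTn
    obtain ⟨I, hI⟩ := (PrimeSpectrum.isClosed_iff_zeroLocus_ideal _).1 hQ.isClosed_compl
    have hfin := Ideal.finite_minimalPrimes_of_isNoetherianRing C I
    haveI : Finite {n : PrimeSpectrum C | n.asIdeal.IsMaximal} := by
      haveI : Finite (MaximalSpectrum C) := by
        haveI : HenselianLocalRing A' := by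
          haveI := Groth.Agent.LC.Canon.isNoetherianRing_completion (R := A)
          exact ⟨fun f hf a₀ h₁ h₂ => (IsAdicComplete.henselianRing A' (maximalIdeal A')).is_henselian f hf a₀ h₁ (h₂.map _)⟩
        obtain ⟨hfin, -⟩ := Groth.Agent.Hensel.exists_idempotents_of_henselian A' C'
        refine Finite.of_surjective (fun P : MaximalSpectrum C' =>
          (⟨(π ⟨P.asIdeal, P.isMaximal.isPrime⟩).asIdeal, hπm ⟨P.asIdeal, P.isMaximal.isPrime⟩ P.isMaximal⟩ : MaximalSpectrum C)) fun N => ?_
        obtain ⟨n', hn', hn'm, -⟩ := hlift ⟨N.asIdeal, N.isMaximal.isPrime⟩ N.isMaximal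
        exact ⟨⟨n'.asIdeal, hn'm⟩, MaximalSpectrum.ext (congrArg PrimeSpectrum.asIdeal hn')⟩
      refine Finite.of_injective (fun n : {n : PrimeSpectrum C | n.asIdeal.IsMaximal} => (⟨n.1.asIdeal, n.2⟩ : MaximalSpectrum C)) ?_
      intro a b h
      exact Subtype.ext (PrimeSpectrum.ext (congrArg MaximalSpectrum.asIdeal h))
    have hTeq : T = (⋃ p ∈ {p ∈ I.minimalPrimes | ¬ p.IsMaximal}, PrimeSpectrum.zeroLocus (p : Set C)) ∪
        {n | n.asIdeal.IsMaximal ∧ n ∈ T} := by
      ext x
      constructor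
      · intro hx
        by_cases hxm : x.asIdeal.IsMaximal
        · exact Or.inr ⟨hxm, hx⟩
        · have hxI : I ≤ x.asIdeal := by
            have : x ∈ Qᶜ := hd' x hxm ((hT x hxm).1 hx)
            rw [hI] at this
            exact this
          obtain ⟨p, hp, hpx⟩ := Ideal.exists_minimalPrimes_le hxI
          refine Or.inl (Set.mem_iUnion₂.2 ⟨p, ⟨hp, fun hpm => hxm ?_⟩, hpx⟩)
          rwa [← hpm.eq_of_le x.isPrime.ne_top hpx]
      · rintro (hx | ⟨-, hx⟩)
        · obtain ⟨p, ⟨hp, hpm⟩, hpx⟩ := Set.mem_iUnion₂.1 hx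
          let p' : PrimeSpectrum C := ⟨p, hp.1.1⟩
          have hpQ : p' ∈ Qᶜ := by rw [hI]; exact hp.1.2
          have hpP : p' ∈ P := (hc p' hpm).resolve_right hpQ
          by_cases hxm : x.asIdeal.IsMaximal
          · exact hTn x hxm p' hpx hpm hpP
          · refine (hT x hxm).2 ((hc x hxm).resolve_right fun hxQ => hpQ ?_)
            exact hQ.stableUnderGeneralization ((PrimeSpectrum.le_iff_specializes p' x).1 hpx) hxQ
        · exact hx
    rw [hTeq]
    refine IsClosed.union ?_ ?_
    · exact Set.Finite.isClosed_biUnion (hfin.subset fun p hp => hp.1) fun p _ => PrimeSpectrum.isClosed_zeroLocus _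
    · have hf : Set.Finite {n : PrimeSpectrum C | n.asIdeal.IsMaximal ∧ n ∈ T} :=
        (Set.toFinite {n : PrimeSpectrum C | n.asIdeal.IsMaximal}).subset fun n hn => hn.1
      rw [← Set.biUnion_of_singleton {n : PrimeSpectrum C | n.asIdeal.IsMaximal ∧ n ∈ T}]
      exact hf.isClosed_biUnion fun n hn => (PrimeSpectrum.isClosed_singleton_iff_isMaximal n).2 hn.1
  refine ⟨side, ⟨hclosed O O' hO hO' hcov hdis side (fun x hx => ⟨fun h => h.1 hx, fun h => ⟨fun _ => h, fun h' => absurd h' hx⟩⟩) ?_, ?_⟩,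
    fun x hx => ⟨fun h => h.1 hx, fun h => ⟨fun _ => h, fun h' => absurd h' hx⟩⟩⟩
  · intro n hn x hxn hxm hxO
    refine ⟨fun h => absurd hn h, fun _ => ?_⟩
    rcases hside n hn with h | h
    · exact h
    · exact absurd (h x hxn hxm) (hdis x hxm hxO)
  · rw [← isClosed_compl_iff]
    have : sideᶜ = side' := by
      ext x
      by_cases hx : x.asIdeal.IsMaximal
      · exact ⟨fun h => ⟨fun h' => absurd hx h', fun _ h' => h ⟨fun h'' => absurd hx h'', fun _ => h'⟩⟩,
          fun h h' => h.2 hx (h'.2 hx)⟩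
      · exact ⟨fun h => ⟨fun _ => (hcov x hx).resolve_left fun h' => h ⟨fun _ => h', fun h'' => absurd h'' hx⟩,
          fun h' => absurd h' hx⟩, fun h h' => hdis x hx (h'.1 hx) (h.1 hx)⟩
    rw [this]
    refine hclosed O' O hO' hO (fun x hx => (hcov x hx).symm) (fun x hx h h' => hdis x hx h' h) side'
      (fun x hx => ⟨fun h => h.1 hx, fun h => ⟨fun _ => h, fun h' => absurd h' hx⟩⟩) ?_
    intro n hn x hxn hxm hxO
    exact ⟨fun h => absurd hn h, fun _ h => hdis x hxm (h x hxn hxm) hxO⟩

/-- A local spectrum has no nontrivial clopen subset. -/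
theorem clopen_local (A : Type u) [CommRing A] [IsLocalRing A] (G : Set (PrimeSpectrum A)) (hG : IsClopen G) :
    G = ∅ ∨ G = Set.univ := by
  have key : ∀ T : Set (PrimeSpectrum A), IsOpen T → IsLocalRing.closedPoint A ∈ T → T = Set.univ := fun T hT h =>
    Set.eq_univ_of_forall fun y =>
      hT.stableUnderGeneralization ((PrimeSpectrum.le_iff_specializes y _).1 (le_maximalIdeal y.isPrime.ne_top)) h
  by_cases h : IsLocalRing.closedPoint A ∈ G
  · exact Or.inr (key G hG.2 h)
  · exact Or.inl (Set.compl_univ_iff.1 (key Gᶜ hG.compl.2 h))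

end Groth.Agent.Pi1Ext.CIConn
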