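import Groth.Agent.LC.CohTorsion
import Groth.Agent.LC.CohCech

/-! Annihilators of the first two local cohomology modules, in terms of Čech cocycles. -/

set_option autoImplicit false
set_option linter.style.haveILetI false
universe u

open CategoryTheory Limits

noncomputable section

namespace Groth.Agent.Pi1Ext.CechTors

open Groth.Agent.LC

variable {A : Type u} [CommRing A]

/-- `c` kills the cokernel of `M → Γ(U, M)`, in terms of fractions. -/
def T0 (G : Finset A) (M : Type u) [AddCommGroup M] [Module A M] (c : A) : Prop :=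
  ∀ (k : ℕ) (m : G → M), (∀ g h : G, h.1 ^ k • m g = g.1 ^ k • m h) →
    ∃ (x : M) (l : ℕ), ∀ g : G, g.1 ^ (l + k) • x = g.1 ^ l • c • m g

/-- `c` kills the first Čech cohomology on `U`, in terms of fractions. -/
def T1 (G : Finset A) (M : Type u) [AddCommGroup M] [Module A M] (c : A) : Prop :=
  ∀ (k : ℕ) (d : G → G → M),
    (∀ g h l : G, l.1 ^ k • d g h - h.1 ^ k • d g l + g.1 ^ k • d h l = 0) →
    ∃ (K : ℕ) (b : G → M), ∀ g h : G,
      (g.1 * h.1) ^ K • c • d g h = (g.1 * h.1) ^ k • (g.1 ^ K • b h - h.1 ^ K • b g)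

section Ideals

variable {G : Finset A} {M : Type u} [AddCommGroup M] [Module A M]

theorem T0.smul {c : A} (h : T0 G M c) (r : A) : T0 G M (r * c) := fun k m hm => by
  obtain ⟨x, l, hx⟩ := h k m hm
  exact ⟨r • x, l, fun g => by rw [smul_comm, hx g, mul_smul, smul_comm]⟩

theorem T1.smul {c : A} (h : T1 G M c) (r : A) : T1 G M (r * c) := fun k d hd => by
  obtain ⟨K, b, hb⟩ := h k d hd
  refine ⟨K, r • b, fun g g' => ?_⟩
  rw [Pi.smul_apply, Pi.smul_apply, smul_comm _ r, smul_comm _ r, ← smul_sub, smul_comm _ r, ← hb g g',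
    mul_smul, smul_comm]

theorem T0.zero : T0 G M 0 := fun _ _ _ => ⟨0, 0, fun g => by rw [zero_smul, smul_zero, smul_zero]⟩

theorem T1.zero : T1 G M 0 := fun _ _ _ => ⟨0, 0, fun g h => by simp⟩

theorem T0.add {c c' : A} (h : T0 G M c) (h' : T0 G M c') : T0 G M (c + c') := fun k m hm => by
  obtain ⟨x, l, hx⟩ := h k m hm
  obtain ⟨x', l', hx'⟩ := h' k m hm
  refine ⟨x + x', l + l', fun g => ?_⟩
  rw [smul_add, add_smul, smul_add,
    show g.1 ^ (l + l' + k) • x = g.1 ^ l' • g.1 ^ (l + k) • x by rw [smul_smul, ← pow_add]; congr 2; omega,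
    hx g, show g.1 ^ (l + l' + k) • x' = g.1 ^ l • g.1 ^ (l' + k) • x' by rw [smul_smul, ← pow_add]; congr 2; omega,
    hx' g, pow_add, mul_smul, mul_smul]
  congr 1
  rw [smul_comm]

theorem T1.lift {c : A} {k : ℕ} {d : G → G → M} {K : ℕ} {b : G → M}
    (hb : ∀ g h : G, (g.1 * h.1) ^ K • c • d g h = (g.1 * h.1) ^ k • (g.1 ^ K • b h - h.1 ^ K • b g)) (e : ℕ) :
    ∀ g h : G, (g.1 * h.1) ^ (K + e) • c • d g h =
      (g.1 * h.1) ^ k • (g.1 ^ (K + e) • (h.1 ^ e • b h) - h.1 ^ (K + e) • (g.1 ^ e • b g)) := fun g h => by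
  rw [pow_add, mul_comm (_ ^ K), mul_smul, hb g h, smul_comm]
  congr 1
  rw [smul_sub, smul_smul, smul_smul, smul_smul, smul_smul, mul_pow, pow_add, pow_add]
  congr 2 <;> ring

theorem T1.add {c c' : A} (h : T1 G M c) (h' : T1 G M c') : T1 G M (c + c') := fun k d hd => by
  obtain ⟨K, b, hb⟩ := h k d hd
  obtain ⟨K', b', hb'⟩ := h' k d hd
  refine ⟨K + K', fun g => g.1 ^ K' • b g + g.1 ^ K • b' g, fun g g' => ?_⟩
  have h1 := T1.lift hb K' g g'
  have h2 := T1.lift hb' K g g'
  rw [add_comm K'] at h2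
  rw [add_smul, smul_add, h1, h2, ← smul_add]
  congr 1
  rw [smul_add, smul_add]
  abel

theorem T0.of_mem_span {S : Set A} (hS : ∀ c ∈ S, T0 G M c) {c : A} (hc : c ∈ Ideal.span S) : T0 G M c := by
  induction hc using Submodule.span_induction with
  | mem c hc => exact hS c hc
  | zero => exact T0.zero
  | add _ _ _ _ h h' => exact h.add h'
  | smul r _ _ h => exact h.smul r

theorem T1.of_mem_span {S : Set A} (hS : ∀ c ∈ S, T1 G M c) {c : A} (hc : c ∈ Ideal.span S) : T1 G M c := by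
  induction hc using Submodule.span_induction with
  | mem c hc => exact hS c hc
  | zero => exact T1.zero
  | add _ _ _ _ h h' => exact h.add h'
  | smul r _ _ h => exact h.smul r

theorem T0.pi {c : A} (h : T0 G A c) (r : ℕ) : T0 G (Fin r → A) c := fun k m hm => by
  choose x l hx using fun i => h k (fun g => m g i) fun g g' => congrFun (hm g g') i
  refine ⟨x, Finset.univ.sup l, fun g => funext fun i => ?_⟩
  obtain ⟨e, he⟩ := Nat.exists_eq_add_of_le (Finset.le_sup (f := l) (Finset.mem_univ i))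
  show g.1 ^ (Finset.univ.sup l + k) • x i = g.1 ^ Finset.univ.sup l • c • m g i
  rw [he, pow_add g.1 (l i) e, mul_comm (g.1 ^ l i), mul_smul, ← hx i g, smul_smul, ← pow_add]
  congr 2
  omega

theorem T1.pi {c : A} (h : T1 G A c) (r : ℕ) : T1 G (Fin r → A) c := fun k d hd => by
  choose K b hb using fun i => h k (fun g g' => d g g' i) fun g g' l => congrFun (hd g g' l) i
  refine ⟨Finset.univ.sup K, fun g i => g.1 ^ (Finset.univ.sup K - K i) • b i g, fun g g' => funext fun i => ?_⟩
  obtain ⟨e, he⟩ := Nat.exists_eq_add_of_le (Finset.le_sup (f := K) (Finset.mem_univ i))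
  have := T1.lift (hb i) e g g'
  show (g.1 * g'.1) ^ Finset.univ.sup K • c • d g g' i = (g.1 * g'.1) ^ k •
    (g.1 ^ Finset.univ.sup K • (g'.1 ^ (Finset.univ.sup K - K i) • b i g') -
      g'.1 ^ Finset.univ.sup K • (g.1 ^ (Finset.univ.sup K - K i) • b i g))
  rw [he, Nat.add_sub_cancel_left]
  exact this

theorem T0.of_factor {c c' : A} {r : ℕ} (h : T0 G A c) (u : M →ₗ[A] Fin r → A) (v : (Fin r → A) →ₗ[A] M)
    (huv : ∀ x, v (u x) = c' • x) : T0 G M (c * c') := fun k m hm => by
  obtain ⟨x, l, hx⟩ := h.pi r k (fun g => u (m g)) fun g g' => by rw [← map_smul, ← map_smul, hm g g']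
  refine ⟨v x, l, fun g => ?_⟩
  rw [← map_smul, hx g, map_smul, map_smul, huv, mul_smul]

theorem T1.of_factor {c c' : A} {r : ℕ} (h : T1 G A c) (u : M →ₗ[A] Fin r → A) (v : (Fin r → A) →ₗ[A] M)
    (huv : ∀ x, v (u x) = c' • x) : T1 G M (c * c') := fun k d hd => by
  obtain ⟨K, b, hb⟩ := h.pi r k (fun g g' => u (d g g')) fun g g' l => by
    rw [← map_smul, ← map_smul, ← map_smul, ← map_sub, ← map_add, hd g g' l, map_zero]
  refine ⟨K, fun g => v (b g), fun g g' => ?_⟩
  have := congrArg v (hb g g')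
  rw [map_smul, map_smul, huv, map_smul, map_sub, map_smul, map_smul] at this
  rw [mul_smul]
  exact this

end Ideals

section LocCoh

variable (G : Finset A) (M : Type u) [AddCommGroup M] [Module A M]

/-- Fractions over one generator. -/
abbrev L (g : A) : Type u := LocalizedModule (Submonoid.powers g) M

/-- Čech zero cochains. -/
abbrev P0 : Type u := ∀ g : G, L M g.1

/-- Čech one cochains. -/
abbrev P1 : Type u := ∀ g h : G, L M (g.1 * h.1)

variable {M}

theorem isUnit_of_dvd {g gh : A} (hd : g ∣ gh) (s : Submonoid.powers g) :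
    IsUnit (algebraMap A (Module.End A (L M gh)) s) := by
  obtain ⟨_, n, rfl⟩ := s
  obtain ⟨h, rfl⟩ := hd
  have := IsLocalizedModule.map_units (LocalizedModule.mkLinearMap (Submonoid.powers (g * h)) M)
    (⟨(g * h) ^ n, n, rfl⟩ : Submonoid.powers (g * h))
  show IsUnit (algebraMap A (Module.End A (L M (g * h))) (g ^ n))
  change IsUnit (algebraMap A (Module.End A (L M (g * h))) ((g * h) ^ n)) at this
  rw [mul_pow,
    map_mul, Commute.isUnit_mul_iff ((Commute.all _ _).map _)] at this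
  exact this.1

/-- Restriction of fractions. -/
def rmap (g gh : A) (hd : g ∣ gh) : L M g →ₗ[A] L M gh :=
  LocalizedModule.lift (Submonoid.powers g) (LocalizedModule.mkLinearMap (Submonoid.powers gh) M)
    (isUnit_of_dvd hd)

/-- A fraction. -/
def frac (g : A) (k : ℕ) (m : M) : L M g := LocalizedModule.mk m ⟨g ^ k, k, rfl⟩

theorem smul_frac (g : A) (k : ℕ) (m : M) :
    g ^ k • frac g k m = LocalizedModule.mkLinearMap (Submonoid.powers g) M m := by
  rw [frac, LocalizedModule.smul'_mk]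
  exact LocalizedModule.mk_cancel (⟨g ^ k, k, rfl⟩ : Submonoid.powers g) m

theorem smul_cancel_iff {g gh : A} (hd : g ∣ gh) (k : ℕ) {x y : L M gh} (h : g ^ k • x = g ^ k • y) : x = y :=
  ((Module.End.isUnit_iff _).1 (isUnit_of_dvd (M := M) hd (⟨g ^ k, k, rfl⟩ : Submonoid.powers g))).1 h

theorem rmap_frac {g h : A} {gh : A} (hgh : gh = g * h) (hd : g ∣ gh) (k : ℕ) (m : M) :
    rmap g gh hd (frac g k m) = frac gh k (h ^ k • m) := by
  subst hgh
  refine smul_cancel_iff hd k ?_
  rw [← map_smul, smul_frac]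
  show LocalizedModule.lift _ _ _ (LocalizedModule.mk m 1) = _
  rw [LocalizedModule.lift_mk_one, frac, LocalizedModule.smul'_mk, smul_smul, ← mul_pow]
  exact (LocalizedModule.mk_cancel (⟨(g * h) ^ k, k, rfl⟩ : Submonoid.powers (g * h)) m).symm

theorem frac_eq_frac {g : A} {k l : ℕ} {m m' : M} :
    frac g k m = frac g l m' ↔ ∃ e : ℕ, g ^ e • g ^ l • m = g ^ e • g ^ k • m' := by
  rw [frac, frac, LocalizedModule.mk_eq]
  constructor
  · rintro ⟨⟨_, e, rfl⟩, he⟩; exact ⟨e, he⟩
  · rintro ⟨e, he⟩; exact ⟨⟨g ^ e, e, rfl⟩, he⟩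

theorem exists_frac {g : A} (x : L M g) : ∃ (k : ℕ) (m : M), x = frac g k m := by
  induction x using LocalizedModule.induction_on with
  | h m s =>
    obtain ⟨_, k, rfl⟩ := s
    exact ⟨k, m, rfl⟩

/-- The Čech differential. -/
def δ : P0 G M →ₗ[A] P1 G M :=
  LinearMap.pi fun g => LinearMap.pi fun h =>
    (rmap h.1 (g.1 * h.1) (dvd_mul_left _ _)).comp (LinearMap.proj h) -
      (rmap g.1 (g.1 * h.1) (dvd_mul_right _ _)).comp (LinearMap.proj g)

theorem δ_frac (k : ℕ) (m : G → M) (g h : G) :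
    δ G (fun g => frac g.1 k (m g)) g h = frac (g.1 * h.1) k (g.1 ^ k • m h - h.1 ^ k • m g) := by
  show rmap h.1 _ (dvd_mul_left _ _) (frac h.1 k (m h)) - rmap g.1 _ (dvd_mul_right _ _) (frac g.1 k (m g)) = _
  rw [rmap_frac (mul_comm g.1 h.1), rmap_frac rfl]
  refine smul_cancel_iff (dvd_refl (g.1 * h.1)) k ?_
  rw [smul_sub, smul_frac, smul_frac, smul_frac, map_sub]

/-- The augmentation. -/
def diag : M →ₗ[A] P0 G M := LinearMap.pi fun g => LocalizedModule.mkLinearMap (Submonoid.powers g.1) M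

theorem δ_diag (m : M) : δ G (diag G m) = 0 := by
  have : diag G m = fun g : G => frac g.1 0 m := funext fun g => by
    show LocalizedModule.mkLinearMap (Submonoid.powers g.1) M m = _
    rw [← smul_frac g.1 0 m, pow_zero, one_smul]
  funext g h
  rw [this, δ_frac]
  simp [frac]

/-- A normal form of Čech zero cochains. -/
theorem exists_frac_family (x : P0 G M) :
    ∃ (k : ℕ) (m : G → M), x = fun g => frac g.1 k (m g) := by
  choose k m hkm using fun g : G => exists_frac (x g)
  refine ⟨Finset.univ.sup k, fun g => g.1 ^ (Finset.univ.sup k - k g) • m g, funext fun g => ?_⟩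
  rw [hkm g, frac_eq_frac]
  refine ⟨0, ?_⟩
  rw [smul_smul (g.1 ^ k g), ← pow_add, Nat.add_sub_cancel' (Finset.le_sup (Finset.mem_univ g))]

variable [IsNoetherianRing A] (I : Ideal A) (hI : Ideal.span (G : Set A) = I)

include hI

omit hI in
theorem additive_H (i : ℕ) : (localCohomology I i).Additive where
  map_add {X Y f g} := ModuleCat.hom_ext (LinearMap.ext fun z => by
    obtain ⟨n, x, rfl⟩ := exists_toH I i z
    show _ = ((localCohomology I i).map f).hom _ + ((localCohomology I i).map g).hom _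
    rw [toH_natural, toH_natural, toH_natural, Abelian.Ext.mk₀_add, Abelian.Ext.comp_add, map_add])

omit hI in
theorem smul_H_of_retract (i : ℕ) (c : A) {N N' : Type u} [AddCommGroup N] [Module A N] [AddCommGroup N']
    [Module A N'] (e : N ≃ₗ[A] N') (hc : ∀ z : (localCohomology I i).obj (ModuleCat.of A N), c • z = 0)
    (z : (localCohomology I i).obj (ModuleCat.of A N')) : c • z = 0 := by
  have hz : ((localCohomology I i).map (ModuleCat.ofHom e.toLinearMap)).hom
      (((localCohomology I i).map (ModuleCat.ofHom e.symm.toLinearMap)).hom z) = z := by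
    rw [← ModuleCat.comp_apply, ← CategoryTheory.Functor.map_comp, show ModuleCat.ofHom e.symm.toLinearMap ≫
      ModuleCat.ofHom e.toLinearMap = 𝟙 _ from ModuleCat.hom_ext (LinearMap.ext fun y => e.apply_symm_apply y),
      CategoryTheory.Functor.map_id]
    rfl
  rw [← hz, ← map_smul, hc, map_zero]

theorem torsionFree_eq_zero {x : P0 G M} {n : ℕ} (h : ∀ a ∈ I ^ n, a • x = 0) : x = 0 := funext fun g => by
  refine smul_cancel_iff (dvd_refl g.1) n ?_
  rw [Pi.zero_apply, smul_zero]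
  exact congrFun (h _ (Ideal.pow_mem_pow (hI ▸ Ideal.subset_span g.2) n)) g

theorem torsionFree_eq_zero₁ {x : P1 G M} {n : ℕ} (h : ∀ a ∈ I ^ n, a • x = 0) : x = 0 := funext fun g => funext fun g' => by
  refine smul_cancel_iff (dvd_mul_right g.1 g'.1) n ?_
  rw [Pi.zero_apply, Pi.zero_apply, smul_zero]
  exact congrFun (congrFun (h _ (Ideal.pow_mem_pow (hI ▸ Ideal.subset_span g.2) n)) g) g'

theorem isPowerTorsion_of_gens {N : Type u} [AddCommGroup N] [Module A N]
    (h : ∀ (x : N), ∀ g ∈ G, ∃ n : ℕ, g ^ n • x = 0) : LocCoh.IsPowerTorsion I N := fun x => by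
  let J : Ideal A := LinearMap.ker (LinearMap.toSpanSingleton A N x)
  have hle : I ≤ J.radical := by
    rw [← hI, Ideal.span_le]
    intro g hg
    obtain ⟨n, hn⟩ := h x g hg
    exact ⟨n, hn⟩
  obtain ⟨n, hn⟩ := Ideal.exists_pow_le_of_le_radical_of_fg hle (IsNoetherian.noetherian I)
  exact ⟨n, fun a ha => hn ha⟩

theorem subsingleton_H_P0 (i : ℕ) : Subsingleton ((localCohomology I i).obj (ModuleCat.of A (P0 G M))) := by
  classical
  refine subsingleton_of_forall_eq 0 fun z => ?_
  let π : ∀ g : G, ModuleCat.of A (P0 G M) ⟶ ModuleCat.of A (L M g.1) := fun g => ModuleCat.ofHom (LinearMap.proj g)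
  let σ : ∀ g : G, ModuleCat.of A (L M g.1) ⟶ ModuleCat.of A (P0 G M) := fun g =>
    ModuleCat.ofHom (LinearMap.single A (fun g : G => L M g.1) g)
  have hsum : 𝟙 (ModuleCat.of A (P0 G M)) = ∑ g : G, π g ≫ σ g := by
    refine ModuleCat.hom_ext (LinearMap.ext fun x => ?_)
    rw [ModuleCat.hom_sum, LinearMap.sum_apply]
    exact (Finset.univ_sum_single x).symm
  have hz : z = ((localCohomology I i).map (𝟙 _)).hom z := by rw [CategoryTheory.Functor.map_id]; rfl
  haveI := additive_H I i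
  rw [hz, hsum, Functor.map_sum, ModuleCat.hom_sum, LinearMap.sum_apply]
  refine Finset.sum_eq_zero fun g _ => ?_
  rw [CategoryTheory.Functor.map_comp]
  show ((localCohomology I i).map (σ g)).hom (((localCohomology I i).map (π g)).hom z) = 0
  obtain ⟨n, hn⟩ := isPowerTorsion_obj I i (ModuleCat.of A (L M g.1)) (((localCohomology I i).map (π g)).hom z)
  have hbij := smul_bijective_obj I i (ModuleCat.of A (L M g.1)) (g.1 ^ n)
    ((Module.End.isUnit_iff _).1 (isUnit_of_dvd (M := M) (dvd_refl g.1) (⟨g.1 ^ n, n, rfl⟩ : Submonoid.powers g.1)))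
  rw [show ((localCohomology I i).map (π g)).hom z = 0 from hbij.1
    ((hn _ (Ideal.pow_mem_pow (hI ▸ Ideal.subset_span g.2) n)).trans (smul_zero _).symm), map_zero]

/-- The elements of a torsion quotient inject into the next cohomology of a submodule. -/
theorem smul_mem_of_smul_H1 {N : Type u} [AddCommGroup N] [Module A N] (N' : Submodule A N)
    (htf : ∀ (x : N) (n : ℕ), (∀ a ∈ I ^ n, a • x = 0) → x = 0)
    (hq : LocCoh.IsPowerTorsion I (N ⧸ N')) (c : A)
    (hc : ∀ z : (localCohomology I 1).obj (ModuleCat.of A N'), c • z = 0) (x : N) : c • x ∈ N' := by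
  let S : ShortComplex (ModuleCat.{u} A) :=
    ShortComplex.mk (ModuleCat.ofHom N'.subtype) (ModuleCat.ofHom N'.mkQ) (by ext y; simp)
  have hS : S.ShortExact :=
    { exact := (ShortComplex.ShortExact.moduleCat_exact_iff_function_exact _).2 (LinearMap.exact_subtype_mkQ _)
      mono_f := (ModuleCat.mono_iff_injective _).2 (Submodule.injective_subtype _)
      epi_g := (ModuleCat.epi_iff_surjective _).2 (Submodule.mkQ_surjective _) }
  let q : DRing.torsionSub I S.X₃ := ⟨N'.mkQ x, hq _⟩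
  let w := (H0Equiv I S.X₃).symm q
  have h0 : Subsingleton ((localCohomology I 0).obj S.X₂) := by
    refine subsingleton_of_forall_eq 0 fun z => (H0Equiv I S.X₂).injective ?_
    rw [map_zero]
    obtain ⟨n, hn⟩ := (H0Equiv I S.X₂ z).2
    exact Subtype.ext (htf _ n hn)
  have hw : c • w = 0 := by
    have h1 : δH I 0 hS 1 rfl (c • w) = 0 := by rw [map_smul]; exact hc _
    obtain ⟨v, hv⟩ := (exact₃ I 0 hS 1 rfl (c • w)).1 h1
    rw [← hv, @Subsingleton.elim _ h0 v 0, map_zero]
  have h2 := congrArg (fun z => (H0Equiv I S.X₃ z : DRing.torsionSub I S.X₃).1) hw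
  simp only [map_smul, w, LinearEquiv.apply_symm_apply, map_zero] at h2
  exact (Submodule.Quotient.mk_eq_zero N').1 h2

omit hI in
theorem δ_eq_zero_iff (x : P0 G M) (hx : δ G x = 0) :
    ∃ (k : ℕ) (m : G → M), (∀ g h : G, h.1 ^ k • m g = g.1 ^ k • m h) ∧ x = fun g => frac g.1 k (m g) := by
  obtain ⟨k, m, rfl⟩ := exists_frac_family G x
  have h1 : ∀ g h : G, ∃ e : ℕ, (g.1 * h.1) ^ e • (g.1 ^ k • m h - h.1 ^ k • m g) = 0 := fun g h => by
    have h2 := congrFun (congrFun hx g) h
    rw [δ_frac, show (0 : P1 G M) g h = frac (g.1 * h.1) 0 (0 : M) from (LocalizedModule.zero_mk _).symm,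
      frac_eq_frac] at h2
    obtain ⟨e, he⟩ := h2
    exact ⟨e, by simpa using he⟩
  choose e he using h1
  let E := Finset.univ.sup fun p : G × G => e p.1 p.2
  refine ⟨k + E, fun g => g.1 ^ E • m g, fun g h => ?_, funext fun g => frac_eq_frac.2 ⟨0, ?_⟩⟩
  · obtain ⟨d, hd⟩ := Nat.exists_eq_add_of_le (Finset.le_sup (f := fun p : G × G => e p.1 p.2) (Finset.mem_univ (g, h)))
    have h0 : (g.1 * h.1) ^ E • (g.1 ^ k • m h - h.1 ^ k • m g) = 0 := by
      rw [show E = e g h + d from hd, pow_add, mul_comm, mul_smul, he, smul_zero]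
    rw [smul_sub, sub_eq_zero, smul_smul, smul_smul] at h0
    rw [smul_smul, smul_smul]
    convert h0.symm using 2 <;> ring
  · rw [smul_smul (g.1 ^ k), ← pow_add]

/-- Local cohomology gives the two annihilation properties. -/
theorem exists_surjective_H :
    (∃ φ : (localCohomology I 1).obj (ModuleCat.of A M) →ₗ[A]
        (localCohomology I 1).obj (ModuleCat.of A (LinearMap.range (diag G : M →ₗ[A] P0 G M))), Function.Surjective φ) ∧
      ∃ φ : (localCohomology I 2).obj (ModuleCat.of A M) →ₗ[A]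
        (localCohomology I 2).obj (ModuleCat.of A (LinearMap.ker (δ G : P0 G M →ₗ[A] P1 G M))), Function.Surjective φ := by
  let N := LinearMap.range (diag G : M →ₗ[A] P0 G M)
  let S : ShortComplex (ModuleCat.{u} A) :=
    ShortComplex.mk (ModuleCat.ofHom (LinearMap.ker (diag G : M →ₗ[A] P0 G M)).subtype)
      (ModuleCat.ofHom (diag G : M →ₗ[A] P0 G M).rangeRestrict) (ModuleCat.hom_ext (LinearMap.ext fun y => Subtype.ext y.2))
  have hS : S.ShortExact :=
    { exact := (ShortComplex.ShortExact.moduleCat_exact_iff_function_exact _).2 (by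
        intro y
        refine ⟨fun hy => ⟨⟨y, congrArg Subtype.val hy⟩, rfl⟩, ?_⟩
        rintro ⟨z, rfl⟩
        exact Subtype.ext z.2)
      mono_f := (ModuleCat.mono_iff_injective _).2 (Submodule.injective_subtype _)
      epi_g := (ModuleCat.epi_iff_surjective _).2 (LinearMap.surjective_rangeRestrict _) }
  have htor : LocCoh.IsPowerTorsion I S.X₁ := isPowerTorsion_of_gens G I hI fun y g hg => by
    have h1 : LocalizedModule.mk y.1 (1 : Submonoid.powers g) = LocalizedModule.mk (0 : M) 1 :=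
      (congrFun y.2 ⟨g, hg⟩).trans (LocalizedModule.zero_mk _).symm
    rw [LocalizedModule.mk_eq] at h1
    obtain ⟨⟨_, n, rfl⟩, hn⟩ := h1
    refine ⟨n, Subtype.ext ?_⟩
    show g ^ n • y.1 = 0
    simpa [Submonoid.smul_def] using hn
  have s1 : ∀ i, Function.Surjective ((localCohomology I (i + 1)).map S.g).hom := fun i z =>
    (exact₃ I (i + 1) hS (i + 2) rfl z).1 (@Subsingleton.elim _ (subsingleton_of_torsion I (i + 1) S.X₁ htor) _ _)
  refine ⟨⟨_, s1 0⟩, ?_⟩
  let Γ := LinearMap.ker (δ G : P0 G M →ₗ[A] P1 G M)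
  let ι : N →ₗ[A] Γ := N.subtype.codRestrict Γ (by rintro ⟨_, y, rfl⟩; exact δ_diag G y)
  let S' : ShortComplex (ModuleCat.{u} A) :=
    ShortComplex.mk (ModuleCat.ofHom ι) (ModuleCat.ofHom (LinearMap.range ι).mkQ) (by ext y; simp)
  have hS' : S'.ShortExact :=
    { exact := (ShortComplex.ShortExact.moduleCat_exact_iff_function_exact _).2 (LinearMap.exact_map_mkQ_range ι)
      mono_f := (ModuleCat.mono_iff_injective _).2 fun a b h => Subtype.ext (congrArg (fun z => z.1) h)
      epi_g := (ModuleCat.epi_iff_surjective _).2 (Submodule.mkQ_surjective _) }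
  have htor' : LocCoh.IsPowerTorsion I S'.X₃ := isPowerTorsion_of_gens G I hI fun y g hg => by
    obtain ⟨w, rfl⟩ := Submodule.mkQ_surjective _ y
    obtain ⟨k, m, hm, hw⟩ := δ_eq_zero_iff G w.1 w.2
    refine ⟨k, (Submodule.Quotient.mk_eq_zero _).2 ⟨⟨_, m ⟨g, hg⟩, rfl⟩, Subtype.ext (funext fun h => ?_)⟩⟩
    show LocalizedModule.mkLinearMap (Submonoid.powers h.1) M (m ⟨g, hg⟩) = g ^ k • w.1 h
    refine smul_cancel_iff (dvd_refl h.1) k ?_
    rw [hw, smul_comm (h.1 ^ k) (g ^ k), smul_frac, ← map_smul, ← map_smul, hm ⟨g, hg⟩ h]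
  refine ⟨((localCohomology I 2).map S'.f).hom ∘ₗ ((localCohomology I 2).map S.g).hom, fun z => ?_⟩
  obtain ⟨w, hw⟩ := (exact₂ I 2 hS' z).1 (@Subsingleton.elim _ (subsingleton_of_torsion I 1 S'.X₃ htor') _ _)
  obtain ⟨v, hv⟩ := s1 1 w
  exact ⟨v, (congrArg _ hv).trans hw⟩

theorem t0_of_smul_H {c : A} (hc : ∀ z : (localCohomology I 1).obj (ModuleCat.of A M), c • z = 0) :
    T0 G M c := by
  intro k m hm
  obtain ⟨⟨φ, hφ⟩, -⟩ := exists_surjective_H (M := M) G I hI
  let N := LinearMap.range (diag G : M →ₗ[A] P0 G M)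
  let Γ := LinearMap.ker (δ G : P0 G M →ₗ[A] P1 G M)
  have hle : N ≤ Γ := by rintro _ ⟨y, rfl⟩; exact δ_diag G y
  have hmem : ∀ g : G, ∀ h : G, g.1 ^ k • frac h.1 k (m h) = LocalizedModule.mkLinearMap _ M (m g) := fun g h => by
    refine smul_cancel_iff (dvd_refl h.1) k ?_
    rw [smul_comm, smul_frac, ← map_smul, ← map_smul, hm g h]
  let x : P0 G M := fun g => frac g.1 k (m g)
  have hx : x ∈ Γ := funext fun g => funext fun h => by
    show δ G (fun g => frac g.1 k (m g)) g h = 0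
    rw [δ_frac, hm g h, sub_self]
    exact LocalizedModule.zero_mk _
  let N' : Submodule A Γ := N.comap Γ.subtype
  let e : N ≃ₗ[A] N' := (Submodule.comapSubtypeEquivOfLe hle).symm
  have h2 := smul_mem_of_smul_H1 G I hI N' (fun y n hy => Subtype.ext (torsionFree_eq_zero G I hI fun a ha =>
      congrArg Subtype.val (hy a ha)))
    (isPowerTorsion_of_gens G I hI fun y g hg => by
      obtain ⟨w, rfl⟩ := Submodule.mkQ_surjective _ y
      obtain ⟨k', m', hm', hw⟩ := δ_eq_zero_iff G w.1 w.2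
      refine ⟨k', (Submodule.Quotient.mk_eq_zero _).2 ⟨m' ⟨g, hg⟩, funext fun h => ?_⟩⟩
      show LocalizedModule.mkLinearMap (Submonoid.powers h.1) M (m' ⟨g, hg⟩) = g ^ k' • w.1 h
      refine smul_cancel_iff (dvd_refl h.1) k' ?_
      rw [hw, smul_comm (h.1 ^ k') (g ^ k'), smul_frac, ← map_smul, ← map_smul, hm' ⟨g, hg⟩ h])
    c (smul_H_of_retract I 1 c e fun z => by
      obtain ⟨z'', rfl⟩ := hφ z
      rw [← map_smul, hc, map_zero]) ⟨x, hx⟩
  obtain ⟨y, hy⟩ : c • x ∈ N := h2
  have h3 : ∀ g : G, ∃ l : ℕ, g.1 ^ (l + k) • y = g.1 ^ l • c • m g := fun g => by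
    have h4 : LocalizedModule.mk (g.1 ^ k • y) (1 : Submonoid.powers g.1) = LocalizedModule.mk (c • m g) 1 := by
      show LocalizedModule.mkLinearMap (Submonoid.powers g.1) M (g.1 ^ k • y) =
        LocalizedModule.mkLinearMap (Submonoid.powers g.1) M (c • m g)
      rw [map_smul, show LocalizedModule.mkLinearMap (Submonoid.powers g.1) M y = c • x g from congrFun hy g,
        smul_comm, smul_frac, map_smul]
    rw [LocalizedModule.mk_eq] at h4
    obtain ⟨⟨_, l, rfl⟩, hl⟩ := h4
    refine ⟨l, ?_⟩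
    rw [pow_add, mul_smul]
    simpa [Submonoid.smul_def] using hl
  choose l hl using h3
  refine ⟨y, Finset.univ.sup l, fun g => ?_⟩
  obtain ⟨d, hd⟩ := Nat.exists_eq_add_of_le (Finset.le_sup (f := l) (Finset.mem_univ g))
  rw [hd, show l g + d + k = d + (l g + k) by omega, pow_add, mul_smul, hl, smul_smul, ← pow_add, add_comm d]

theorem t1_of_smul_H {c : A} (hc : ∀ z : (localCohomology I 2).obj (ModuleCat.of A M), c • z = 0) :
    T1 G M c := by
  intro k d hd
  obtain ⟨-, φ, hφ⟩ := exists_surjective_H (M := M) G I hI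
  let δM : P0 G M →ₗ[A] P1 G M := δ G
  let R := LinearMap.range δM
  let dbar : P1 G M := fun g h => frac (g.1 * h.1) k (d g h)
  let Z : Submodule A (P1 G M) := R ⊔ Submodule.span A {dbar}
  let S : ShortComplex (ModuleCat.{u} A) :=
    ShortComplex.mk (ModuleCat.ofHom (LinearMap.ker δM).subtype) (ModuleCat.ofHom δM.rangeRestrict)
      (ModuleCat.hom_ext (LinearMap.ext fun y => Subtype.ext y.2))
  have hS : S.ShortExact :=
    { exact := (ShortComplex.ShortExact.moduleCat_exact_iff_function_exact _).2 (by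
        intro y
        refine ⟨fun hy => ⟨⟨y, congrArg Subtype.val hy⟩, rfl⟩, ?_⟩
        rintro ⟨z, rfl⟩
        exact Subtype.ext z.2)
      mono_f := (ModuleCat.mono_iff_injective _).2 (Submodule.injective_subtype _)
      epi_g := (ModuleCat.epi_iff_surjective _).2 (LinearMap.surjective_rangeRestrict _) }
  haveI := subsingleton_H_P0 (M := M) G I hI 1
  have hR : ∀ z : (localCohomology I 1).obj (ModuleCat.of A R), c • z = 0 := fun z => by
    have h1 : δH I 1 hS 2 rfl (c • z) = 0 := by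
      rw [map_smul]
      obtain ⟨w, hw⟩ := hφ (δH I 1 hS 2 rfl z)
      rw [← hw, ← map_smul, hc, map_zero]
    obtain ⟨v, hv⟩ := (exact₃ I 1 hS 2 rfl (c • z)).1 h1
    rw [← hv, show v = 0 from @Subsingleton.elim _ (subsingleton_H_P0 (M := M) G I hI 1) v 0, map_zero]
  have hl : ∀ l : G, l.1 ^ k • dbar ∈ R := fun l => by
    refine ⟨fun g => frac g.1 k (-d g l), funext fun g => funext fun h => ?_⟩
    show δ G (fun g => frac g.1 k (-d g l)) g h = l.1 ^ k • frac (g.1 * h.1) k (d g h)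
    rw [δ_frac]
    refine smul_cancel_iff (dvd_refl (g.1 * h.1)) k ?_
    rw [smul_frac, smul_comm, smul_frac, ← map_smul]
    congr 1
    have := hd g h l
    rw [smul_neg, smul_neg]
    linear_combination (norm := module) (-1 : A) • this
  let N' : Submodule A Z := R.comap Z.subtype
  let e : R ≃ₗ[A] N' := (Submodule.comapSubtypeEquivOfLe (le_sup_left : R ≤ Z)).symm
  have h2 := smul_mem_of_smul_H1 G I hI N' (fun y n hy => Subtype.ext (torsionFree_eq_zero₁ G I hI fun a ha =>
      congrArg Subtype.val (hy a ha)))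
    (isPowerTorsion_of_gens G I hI fun y g hg => by
      obtain ⟨⟨w, hw⟩, rfl⟩ := Submodule.mkQ_surjective _ y
      obtain ⟨r, hr, s, hs, rfl⟩ := Submodule.mem_sup.1 hw
      obtain ⟨a, rfl⟩ := Submodule.mem_span_singleton.1 hs
      refine ⟨k, (Submodule.Quotient.mk_eq_zero _).2 ?_⟩
      show g ^ k • (r + a • dbar) ∈ R
      rw [smul_add, smul_comm (g ^ k) a]
      exact R.add_mem (R.smul_mem _ hr) (R.smul_mem _ (hl ⟨g, hg⟩)))
    c (smul_H_of_retract I 1 c e hR) ⟨dbar, Submodule.mem_sup_right (Submodule.mem_span_singleton_self _)⟩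
  obtain ⟨y, hy⟩ : c • dbar ∈ R := h2
  obtain ⟨K, b, rfl⟩ := exists_frac_family G y
  have h3 : ∀ g h : G, ∃ e : ℕ, (g.1 * h.1) ^ e • (g.1 * h.1) ^ K • c • d g h =
      (g.1 * h.1) ^ e • (g.1 * h.1) ^ k • (g.1 ^ K • b h - h.1 ^ K • b g) := fun g h => by
    have h4 : δ G (fun g => frac g.1 K (b g)) g h = c • frac (g.1 * h.1) k (d g h) := congrFun (congrFun hy g) h
    rw [δ_frac, show c • frac (g.1 * h.1) k (d g h) = frac (g.1 * h.1) k (c • d g h) from LocalizedModule.smul'_mk _ _ _,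
      frac_eq_frac] at h4
    obtain ⟨e, he⟩ := h4
    exact ⟨e, he.symm⟩
  choose e he using h3
  let E := Finset.univ.sup fun p : G × G => e p.1 p.2
  refine ⟨K + E, fun g => g.1 ^ E • b g, fun g h => ?_⟩
  obtain ⟨t, ht⟩ := Nat.exists_eq_add_of_le (Finset.le_sup (f := fun p : G × G => e p.1 p.2) (Finset.mem_univ (g, h)))
  have h0 : (g.1 * h.1) ^ E • (g.1 * h.1) ^ K • c • d g h =
      (g.1 * h.1) ^ E • (g.1 * h.1) ^ k • (g.1 ^ K • b h - h.1 ^ K • b g) := by
    rw [show E = t + e g h from ht.trans (add_comm _ _), pow_add, mul_smul, he, ← mul_smul, ← pow_add]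
  rw [pow_add (g.1 * h.1) K E, mul_comm (_ ^ K), mul_smul, h0, smul_comm]
  congr 1
  rw [smul_sub, smul_smul, smul_smul, smul_smul, smul_smul, mul_pow, pow_add, pow_add]
  congr 2 <;> ring

end LocCoh

end Groth.Agent.Pi1Ext.CechTors
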