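import Groth.Agent.Pi1Ext.ComplModel
import Groth.Agent.Hensel.HenselizationLoc
import Groth.Agent.SmallFlat.Misc
import Groth.Agent.EtLoc7.Basic

/-! Étaleness read off the completed local ring. -/

set_option autoImplicit false
set_option linter.style.haveILetI false
universe u

open IsLocalRing TensorProduct

namespace Groth.Agent.Pi1Ext.ComplEtale

open ComplModel

set_option backward.isDefEq.respectTransparency false
set_option backward.isDefEq.respectTransparency.types false
attribute [local instance] Algebra.TensorProduct.rightAlgebra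

/-- Separability transfers down along an embedding over isomorphic base fields. -/
theorem isSeparable_of_tower {k k' K K' : Type u} [Field k] [Field k'] [Field K] [Field K']
    [Algebra k K] [Algebra k' K'] [Algebra k k'] [Algebra K K'] [Algebra k K']
    [IsScalarTower k k' K'] [IsScalarTower k K K'] (hk : Function.Bijective (algebraMap k k'))
    [Algebra.IsSeparable k' K'] : Algebra.IsSeparable k K := by
  haveI : Algebra.IsSeparable k K' := Algebra.IsSeparable.of_equiv_equiv
    (RingEquiv.ofBijective _ hk).symm (RingEquiv.refl K') (RingHom.ext fun x => by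
      obtain ⟨y, rfl⟩ := hk.2 x
      show algebraMap k K' ((RingEquiv.ofBijective _ hk).symm (algebraMap k k' y)) = algebraMap k' K' _
      rw [show (RingEquiv.ofBijective _ hk).symm (algebraMap k k' y) = y from
        (RingEquiv.ofBijective _ hk).symm_apply_apply y, ← IsScalarTower.algebraMap_apply])
  exact Algebra.isSeparable_tower_bot_of_isSeparable k K K'

variable {A : Type u} [CommRing A] [IsLocalRing A] [IsNoetherianRing A] {S : Type u} [CommRing S] [Algebra A S]
  [Algebra.FiniteType A S] (q : Ideal S) [q.IsPrime] (hqm : q.comap (algebraMap A S) = maximalIdeal A)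
  [Algebra.QuasiFiniteAt A q]

include hqm in
theorem isEtaleAt_of_etale_completion [Algebra.Etale (Ac A) (Cc q hqm)] : Algebra.IsEtaleAt A q := by
  haveI : IsNoetherianRing S := Algebra.FiniteType.isNoetherianRing A S
  haveI := finite q hqm
  let C := Localization.AtPrime q
  let C' := Cc q hqm
  letI := (toCc q hqm).toAlgebra
  haveI : IsLocalHom (algebraMap C C') := toCc_isLocalHom q hqm
  haveI : Module.Flat C C' := toCc_flat q hqm
  haveI : Module.FaithfullyFlat C C' := Module.FaithfullyFlat.of_flat_of_isLocalHom (A := C) (B := C')
  haveI : IsScalarTower S C C' := IsScalarTower.of_algebraMap_eq fun s => by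
    rw [RingHom.algebraMap_toAlgebra, toCc, Localization.localRingHom_to_map,
      IsScalarTower.algebraMap_apply S (Ac A ⊗[A] S) C']
  haveI : IsScalarTower A C C' := IsScalarTower.to₁₃₄ A S C C'
  haveI : Module.Flat A (Ac A) := AdicCompletion.flat_of_isNoetherian _
  haveI : Algebra.Smooth (Ac A) C' := inferInstanceAs (Algebra.Smooth (Ac A) (Cc q hqm))
  haveI : Module.Flat (Ac A) C' := Algebra.Smooth.flat (Ac A) C'
  haveI : IsLocalHom (algebraMap (Ac A) C') := ⟨fun a ha => by
    by_contra hn
    obtain ⟨P, hP, hPe⟩ : ∃ P : Ideal C', P.IsPrime ∧ P.comap (algebraMap (Ac A) C') = maximalIdeal (Ac A) :=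
      ⟨maximalIdeal C', inferInstance, IsLocalRing.eq_maximalIdeal
        (Ideal.isMaximal_comap_of_isIntegral_of_isMaximal (R := Ac A) (S := C') (maximalIdeal C'))⟩
    exact hP.ne_top (Ideal.eq_top_of_isUnit_mem _ (hPe.ge hn : a ∈ P.comap _) ha)⟩
  haveI : Module.Flat A C' := Module.Flat.trans A (Ac A) C'
  haveI : Module.Flat A C := Groth.Agent.SmallFlat.flat_of_faithfullyFlat_tower A C C'
  haveI : IsLocalHom (algebraMap A C) := ⟨fun a ha => by
    have : IsUnit (algebraMap (Ac A) C' (algebraMap A (Ac A) a)) := by
      rw [← IsScalarTower.algebraMap_apply, IsScalarTower.algebraMap_apply A C C']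
      exact ha.map _
    exact isUnit_of_map_unit _ _ (isUnit_of_map_unit (algebraMap (Ac A) C') _ this)⟩
  haveI : Algebra.EssFiniteType A C := Algebra.EssFiniteType.comp A S C
  have hm : (maximalIdeal A).map (algebraMap A C) = maximalIdeal C := by
    rw [← Ideal.comap_map_eq_self_of_faithfullyFlat (B := C') ((maximalIdeal A).map (algebraMap A C)),
      Ideal.map_map, ← IsScalarTower.algebraMap_eq, IsScalarTower.algebraMap_eq A (Ac A) C', ← Ideal.map_map,
      ← AdicCompletion.maximalIdeal_eq_map, Algebra.FormallyUnramified.map_maximalIdeal (R := Ac A) (S := C'),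
      maximalIdeal_comap]
  haveI : IsLocalHom (algebraMap A C') := by
    rw [IsScalarTower.algebraMap_eq A C C']; exact RingHom.isLocalHom_comp _ _
  haveI : IsScalarTower (ResidueField A) (ResidueField (Ac A)) (ResidueField C') :=
    IsScalarTower.of_algebraMap_eq fun x => by
      obtain ⟨a, rfl⟩ := residue_surjective x
      show residue C' (algebraMap A C' a) = residue C' (algebraMap (Ac A) C' (algebraMap A (Ac A) a))
      rw [← IsScalarTower.algebraMap_apply]
  haveI : IsScalarTower (ResidueField A) (ResidueField C) (ResidueField C') :=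
    IsScalarTower.of_algebraMap_eq fun x => by
      obtain ⟨a, rfl⟩ := residue_surjective x
      show residue C' (algebraMap A C' a) = residue C' (algebraMap C C' (algebraMap A C a))
      rw [← IsScalarTower.algebraMap_apply]
  haveI : Algebra.IsSeparable (ResidueField A) (ResidueField C) :=
    isSeparable_of_tower (k' := ResidueField (Ac A)) (K' := ResidueField C')
      (AdicCompletion.residueField_map_bijective A)
  haveI : Algebra.FormallyUnramified A C := Algebra.FormallyUnramified.of_map_maximalIdeal hm
  exact Groth.Agent.EtLoc7.formallyEtale_of_formallyUnramified A C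

include hqm in
omit [Algebra.FiniteType A S] [Algebra.QuasiFiniteAt A q] in
/-- Primes of the completed local ring other than the maximal one lie over proper generisations. -/
theorem under_lt (P : @Ideal (Cc q hqm) CommRing.toCommSemiring.toSemiring) [P.IsPrime]
    (hP : P ≠ maximalIdeal (Cc q hqm)) :
    (P.comap (algebraMap (Ac A ⊗[A] S) (Cc q hqm))).comap (algebraMap S (Ac A ⊗[A] S)) < q := by
  refine lt_of_le_of_ne ?_ fun he => hP ?_
  · refine le_trans (Ideal.comap_mono ?_) (Q_under q hqm).le
    exact (Ideal.comap_mono (IsLocalRing.le_maximalIdeal_of_isPrime P)).trans_eq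
      (Localization.AtPrime.under_maximalIdeal (I := Q q hqm))
  · refine ((maximalIdeal.isMaximal _).eq_of_le (Ideal.IsPrime.ne_top inferInstance) ?_).symm
    have hQ : (Q q hqm).map (algebraMap (Ac A ⊗[A] S) (Cc q hqm)) ≤ P := by
      refine (Ideal.map_mono (Q_eq_map q hqm).le).trans ?_
      rw [Ideal.map_map, Ideal.map_le_iff_le_comap, ← Ideal.comap_comap]
      exact he.ge
    rwa [Localization.AtPrime.map_eq_maximalIdeal] at hQ

/-- Flatness passes to a further localization. -/
theorem flat_of_le {R T L C : Type u} [CommRing R] [CommRing T] [CommRing L] [CommRing C] [Algebra R T]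
    [Algebra R L] [Algebra T L] [IsScalarTower R T L] [Algebra R C] [Algebra T C] [IsScalarTower R T C]
    (M N : Submonoid T) (h : M ≤ N) [IsLocalization M L] [IsLocalization N C] [Module.Flat R L] :
    Module.Flat R C := by
  letI : Algebra L C := IsLocalization.localizationAlgebraOfSubmonoidLe L C M N h
  haveI : IsScalarTower T L C := IsLocalization.localization_isScalarTower_of_submonoid_le L C M N h
  haveI : IsScalarTower R L C := IsScalarTower.to₁₃₄ R T L C
  haveI : IsLocalization (N.map (algebraMap T L)) C := IsLocalization.isLocalization_of_submonoid_le L C M N h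
  haveI : Module.Flat L C := IsLocalization.flat C (N.map (algebraMap T L))
  exact Module.Flat.trans R L C

include hqm in
omit [Algebra.FiniteType A S] [Algebra.QuasiFiniteAt A q] in
/-- The completed local ring of a flat point is flat. -/
theorem flat_completion [Module.Flat A (Localization.AtPrime q)] : Module.Flat (Ac A) (Cc q hqm) := by
  let M : Submonoid (Ac A ⊗[A] S) := q.primeCompl.map (Algebra.TensorProduct.includeRight (R := A) (A := Ac A))
  let e : Ac A ⊗[A] Localization.AtPrime q ≃ₐ[Ac A] Localization M :=
    IsLocalization.tensorProductEquivOfMapIncludeRight A (Ac A) q.primeCompl (Localization.AtPrime q) (Localization M)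
  haveI : Module.Flat (Ac A) (Localization M) := Module.Flat.of_linearEquiv e.symm.toLinearEquiv
  have hM : M ≤ (Q q hqm).primeCompl := by
    rintro _ ⟨s, hs, rfl⟩ h
    exact hs ((Q_under q hqm).le h)
  exact flat_of_le (R := Ac A) (T := Ac A ⊗[A] S) (L := Localization M) (C := Cc q hqm) M (Q q hqm).primeCompl hM

end Groth.Agent.Pi1Ext.ComplEtale
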