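import Groth.Agent.Pi1Ext.RegPurity
import Groth.Agent.Hensel.QuasiFiniteSplit
import Groth.Agent.BrnchLib.Compl
import Groth.Agent.SkDesc.Basic
import Mathlib

/-! The completed local ring at a quasi-finite point, as a finite algebra over the completion of the base. -/

set_option autoImplicit false
set_option linter.style.haveILetI false
universe u

open IsLocalRing TensorProduct

namespace Groth.Agent.Pi1Ext.ComplModel

set_option backward.isDefEq.respectTransparency false
set_option backward.isDefEq.respectTransparency.types false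

attribute [local instance] Algebra.TensorProduct.rightAlgebra

variable {A : Type u} [CommRing A] [IsLocalRing A] [IsNoetherianRing A] {S : Type u} [CommRing S] [Algebra A S]

/-- The completion of the base. -/
abbrev Ac (A : Type u) [CommRing A] [IsLocalRing A] := AdicCompletion (maximalIdeal A) A

theorem flat_right : Module.Flat S (Ac A ⊗[A] S) := by
  let e : S ⊗[A] Ac A ≃ₗ[S] Ac A ⊗[A] S :=
    { (Algebra.TensorProduct.comm A S (Ac A)).toRingEquiv.toAddEquiv with
      map_smul' := fun s x => by
        show Algebra.TensorProduct.comm A S (Ac A) (s • x) = s • Algebra.TensorProduct.comm A S (Ac A) x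
        induction x using TensorProduct.induction_on with
        | zero => simp
        | tmul a b => simp [TensorProduct.smul_tmul', Algebra.smul_def, Algebra.TensorProduct.right_algebraMap_apply]
        | add a b ha hb => rw [smul_add, _root_.map_add, _root_.map_add, ha, hb, smul_add] }
  exact Module.Flat.of_linearEquiv e.symm

theorem exists_sub_mem_map (q : Ideal S) (hqm : (maximalIdeal A).map (algebraMap A S) ≤ q)
    (z : Ac A ⊗[A] S) : ∃ s : S, z - algebraMap S _ s ∈ q.map (algebraMap S (Ac A ⊗[A] S)) := by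
  induction z using TensorProduct.induction_on with
  | zero => exact ⟨0, by rw [map_zero, sub_zero]; exact zero_mem _⟩
  | tmul x s =>
    obtain ⟨r, hr⟩ := (AdicCompletion.residueField_map_bijective A).2 (residue _ x)
    obtain ⟨r, rfl⟩ := residue_surjective r
    rw [IsLocalRing.ResidueField.map_residue] at hr
    have hd : x - algebraMap A (Ac A) r ∈ maximalIdeal (Ac A) := Ideal.Quotient.eq.1 hr.symm
    rw [AdicCompletion.maximalIdeal_eq_map] at hd
    refine ⟨r • s, ?_⟩
    have he : x ⊗ₜ[A] s - algebraMap S (Ac A ⊗[A] S) (r • s) =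
        algebraMap (Ac A) (Ac A ⊗[A] S) (x - algebraMap A (Ac A) r) * algebraMap S (Ac A ⊗[A] S) s := by
      rw [Algebra.TensorProduct.algebraMap_apply, Algebra.TensorProduct.right_algebraMap_apply,
        Algebra.TensorProduct.right_algebraMap_apply, Algebra.TensorProduct.tmul_mul_tmul, mul_one, one_mul,
        Algebra.algebraMap_self, RingHom.id_apply, TensorProduct.sub_tmul, ← TensorProduct.smul_tmul,
        Algebra.algebraMap_eq_smul_one]
    rw [he]
    refine Ideal.mul_mem_right _ _ ?_
    have h2 := Ideal.mem_map_of_mem (algebraMap (Ac A) (Ac A ⊗[A] S)) hd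
    rw [Ideal.map_map, ← IsScalarTower.algebraMap_eq, IsScalarTower.algebraMap_eq A S (Ac A ⊗[A] S),
      ← Ideal.map_map] at h2
    exact Ideal.map_mono hqm h2
  | add z w hz hw =>
    obtain ⟨s, hs⟩ := hz
    obtain ⟨t, ht⟩ := hw
    exact ⟨s + t, by rw [_root_.map_add, add_sub_add_comm]; exact add_mem hs ht⟩

/-- The prime over `q` in the completed algebra. -/
noncomputable def toRes (q : Ideal S) [q.IsPrime] (hqm : q.comap (algebraMap A S) = maximalIdeal A) :
    Ac A ⊗[A] S →ₐ[A] q.ResidueField :=
  Algebra.TensorProduct.lift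
    ((Ideal.Quotient.liftₐ (maximalIdeal A) (Algebra.ofId A q.ResidueField) fun a ha => by
      rw [Algebra.ofId_apply, IsScalarTower.algebraMap_apply A S q.ResidueField,
        Ideal.algebraMap_residueField_eq_zero]
      exact Ideal.mem_comap.1 (hqm ▸ ha)).comp (AdicCompletion.evalOneₐ (maximalIdeal A)))
    (IsScalarTower.toAlgHom A S q.ResidueField) fun _ _ => Commute.all _ _

/-- The prime over `q`. -/
noncomputable def Q (q : Ideal S) [q.IsPrime] (hqm : q.comap (algebraMap A S) = maximalIdeal A) :
    Ideal (Ac A ⊗[A] S) :=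
  RingHom.ker (toRes q hqm).toRingHom

variable (q : Ideal S) [q.IsPrime] (hqm : q.comap (algebraMap A S) = maximalIdeal A)

instance : (Q q hqm).IsPrime := RingHom.ker_isPrime _

theorem Q_under : (Q q hqm).comap (algebraMap S (Ac A ⊗[A] S)) = q := by
  ext s
  show toRes q hqm (1 ⊗ₜ s) = 0 ↔ _
  rw [toRes, Algebra.TensorProduct.lift_tmul, map_one, one_mul]
  exact Ideal.algebraMap_residueField_eq_zero

theorem Q_eq_map : Q q hqm = q.map (algebraMap S (Ac A ⊗[A] S)) := by
  have hle : q.map (algebraMap S (Ac A ⊗[A] S)) ≤ Q q hqm :=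
    Ideal.map_le_iff_le_comap.2 (Q_under q hqm).ge
  refine le_antisymm (fun z hz => ?_) hle
  obtain ⟨s, hs⟩ := exists_sub_mem_map q (Ideal.map_le_iff_le_comap.2 hqm.ge) z
  have hsQ : s ∈ q := by
    rw [← Q_under q hqm, Ideal.mem_comap, ← sub_sub_cancel z (algebraMap S _ s)]
    exact sub_mem hz (hle hs)
  rw [← sub_add_cancel z (algebraMap S _ s)]
  exact add_mem hs (Ideal.mem_map_of_mem _ hsQ)

theorem Q_over : (Q q hqm).comap (algebraMap (Ac A) (Ac A ⊗[A] S)) = maximalIdeal (Ac A) := by
  refine ((maximalIdeal.isMaximal (Ac A)).eq_of_le (Ideal.IsPrime.ne_top inferInstance) ?_).symm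
  rw [AdicCompletion.maximalIdeal_eq_map, Ideal.map_le_iff_le_comap, Ideal.comap_comap,
    ← IsScalarTower.algebraMap_eq, IsScalarTower.algebraMap_eq A S (Ac A ⊗[A] S), ← Ideal.comap_comap,
    Q_under, hqm]

instance : (Q q hqm).LiesOver (maximalIdeal (Ac A)) := ⟨(Q_over q hqm).symm⟩

/-- The completed local ring. -/
abbrev Cc : Type u := Localization.AtPrime (Q q hqm)

/-- The comparison map. -/
noncomputable def toCc : Localization.AtPrime q →+* Cc q hqm :=
  Localization.localRingHom q (Q q hqm) (algebraMap S (Ac A ⊗[A] S)) (Q_under q hqm).symm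

theorem toCc_flat : RingHom.Flat (R := Localization.AtPrime q) (S := Cc q hqm) (toCc q hqm) := by
  haveI := flat_right (A := A) (S := S)
  letI := (toCc q hqm).toAlgebra
  haveI : IsScalarTower S (Localization.AtPrime q) (Cc q hqm) := IsScalarTower.of_algebraMap_eq fun s => by
    rw [RingHom.algebraMap_toAlgebra, toCc, Localization.localRingHom_to_map,
      IsScalarTower.algebraMap_apply S (Ac A ⊗[A] S) (Cc q hqm)]
  haveI : Module.Flat S (Cc q hqm) := Module.Flat.trans S (Ac A ⊗[A] S) _
  exact (Module.flat_iff_of_isLocalization (Localization.AtPrime q) q.primeCompl (Cc q hqm)).2 inferInstance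

theorem toCc_isLocalHom : IsLocalHom (toCc q hqm) := Localization.isLocalHom_localRingHom _ _ _ _

theorem map_maximalIdeal_toCc : (maximalIdeal (Localization.AtPrime q)).map (toCc q hqm) = maximalIdeal (Cc q hqm) := by
  rw [← Localization.AtPrime.map_eq_maximalIdeal, Ideal.map_map,
    show (toCc q hqm).comp (algebraMap S (Localization.AtPrime q)) =
      (algebraMap (Ac A ⊗[A] S) (Cc q hqm)).comp (algebraMap S (Ac A ⊗[A] S)) from
      RingHom.ext fun s => Localization.localRingHom_to_map q (Q q hqm) (algebraMap S (Ac A ⊗[A] S)) (Q_under q hqm).symm s,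
    ← Ideal.map_map, ← Q_eq_map q hqm, Localization.AtPrime.map_eq_maximalIdeal]

theorem finite [Algebra.FiniteType A S] [Algebra.QuasiFiniteAt A q] : Module.Finite (Ac A) (Cc q hqm) := by
  haveI := Groth.Agent.BrnchLib.henselianLocalRing_completion A
  haveI : Algebra.QuasiFiniteAt (Ac A) (Q q hqm) :=
    Algebra.QuasiFiniteAt.baseChange q (Q q hqm) (Q_under q hqm).symm
  exact Groth.Agent.Hensel.exists_finite_localization_of_quasiFiniteAt (Ac A) (Q q hqm)

theorem depth_eq [IsNoetherianRing S] [IsNoetherianRing (Cc q hqm)] :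
    LocCoh.depth (Cc q hqm) (Cc q hqm) = LocCoh.depth (Localization.AtPrime q) (Localization.AtPrime q) := by
  letI := (toCc q hqm).toAlgebra
  haveI : IsLocalHom (algebraMap (Localization.AtPrime q) (Cc q hqm)) := toCc_isLocalHom q hqm
  haveI : Module.Flat (Localization.AtPrime q) (Cc q hqm) := toCc_flat q hqm
  refine SkDesc.depth_eq (Cc q hqm) fun P hP hle => le_antisymm (IsLocalRing.le_maximalIdeal hP.ne_top) ?_
  rwa [RingHom.algebraMap_toAlgebra, map_maximalIdeal_toCc] at hle

/-- Étaleness at a prime of a localization. -/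
theorem isEtaleAt_localization {R T C : Type u} [CommRing R] [CommRing T] [CommRing C] [Algebra R T]
    [Algebra R C] [Algebra T C] [IsScalarTower R T C] (M : Submonoid T) [IsLocalization M C] (P : Ideal C)
    [P.IsPrime] (P' : Ideal T) [P'.IsPrime] (hPP : P' = P.comap (algebraMap T C)) [Algebra.IsEtaleAt R P'] :
    Algebra.IsEtaleAt R P := by
  subst hPP
  haveI : IsLocalization.AtPrime (Localization.AtPrime P) (P.comap (algebraMap T C)) :=
    IsLocalization.isLocalization_isLocalization_atPrime_isLocalization M (Localization.AtPrime P) P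
  exact Algebra.FormallyEtale.of_equiv ((IsLocalization.algEquiv (P.comap (algebraMap T C)).primeCompl
    (Localization.AtPrime (P.comap (algebraMap T C))) (Localization.AtPrime P)).restrictScalars R)

/-- Étaleness at a prime propagates to the primes above it. -/
theorem isEtaleAt_of_isEtaleAt [Algebra.FiniteType A S] (P : @Ideal (Cc q hqm) CommRing.toCommSemiring.toSemiring) [P.IsPrime]
    (h : ∀ (s : Ideal S) (_ : s.IsPrime),
      s = (P.comap (algebraMap (Ac A ⊗[A] S) (Cc q hqm))).comap (algebraMap S (Ac A ⊗[A] S)) →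
        Algebra.IsEtaleAt A s) : Algebra.IsEtaleAt (A := Cc q hqm) (Ac A) P := by
  haveI : Algebra.FinitePresentation A S := Algebra.FinitePresentation.of_finiteType.mp inferInstance
  let P' : Ideal (Ac A ⊗[A] S) := P.comap (algebraMap (Ac A ⊗[A] S) (Cc q hqm))
  haveI : P'.IsPrime := Ideal.comap_isPrime _ _
  let s : Ideal S := P'.comap (algebraMap S (Ac A ⊗[A] S))
  haveI : s.IsPrime := Ideal.comap_isPrime _ _
  haveI : Algebra.IsEtaleAt A s := h s inferInstance rfl
  obtain ⟨f, hf, hfe⟩ := Algebra.exists_etale_of_isEtaleAt (R := A) s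
  haveI := hfe
  let f' : Ac A ⊗[A] S := (1 : Ac A) ⊗ₜ[A] f
  have hP' : Algebra.IsEtaleAt (Ac A) P' := by
    let e : Ac A ⊗[A] Localization.Away f ≃ₐ[Ac A] Localization.Away f' :=
      IsLocalization.Away.tensorProductEquivTMulRight A (Ac A) f (Localization.Away f)
    haveI : Algebra.Etale (Ac A) (Localization.Away f') := Algebra.Etale.of_equiv e
    exact (Algebra.basicOpen_subset_etaleLocus_iff_etale (R := Ac A) (f := f')).2 inferInstance
      (show f' ∉ (⟨P', inferInstance⟩ : PrimeSpectrum _).asIdeal from hf)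
  haveI := hP'
  exact isEtaleAt_localization (R := Ac A) (T := Ac A ⊗[A] S) (Q q hqm).primeCompl P P' rfl

end Groth.Agent.Pi1Ext.ComplModel
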