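import Groth.Agent.Pi1Ext.RegPurity
import Groth.Agent.Pi1Ext.ComplModel
import Mathlib

/-! Gluing a finite algebra over the completion with one over the punctured spectrum. -/

set_option autoImplicit false
set_option linter.style.haveILetI false
set_option linter.unusedSectionVars false
universe u

open IsLocalRing TensorProduct

namespace Groth.Agent.Pi1Ext.ComplGlue

open RegPurity ComplModel

variable {A : Type u} [CommRing A] [IsLocalRing A] [IsNoetherianRing A]

/-- A uniform exponent for finitely many elements. -/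
theorem exists_uniform {M : Type*} [AddCommGroup M] [Module A M] (T : Submodule A M) (s : Finset M)
    (h : ∀ x ∈ s, ∀ g ∈ maximalIdeal A, ∃ n : ℕ, g ^ n • x ∈ T) :
    ∃ N : ℕ, ∀ x ∈ s, ∀ μ ∈ maximalIdeal A ^ N, μ • x ∈ T := by
  classical
  let J : Ideal A := s.inf fun x => T.comap (LinearMap.toSpanSingleton A M x)
  have hJ : maximalIdeal A ≤ J.radical := fun g hg => by
    have : ∃ n : ℕ, ∀ x ∈ s, g ^ n • x ∈ T := by
      choose n hn using fun x : s => h x.1 x.2 g hg
      refine ⟨Finset.univ.sup n, fun x hx => ?_⟩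
      obtain ⟨d, hd⟩ := Nat.exists_eq_add_of_le (Finset.le_sup (f := n) (Finset.mem_univ ⟨x, hx⟩))
      rw [hd, pow_add, mul_comm, mul_smul]
      exact T.smul_mem _ (hn ⟨x, hx⟩)
    obtain ⟨n, hn⟩ := this
    exact ⟨n, (Finset.le_inf (a := Ideal.span {g ^ n}) fun x hx => by
      rw [Ideal.span_le, Set.singleton_subset_iff]; exact hn x hx) (Ideal.mem_span_singleton_self _)⟩
  obtain ⟨N, hN⟩ := Ideal.exists_pow_le_of_le_radical_of_fg hJ (IsNoetherian.noetherian _)
  exact ⟨N, fun x hx μ hμ => (Finset.inf_le (f := fun x => T.comap (LinearMap.toSpanSingleton A M x)) hx) (hN hμ)⟩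

/-- Approximation in the completion. -/
theorem exists_approx (N : ℕ) (a : Ac A) :
    ∃ r : A, a - algebraMap A (Ac A) r ∈ (maximalIdeal A ^ N).map (algebraMap A (Ac A)) := by
  obtain ⟨r, hr⟩ := Submodule.Quotient.mk_surjective _ (a.1 N)
  refine ⟨r, ?_⟩
  rw [← Submodule.restrictScalars_mem A, ← Ideal.smul_top_eq_map,
    AdicCompletion.pow_smul_top_eq_ker_eval (maximalIdeal A).fg_of_isNoetherianRing,
    AdicCompletion.algebraMap_apply]
  simp only [LinearMap.mem_ker, _root_.map_sub, sub_eq_zero]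
  exact hr.symm

section

variable (C : Type u) [CommRing C] [Algebra A C] [Module.Finite A C]
  (B' : Type u) [CommRing B'] [Algebra (Ac A) B'] [Algebra A B'] [IsScalarTower A (Ac A) B']
  [Module.Finite (Ac A) B']
  {R' : Type u} [CommRing R'] [Algebra (Ac A) R']
  (f : Ac A ⊗[A] C →ₐ[Ac A] R') (h : B' →ₐ[Ac A] R')

/-- A product of localizations of `C` over generators of the maximal ideal. -/
abbrev Loc (G : Finset A) : Type u := ∀ g : G, Localization.Away (algebraMap A C g.1)

/-- The structure map. -/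
noncomputable def diag (G : Finset A) : C →ₐ[A] Loc C G :=
  Pi.algHom A _ fun g => IsScalarTower.toAlgHom A C (Localization.Away (algebraMap A C g.1))

theorem diag_eq_zero {G : Finset A} (hG : Ideal.span (G : Set A) = maximalIdeal A) {c : C}
    (hc : diag C G c = 0) {g : A} (hg : g ∈ maximalIdeal A) : ∃ n : ℕ, g ^ n • c = 0 := by
  let J : Ideal A := LinearMap.ker (LinearMap.toSpanSingleton A C c)
  have hJ : maximalIdeal A ≤ J.radical := by
    rw [← hG, Ideal.span_le]
    intro g₀ hg₀
    have h0 : algebraMap C (Localization.Away (algebraMap A C g₀)) c = 0 := congrFun hc ⟨g₀, hg₀⟩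
    obtain ⟨⟨_, n, rfl⟩, hn⟩ := (IsLocalization.map_eq_zero_iff (Submonoid.powers (algebraMap A C g₀)) _ c).1 h0
    refine ⟨n, ?_⟩
    show g₀ ^ n • c = 0
    rw [Algebra.smul_def, _root_.map_pow]
    exact hn
  obtain ⟨n, hn⟩ := hJ hg
  exact ⟨n, hn⟩

theorem exists_descent (hf : ∀ g ∈ maximalIdeal (Ac A), IsoAway f g)
    (hh : ∀ g ∈ maximalIdeal (Ac A), IsoAway h g) :
    ∃ (B : Type u) (_ : CommRing B) (_ : Algebra A B) (_ : Module.Finite A B)
      (_ : Ac A ⊗[A] B ≃ₐ[Ac A] B')
      (R : Type u) (_ : CommRing R) (_ : Algebra A R) (_ : Module.Finite A R) (u : C →ₐ[A] R) (v : B →ₐ[A] R),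
      (∀ g ∈ maximalIdeal A, IsoAway u g) ∧ ∀ g ∈ maximalIdeal A, IsoAway v g := by
  classical
  obtain ⟨G, hG⟩ := IsNoetherian.noetherian (maximalIdeal A)
  have hGm : ∀ g ∈ G, g ∈ maximalIdeal A := fun g hg => hG ▸ Ideal.subset_span hg
  have hm' : ∀ g ∈ maximalIdeal A, algebraMap A (Ac A) g ∈ maximalIdeal (Ac A) := fun g hg => by
    rw [AdicCompletion.maximalIdeal_eq_map]; exact Ideal.mem_map_of_mem _ hg
  haveI := LC.Canon.isNoetherianRing_completion (R := A)
  haveI : Module.Flat A (Ac A) := AdicCompletion.flat_of_isNoetherian _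
  haveI : IsLocalHom (algebraMap A (Ac A)) := inferInstance
  haveI : Module.FaithfullyFlat A (Ac A) := Module.FaithfullyFlat.of_flat_of_isLocalHom
  let L := Loc C G
  let dg := diag C G
  let ι' : Ac A ⊗[A] C →ₐ[Ac A] Ac A ⊗[A] L := Algebra.TensorProduct.map (AlgHom.id _ _) dg
  let pr : ∀ g : G, Ac A ⊗[A] L →ₐ[Ac A] Ac A ⊗[A] Localization.Away (algebraMap A C g.1) :=
    fun g => Algebra.TensorProduct.map (AlgHom.id _ _) (Pi.evalAlgHom A _ g)
  have hpr : ∀ z, (∀ g, pr g z = 0) → z = 0 := fun z hz => by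
    refine (TensorProduct.piRight A (Ac A) (Ac A) fun g : G => Localization.Away (algebraMap A C g.1)).injective ?_
    rw [map_zero]
    funext g
    rw [TensorProduct.piRight_apply, Pi.zero_apply, ← hz g]
    clear hz
    induction z using TensorProduct.induction_on with
    | zero => simp
    | tmul a l => rfl
    | add x y hx hy => rw [_root_.map_add, Pi.add_apply, hx, hy, _root_.map_add]
  have hext : ∀ g : G, ∃ ψ : R' →ₐ[Ac A] Ac A ⊗[A] Localization.Away (algebraMap A C g.1),
      ∀ c, ψ (f c) = pr g (ι' c) := fun g => by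
    refine (hf _ (hm' _ (hGm _ g.2))).exists_extend ((pr g).comp ι') ?_
    have hu : IsUnit (algebraMap A (Localization.Away (algebraMap A C g.1)) g.1) := by
      rw [IsScalarTower.algebraMap_apply A C]
      exact IsLocalization.Away.algebraMap_isUnit (S := Localization.Away (algebraMap A C g.1)) (algebraMap A C g.1)
    rw [← IsScalarTower.algebraMap_apply A (Ac A), ← (Algebra.TensorProduct.includeRight
      (R := A) (A := Ac A) (B := Localization.Away (algebraMap A C g.1))).commutes g.1]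
    exact hu.map _
  choose ψ hψ using hext
  let e := TensorProduct.piRight A (Ac A) (Ac A) fun g : G => Localization.Away (algebraMap A C g.1)
  have he : ∀ z g, e z g = pr g z := fun z g => by
    induction z using TensorProduct.induction_on with
    | zero => simp
    | tmul a l => rfl
    | add x y hx hy => rw [_root_.map_add, Pi.add_apply, hx, hy, _root_.map_add]
  have hprρ : ∀ g x, pr g (e.symm fun g => ψ g x) = ψ g x := fun g x => by
    rw [← he, e.apply_symm_apply]
  have hext' : ∀ z z', (∀ g, pr g z = pr g z') → z = z' := fun z z' hz =>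
    sub_eq_zero.1 (hpr _ fun g => by rw [_root_.map_sub, hz, sub_self])
  let ρ : R' →ₐ[Ac A] Ac A ⊗[A] L :=
    { toFun := fun x => e.symm fun g => ψ g x
      map_one' := hext' _ _ fun g => by rw [hprρ, map_one, map_one]
      map_mul' := fun x y => hext' _ _ fun g => by rw [hprρ, map_mul, map_mul, hprρ, hprρ]
      map_zero' := hext' _ _ fun g => by rw [hprρ, map_zero, map_zero]
      map_add' := fun x y => hext' _ _ fun g => by
        rw [hprρ, _root_.map_add, _root_.map_add, hprρ, hprρ]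
      commutes' := fun a => hext' _ _ fun g => by rw [hprρ, AlgHom.commutes, AlgHom.commutes] }
  have hρf : ∀ c, ρ (f c) = ι' c := fun c => hext' _ _ fun g => (hprρ g (f c)).trans (hψ g c)
  let φ : B' →ₐ[Ac A] Ac A ⊗[A] L := ρ.comp h
  -- (b): images of `C` are eventually images of `B'`
  have hb : ∀ (g : A), g ∈ maximalIdeal A → ∀ c : C, ∃ (n : ℕ) (b : B'),
      φ b = (1 : Ac A) ⊗ₜ[A] (g ^ n • dg c) := fun g hg c => by
    obtain ⟨n, b, hb⟩ := (hh _ (hm' g hg)).1 (f ((1 : Ac A) ⊗ₜ[A] c))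
    refine ⟨n, b, ?_⟩
    show ρ (h b) = _
    rw [← hb, map_smul, hρf, ← _root_.map_pow, algebraMap_smul, TensorProduct.tmul_smul]
    rfl
  -- (c): images of `B'` are eventually images of `C`
  have hc : ∀ (g : A), g ∈ maximalIdeal A → ∀ b : B', ∃ (n : ℕ) (c : Ac A ⊗[A] C),
      g ^ n • φ b = ι' c := fun g hg b => by
    obtain ⟨n, c, hc⟩ := (hf _ (hm' g hg)).1 (h b)
    refine ⟨n, c, ?_⟩
    rw [← hρf, ← hc, map_smul, ← _root_.map_pow, algebraMap_smul]
    rfl
  -- (a): the kernel is torsion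
  have ha : ∀ (g : A), g ∈ maximalIdeal A → ∀ b : B', φ b = 0 → ∃ n : ℕ, g ^ n • b = 0 := fun g hg b hb0 => by
    obtain ⟨n, c, hc'⟩ := (hf _ (hm' g hg)).1 (h b)
    have hi : ι' c = 0 := by
      rw [← hρf, ← hc', map_smul, show ρ (h b) = φ b from rfl, hb0, smul_zero]
    have hz : ∀ c : Ac A ⊗[A] C, ι' c = 0 → ∃ m : ℕ, g ^ m • c = 0 := fun c hc0 => by
      have hex : Function.Exact ((LinearMap.ker dg.toLinearMap).subtype.lTensor (Ac A))
          (dg.toLinearMap.lTensor (Ac A)) := Module.Flat.lTensor_exact _ (LinearMap.exact_subtype_ker_map _)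
      have hc0' : dg.toLinearMap.lTensor (Ac A) c = 0 := hc0
      obtain ⟨z, rfl⟩ := (hex c).1 hc0'
      clear hc0 hc0'
      induction z using TensorProduct.induction_on with
      | zero => exact ⟨0, by simp⟩
      | tmul a k =>
        obtain ⟨m, hm⟩ := diag_eq_zero C hG (c := k.1) k.2 hg
        refine ⟨m, ?_⟩
        rw [LinearMap.lTensor_tmul, ← TensorProduct.tmul_smul, Submodule.subtype_apply, hm, TensorProduct.tmul_zero]
      | add x y hx hy =>
        obtain ⟨m, hm⟩ := hx
        obtain ⟨m', hm'⟩ := hy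
        refine ⟨m + m', ?_⟩
        rw [_root_.map_add, smul_add, pow_add, mul_smul, mul_smul, hm', smul_zero, add_zero, ← mul_smul,
          mul_comm, mul_smul, hm, smul_zero]
    obtain ⟨m, hm⟩ := hz c hi
    have h2 : h (g ^ (m + n) • b) = 0 := by
      rw [← algebraMap_smul (Ac A) (g ^ (m + n)) b, map_smul, pow_add, map_mul, mul_smul,
        _root_.map_pow (algebraMap A (Ac A)) g n, hc', ← map_smul, algebraMap_smul, hm, map_zero]
    obtain ⟨l, hl⟩ := (hh _ (hm' g hg)).2 _ h2
    refine ⟨l + (m + n), ?_⟩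
    rw [← _root_.map_pow, algebraMap_smul, ← mul_smul, ← pow_add] at hl
    exact hl
  -- saturated lattice containing the image of `B'`
  obtain ⟨s, hs⟩ := (Module.Finite.fg_top : (⊤ : Submodule (Ac A) B').FG)
  obtain ⟨k, hk⟩ := exists_uniform ((LinearMap.range ι'.toLinearMap).restrictScalars A)
    (s.image φ) (fun x hx g hg => by
      obtain ⟨b, -, rfl⟩ := Finset.mem_image.1 hx
      obtain ⟨n, c, hc⟩ := hc g hg b
      exact ⟨n, c, hc.symm⟩)
  obtain ⟨sC, hsC⟩ := (Module.Finite.fg_top : (⊤ : Submodule A C).FG)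
  obtain ⟨j, hj⟩ := exists_uniform ((LinearMap.range φ.toLinearMap).restrictScalars A)
    (sC.image fun c => (1 : Ac A) ⊗ₜ[A] dg c) (fun x hx g hg => by
      obtain ⟨c, -, rfl⟩ := Finset.mem_image.1 hx
      obtain ⟨n, b, hb⟩ := hb g hg c
      exact ⟨n, b, hb.trans (TensorProduct.tmul_smul _ _ _)⟩)
  haveI : IsNoetherianRing B' := IsNoetherianRing.of_finite (Ac A) B'
  obtain ⟨sK, hsK⟩ := (IsNoetherian.noetherian (LinearMap.ker φ.toLinearMap) :
    (LinearMap.ker φ.toLinearMap).FG)
  obtain ⟨i, hi⟩ := exists_uniform (⊥ : Submodule A B') sK (fun x hx g hg => by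
    obtain ⟨n, hn⟩ := ha g hg x (hsK ▸ Submodule.subset_span hx : x ∈ LinearMap.ker φ.toLinearMap)
    exact ⟨n, by rw [Submodule.mem_bot]; exact hn⟩)
  have hi' : ∀ b, φ b = 0 → ∀ μ ∈ maximalIdeal A ^ i, μ • b = 0 := fun b hb0 μ hμ => by
    have hbs : b ∈ Submodule.span (Ac A) (sK : Set B') := hsK.symm ▸ hb0
    induction hbs using Submodule.span_induction with
    | mem x hx => exact (Submodule.mem_bot _).1 (hi x hx μ hμ)
    | zero => rw [smul_zero]
    | add x y _ _ hx hy =>
      have hx0 : φ x = 0 := (hsK ▸ (by assumption : x ∈ Submodule.span (Ac A) (sK : Set B')) : x ∈ LinearMap.ker φ.toLinearMap)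
      have hy0 : φ y = 0 := (hsK ▸ (by assumption : y ∈ Submodule.span (Ac A) (sK : Set B')) : y ∈ LinearMap.ker φ.toLinearMap)
      rw [smul_add, hx hx0, hy hy0, add_zero]
    | smul e x hxs hx => rw [smul_comm, hx (hsK ▸ hxs : x ∈ LinearMap.ker φ.toLinearMap), smul_zero]
  let Cb : Submodule A L := LinearMap.range dg.toLinearMap
  let Lk : Submodule A L :=
    { carrier := {l | ∀ μ ∈ maximalIdeal A ^ k, μ • l ∈ Cb}
      zero_mem' := fun μ _ => by rw [smul_zero]; exact zero_mem _
      add_mem' := fun hx hy μ hμ => by rw [smul_add]; exact add_mem (hx μ hμ) (hy μ hμ)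
      smul_mem' := fun a x hx μ hμ => by rw [smul_comm]; exact Cb.smul_mem a (hx μ hμ) }
  -- the image of `B'` comes from the lattice
  have hLk : ∀ b : B', φ b ∈ LinearMap.range (Lk.subtype.baseChange (Ac A)) := fun b => by
    suffices hgen : ∀ x ∈ s, φ x ∈ LinearMap.range (Lk.subtype.baseChange (Ac A)) by
      have hb' : b ∈ Submodule.span (Ac A) (s : Set B') := hs.symm ▸ Submodule.mem_top
      induction hb' using Submodule.span_induction with
      | mem x hx => exact hgen x hx
      | zero => rw [map_zero]; exact zero_mem _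
      | add x y _ _ hx hy => rw [_root_.map_add]; exact add_mem hx hy
      | smul e x _ hx => rw [map_smul]; exact Submodule.smul_mem _ e hx
    intro x hx
    obtain ⟨sμ, hsμ⟩ := (IsNoetherian.noetherian (maximalIdeal A ^ k) : (maximalIdeal A ^ k).FG)
    let ψ₀ : L →ₗ[A] (↥(sμ : Set A) → L ⧸ Cb) := LinearMap.pi fun μ => Cb.mkQ ∘ₗ LinearMap.lsmul A L μ.1
    have hker : LinearMap.ker ψ₀ = Lk := by
      ext l
      constructor
      · intro hl μ hμ
        rw [← hsμ] at hμ
        induction hμ using Submodule.span_induction with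
        | mem a ha => exact (Submodule.Quotient.mk_eq_zero _).1 (congrFun hl ⟨a, ha⟩)
        | zero => rw [zero_smul]; exact zero_mem _
        | add a a' _ _ h1 h2 => rw [add_smul]; exact add_mem h1 h2
        | smul a a' _ h1 => rw [smul_eq_mul, mul_smul]; exact Cb.smul_mem a h1
      · intro hl
        funext μ
        exact (Submodule.Quotient.mk_eq_zero _).2 (hl μ.1 (hsμ ▸ Submodule.subset_span μ.2))
    have hex : Function.Exact (Lk.subtype.lTensor (Ac A)) (ψ₀.lTensor (Ac A)) := by
      rw [← hker]; exact Module.Flat.lTensor_exact _ (LinearMap.exact_subtype_ker_map _)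
    have h0 : ψ₀.lTensor (Ac A) (φ x) = 0 := by
      refine (TensorProduct.piRight A (Ac A) (Ac A) fun _ : ↥(sμ : Set A) => L ⧸ Cb).injective ?_
      rw [map_zero]
      funext μ
      have hcomp : ∀ z : Ac A ⊗[A] L,
          TensorProduct.piRight A (Ac A) (Ac A) (fun _ : ↥(sμ : Set A) => L ⧸ Cb) (ψ₀.lTensor (Ac A) z) μ =
            Cb.mkQ.lTensor (Ac A) (μ.1 • z) := fun z => by
        induction z using TensorProduct.induction_on with
        | zero => simp
        | tmul a l =>
          rw [LinearMap.lTensor_tmul, TensorProduct.piRight_apply, TensorProduct.piRightHom_tmul,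
            ← TensorProduct.tmul_smul, LinearMap.lTensor_tmul]
          rfl
        | add p p' hp hp' => simp only [smul_add, _root_.map_add, Pi.add_apply, hp, hp']
      rw [hcomp, Pi.zero_apply]
      obtain ⟨c, hcx⟩ := hk (φ x) (Finset.mem_image_of_mem _ hx) μ.1 (hsμ ▸ Submodule.subset_span μ.2)
      rw [show μ.1 • φ x = dg.toLinearMap.lTensor (Ac A) c from hcx.symm, ← LinearMap.comp_apply,
        ← LinearMap.lTensor_comp, show Cb.mkQ ∘ₗ dg.toLinearMap = 0 from LinearMap.ext fun c =>
          (Submodule.Quotient.mk_eq_zero _).2 ⟨c, rfl⟩, LinearMap.lTensor_zero, LinearMap.zero_apply]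
    obtain ⟨z, hz⟩ := (hex (φ x)).1 h0
    exact ⟨z, hz⟩
  -- the fibre product
  let π₁ : B' × L →ₐ[A] B' := AlgHom.fst A B' L
  let π₂ : B' × L →ₐ[A] L := AlgHom.snd A B' L
  let B : Subalgebra A (B' × L) :=
    AlgHom.equalizer ((φ.restrictScalars A).comp π₁) (Algebra.TensorProduct.includeRight.comp π₂)
  have hB : ∀ p : B, φ p.1.1 = (1 : Ac A) ⊗ₜ[A] p.1.2 := fun p => p.2
  let μB : Ac A ⊗[A] B →ₐ[Ac A] B' :=
    Algebra.TensorProduct.lift (Algebra.ofId _ _) (π₁.comp B.val) fun _ _ => Commute.all _ _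
  have hμ : ∀ p : B, μB ((1 : Ac A) ⊗ₜ[A] p) = p.1.1 := fun p => by
    simp [μB, π₁]
  have hsurj : Function.Surjective μB := fun b => by
    have hN : ∀ (w : L), w ∈ Lk → ∀ μ ∈ maximalIdeal A ^ j * maximalIdeal A ^ k,
        ∃ b : B', φ b = (1 : Ac A) ⊗ₜ[A] (μ • w) := fun w hw μ hμ => by
      refine Submodule.mul_induction_on hμ (fun x hx y hy => ?_) (fun x y hx hy => ?_)
      ·
        obtain ⟨c, hc⟩ := hw y hy
        rw [mul_smul, ← hc, TensorProduct.tmul_smul]
        have hcs : c ∈ Submodule.span A (sC : Set C) := hsC.symm ▸ Submodule.mem_top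
        clear hc
        show x • ((1 : Ac A) ⊗ₜ[A] dg c) ∈ LinearMap.range φ.toLinearMap
        induction hcs using Submodule.span_induction with
        | mem c hc => exact hj _ (Finset.mem_image_of_mem _ hc) x hx
        | zero => rw [map_zero, TensorProduct.tmul_zero, smul_zero]; exact zero_mem _
        | add c c' _ _ h1 h2 =>
          rw [_root_.map_add, TensorProduct.tmul_add, smul_add]; exact add_mem h1 h2
        | smul a c _ h1 =>
          rw [map_smul, TensorProduct.tmul_smul, smul_comm]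
          exact ((LinearMap.range φ.toLinearMap).restrictScalars A).smul_mem a h1
      ·
        obtain ⟨b1, h1⟩ := hx
        obtain ⟨b2, h2⟩ := hy
        exact ⟨b1 + b2, by rw [_root_.map_add, h1, h2, add_smul, TensorProduct.tmul_add]⟩
    have hsplit : ∀ z : Ac A ⊗[A] Lk, ∃ β ∈ (μB.range : Subalgebra (Ac A) B'), ∃ w : L,
        Lk.subtype.baseChange (Ac A) z = φ β + (1 : Ac A) ⊗ₜ[A] w := fun z => by
      induction z using TensorProduct.induction_on with
      | zero => exact ⟨0, zero_mem _, 0, by simp⟩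
      | tmul a w =>
        obtain ⟨r, hr⟩ := exists_approx (A := A) (j + k) a
        suffices hε : ∀ ε ∈ (maximalIdeal A ^ (j + k)).map (algebraMap A (Ac A)),
            ∃ β ∈ (μB.range : Subalgebra (Ac A) B'), φ β = ε ⊗ₜ[A] (w : L) by
          obtain ⟨β, hβ, hβ'⟩ := hε _ hr
          refine ⟨β, hβ, r • (w : L), ?_⟩
          rw [hβ', LinearMap.baseChange_tmul, TensorProduct.sub_tmul, Algebra.algebraMap_eq_smul_one,
            TensorProduct.smul_tmul, sub_add_cancel]
          rfl
        intro ε hε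
        induction hε using Submodule.span_induction with
        | mem x hx =>
          obtain ⟨μ, hμ', rfl⟩ := hx
          obtain ⟨b0, hb0⟩ := hN w w.2 μ (by rw [← pow_add]; exact hμ')
          refine ⟨b0, ⟨(1 : Ac A) ⊗ₜ[A] ⟨(b0, μ • (w : L)), hb0⟩, hμ _⟩, ?_⟩
          rw [hb0, Algebra.algebraMap_eq_smul_one, TensorProduct.smul_tmul]
        | zero => exact ⟨0, zero_mem _, by rw [map_zero, TensorProduct.zero_tmul]⟩
        | add x y _ _ hx hy =>
          obtain ⟨b1, m1, h1⟩ := hx
          obtain ⟨b2, m2, h2⟩ := hy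
          exact ⟨b1 + b2, add_mem m1 m2, by rw [_root_.map_add, h1, h2, TensorProduct.add_tmul]⟩
        | smul e x _ hx =>
          obtain ⟨b1, m1, h1⟩ := hx
          exact ⟨e • b1, Subalgebra.smul_mem _ m1 e, by rw [map_smul, h1, TensorProduct.smul_tmul']⟩
      | add x y hx hy =>
        obtain ⟨b1, m1, w1, h1⟩ := hx
        obtain ⟨b2, m2, w2, h2⟩ := hy
        refine ⟨b1 + b2, add_mem m1 m2, w1 + w2, ?_⟩
        rw [_root_.map_add, h1, h2, _root_.map_add, TensorProduct.tmul_add]; abel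
    obtain ⟨z, hz⟩ := hLk b
    obtain ⟨β, ⟨y, hy⟩, w, hw⟩ := hsplit z
    refine ⟨y + (1 : Ac A) ⊗ₜ[A] ⟨(b - β, w), ?_⟩, ?_⟩
    rotate_left
    · show φ (b - β) = (1 : Ac A) ⊗ₜ[A] w
      rw [_root_.map_sub, ← hz, hw, add_sub_cancel_left]
    · rw [_root_.map_add, hμ]
      exact (congrArg (fun t => t + (b - β)) hy).trans (add_sub_cancel _ _)
  have hinj : Function.Injective μB := (injective_iff_map_eq_zero μB).2 fun z hz => by
    let p₂ : B →ₗ[A] L := (π₂.comp B.val).toLinearMap
    have hφ : ∀ z : Ac A ⊗[A] B, φ (μB z) = p₂.lTensor (Ac A) z := fun z => by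
      induction z using TensorProduct.induction_on with
      | zero => simp
      | tmul a p =>
        rw [show a ⊗ₜ[A] p = a • ((1 : Ac A) ⊗ₜ[A] p) by rw [TensorProduct.smul_tmul', smul_eq_mul, mul_one],
          map_smul, map_smul, hμ, hB, TensorProduct.smul_tmul', TensorProduct.smul_tmul']
        rfl
      | add x y hx hy => rw [_root_.map_add, _root_.map_add, hx, hy, _root_.map_add]
    have h0 : p₂.lTensor (Ac A) z = 0 := by rw [← hφ, hz, map_zero]
    have hexp : Function.Exact ((LinearMap.ker p₂).subtype.lTensor (Ac A)) (p₂.lTensor (Ac A)) :=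
      Module.Flat.lTensor_exact _ (LinearMap.exact_subtype_ker_map _)
    obtain ⟨z₀, rfl⟩ := (hexp z).1 h0
    have hK : ∀ z₀ : Ac A ⊗[A] LinearMap.ker p₂, ∃ p : LinearMap.ker p₂, z₀ = (1 : Ac A) ⊗ₜ[A] p := fun z₀ => by
      induction z₀ using TensorProduct.induction_on with
      | zero => exact ⟨0, by rw [TensorProduct.tmul_zero]⟩
      | tmul a p =>
        obtain ⟨r, hr⟩ := exists_approx (A := A) i a
        refine ⟨r • p, ?_⟩
        have hkill : ∀ μ ∈ maximalIdeal A ^ i, μ • p = 0 := fun μ hμ' => Subtype.ext (Subtype.ext (Prod.ext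
          (hi' p.1.1.1 (by rw [hB, show p.1.1.2 = 0 from p.2, TensorProduct.tmul_zero]) μ hμ')
          (by show μ • p.1.1.2 = 0; rw [show p.1.1.2 = 0 from p.2, smul_zero])))
        suffices hε : ∀ ε ∈ (maximalIdeal A ^ i).map (algebraMap A (Ac A)), ε ⊗ₜ[A] p = 0 by
          have := hε _ hr
          rw [TensorProduct.sub_tmul, Algebra.algebraMap_eq_smul_one, TensorProduct.smul_tmul, sub_eq_zero] at this
          exact this
        intro ε hε
        induction hε using Submodule.span_induction with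
        | mem x hx =>
          obtain ⟨μ, hμ', rfl⟩ := hx
          rw [Algebra.algebraMap_eq_smul_one, TensorProduct.smul_tmul, hkill μ hμ', TensorProduct.tmul_zero]
        | zero => rw [TensorProduct.zero_tmul]
        | add x y _ _ hx hy => rw [TensorProduct.add_tmul, hx, hy, add_zero]
        | smul e x _ hx => rw [← TensorProduct.smul_tmul', hx, smul_zero]
      | add x y hx hy =>
        obtain ⟨p, rfl⟩ := hx
        obtain ⟨q, rfl⟩ := hy
        exact ⟨p + q, by rw [TensorProduct.tmul_add]⟩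
    obtain ⟨p, rfl⟩ := hK z₀
    rw [LinearMap.lTensor_tmul, Submodule.subtype_apply, hμ] at hz
    have hp0 : p = 0 := Subtype.ext (Subtype.ext (Prod.ext hz p.2))
    rw [hp0, TensorProduct.tmul_zero, map_zero]
  let eB := AlgEquiv.ofBijective μB ⟨hinj, hsurj⟩
  haveI : Module.Finite (Ac A) (Ac A ⊗[A] B) := Module.Finite.equiv eB.symm.toLinearEquiv
  haveI : Module.Finite A B := Module.Finite.of_finite_tensorProduct_of_faithfullyFlat (Ac A)
  let v₀ : B →ₐ[A] L := π₂.comp B.val
  haveI : Module.Finite A v₀.range := Module.Finite.range v₀.toLinearMap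
  haveI : Module.Finite A dg.range := Module.Finite.range dg.toLinearMap
  haveI : Module.Finite A ↥(dg.range ⊔ v₀.range) := Subalgebra.finite_sup _ _
  let R := dg.range ⊔ v₀.range
  -- elements saturated with respect to the image of `C`
  let S₀ : Subalgebra A L :=
    { carrier := {x | ∀ g ∈ maximalIdeal A, ∃ (n : ℕ) (c : C), g ^ n • x = dg c}
      one_mem' := fun g _ => ⟨0, 1, by rw [pow_zero, one_smul, map_one]⟩
      mul_mem' := fun {x y} hx hy g hg => by
        obtain ⟨n, c, h1⟩ := hx g hg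
        obtain ⟨m, d, h2⟩ := hy g hg
        exact ⟨n + m, c * d, by rw [pow_add, map_mul, ← h1, ← h2, smul_mul_smul_comm]⟩
      zero_mem' := fun g _ => ⟨0, 0, by rw [smul_zero, map_zero]⟩
      add_mem' := fun {x y} hx hy g hg => by
        obtain ⟨n, c, h1⟩ := hx g hg
        obtain ⟨m, d, h2⟩ := hy g hg
        refine ⟨n + m, g ^ m • c + g ^ n • d, ?_⟩
        rw [_root_.map_add, map_smul, map_smul, ← h1, ← h2, smul_add, ← mul_smul, ← mul_smul, pow_add,
          mul_comm (g ^ n) (g ^ m)]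
      algebraMap_mem' := fun a g _ => ⟨0, algebraMap A C a, by rw [pow_zero, one_smul, AlgHom.commutes]⟩ }
  have hR : R ≤ S₀ := by
    refine sup_le ?_ ?_
    · rintro _ ⟨c, rfl⟩ g _
      exact ⟨0, c, by rw [pow_zero, one_smul]; rfl⟩
    · rintro _ ⟨p, rfl⟩ g hg
      obtain ⟨n, c, hc'⟩ := hc g hg p.1.1
      refine ⟨n, ?_⟩
      rw [hB p] at hc'
      have h1 : (1 : Ac A) ⊗ₜ[A] Submodule.Quotient.mk (p := Cb) (g ^ n • p.1.2) = 0 := by
        rw [show (1 : Ac A) ⊗ₜ[A] Submodule.Quotient.mk (p := Cb) (g ^ n • p.1.2) =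
          Cb.mkQ.lTensor (Ac A) ((1 : Ac A) ⊗ₜ[A] (g ^ n • p.1.2)) from rfl, TensorProduct.tmul_smul, hc',
          show ι' c = dg.toLinearMap.lTensor (Ac A) c from rfl, ← LinearMap.comp_apply, ← LinearMap.lTensor_comp,
          show Cb.mkQ ∘ₗ dg.toLinearMap = 0 from LinearMap.ext fun c =>
            (Submodule.Quotient.mk_eq_zero _).2 ⟨c, rfl⟩, LinearMap.lTensor_zero, LinearMap.zero_apply]
      obtain ⟨c', hc''⟩ := (Submodule.Quotient.mk_eq_zero _).1
        (Module.FaithfullyFlat.tensorProduct_mk_injective (A := A) (B := Ac A) (L ⧸ Cb)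
          (h1.trans (map_zero _).symm))
      exact ⟨c', hc''.symm⟩
  refine ⟨B, inferInstance, inferInstance, inferInstance, eB, R, inferInstance, inferInstance, inferInstance,
    dg.codRestrict R (fun c => le_sup_left (a := dg.range) ⟨c, rfl⟩),
    v₀.codRestrict R (fun p => le_sup_right (a := dg.range) ⟨p, rfl⟩), fun g hg => ⟨fun x => ?_, fun c hc0 => ?_⟩,
    fun g hg => ⟨fun x => ?_, fun p hp0 => ?_⟩⟩
  · obtain ⟨n, c, hc'⟩ := hR x.2 g hg
    exact ⟨n, c, Subtype.ext hc'⟩
  · exact diag_eq_zero C hG (congrArg Subtype.val hc0) hg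
  · obtain ⟨n, c, hc'⟩ := hR x.2 g hg
    obtain ⟨m, b, hb'⟩ := hb g hg c
    refine ⟨m + n, ⟨(b, g ^ m • dg c), hb'⟩, Subtype.ext ?_⟩
    show g ^ (m + n) • (x : L) = g ^ m • dg c
    rw [pow_add, mul_smul, hc']
  · have h2 : p.1.2 = 0 := congrArg Subtype.val hp0
    obtain ⟨n, hn⟩ := ha g hg p.1.1 (by rw [hB, h2, TensorProduct.tmul_zero])
    exact ⟨n, Subtype.ext (Prod.ext hn (by show g ^ n • p.1.2 = 0; rw [h2, smul_zero]))⟩

end

end Groth.Agent.Pi1Ext.ComplGlue
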