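import Groth.Agent.Pi1Ext.RegPurity
import Groth.Agent.Alg6.AssDepth
import Mathlib

/-! A finite local algebra of depth two over a regular local ring, étale off the closed point, is étale. -/

set_option autoImplicit false
set_option linter.style.haveILetI false
universe u

open IsLocalRing

namespace Groth.Agent.Pi1Ext.EtaleDepth

open RegPurity

/-- An element regular on `R` in an ideal containing a power of the maximal ideal. -/
theorem exists_regular_mem {R : Type u} [CommRing R] [IsLocalRing R] [IsNoetherianRing R]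
    (h : (1 : ℕ∞) ≤ LocCoh.depth R R) (J : Ideal R) (hJ : maximalIdeal R ≤ J.radical) :
    ∃ x ∈ J, IsSMulRegular R x := by
  obtain ⟨x, hx, hreg⟩ : ∃ x ∈ maximalIdeal R, IsSMulRegular R x := by
    by_contra! hno
    have hsub : ((maximalIdeal R : Ideal R) : Set R) ⊆ ⋃ p ∈ associatedPrimes R R, (p : Set R) := by
      intro x hx
      rw [biUnion_associatedPrimes_eq_compl_regular R R]
      exact hno x hx
    obtain ⟨p, hp, hle⟩ := (Ideal.subset_union_prime_finite (associatedPrimes.finite R R) ⊥ ⊥
      (fun p hp _ _ => (show IsAssociatedPrime p R from hp).isPrime)).1 hsub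
    exact Groth.Agent.Alg6.one_le_depth_iff.1 h
      (((maximalIdeal.isMaximal R).eq_of_le (show IsAssociatedPrime p R from hp).isPrime.ne_top hle) ▸ hp)
  obtain ⟨n, hn⟩ := hJ hx
  exact ⟨x ^ n, hn, hreg.pow n⟩

theorem maximalIdeal_le_radical {A C : Type u} [CommRing A] [IsLocalRing A] [CommRing C] [IsLocalRing C]
    [Algebra A C] [Module.Finite A C] (J : Ideal C)
    (h : ∀ g ∈ maximalIdeal A, ∃ n : ℕ, algebraMap A C g ^ n ∈ J) : maximalIdeal C ≤ J.radical := by
  rw [Ideal.radical_eq_sInf]
  refine le_sInf fun P hP => ?_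
  haveI := hP.2
  have hle : maximalIdeal A ≤ P.comap (algebraMap A C) := fun g hg =>
    let ⟨_, hn⟩ := h g hg
    hP.2.mem_of_pow_mem _ (hP.1 hn)
  haveI : (P.comap (algebraMap A C)).IsMaximal := by
    rw [← (maximalIdeal.isMaximal A).eq_of_le (Ideal.IsPrime.ne_top inferInstance) hle]; infer_instance
  exact (IsLocalRing.eq_maximalIdeal (Ideal.isMaximal_of_isIntegral_of_isMaximal_comap (R := A) P
    inferInstance)).ge

theorem etale_of_etOff (A : Type u) [CommRing A] [IsRegularLocalRing A]
    (hA : (2 : WithBot ℕ∞) ≤ ringKrullDim A) (C : Type u) [CommRing C] [IsLocalRing C] [Algebra A C]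
    [Module.Finite A C] (hC : EtOff A C) (hd : (2 : ℕ∞) ≤ LocCoh.depth C C) : Algebra.Etale A C := by
  haveI := Groth.Agent.RegLoc6.isDomain_of_isRegularLocalRing A
  haveI : IsNoetherianRing C := IsNoetherianRing.of_finite A C
  obtain ⟨E, _, _, f, hfin, het, hiso⟩ := exists_finite_etale_of_etOff A hA C hC
  haveI := hfin
  haveI := het
  haveI : Module.Free A E := Module.free_of_flat_of_isLocalRing
  have hd1 : (1 : ℕ∞) ≤ LocCoh.depth C C := le_trans (by norm_num) hd
  have hinj : Function.Injective f := (injective_iff_map_eq_zero f).2 fun c hc => by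
    let J : Ideal C := LinearMap.ker (LinearMap.toSpanSingleton C C c)
    obtain ⟨x, hx, hreg⟩ := exists_regular_mem hd1 J (maximalIdeal_le_radical J fun g hg => by
      obtain ⟨n, hn⟩ := (hiso g hg).2 c hc
      refine ⟨n, ?_⟩
      rw [Algebra.smul_def, _root_.map_pow] at hn
      exact hn)
    exact hreg ((show x • c = 0 from hx).trans (smul_zero x).symm)
  obtain ⟨g₀, k₀, hg₀, hk₀, hp⟩ := exists_regPair A hA
  have hzero : ∀ (x : C), IsSMulRegular C x → ∀ z : E, f x * z = 0 → z = 0 := by
    intro x hx z hz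
    obtain ⟨n, w, hw⟩ := (hiso g₀ hg₀).1 z
    have : f (x * w) = 0 := by rw [map_mul, ← hw, mul_smul_comm, hz, smul_zero]
    have hw0 : w = 0 := hx (((map_eq_zero_iff f hinj).1 this).trans (smul_zero x).symm)
    rw [hw0, map_zero] at hw
    have b₀ := Module.Free.chooseBasis A E
    refine b₀.repr.injective (Finsupp.ext fun i => ?_)
    have h1 := DFunLike.congr_fun (congrArg b₀.repr hw) i
    simp only [map_smul, map_zero, Finsupp.smul_apply, Finsupp.zero_apply, smul_eq_mul] at h1 ⊢
    exact (mul_eq_zero.1 h1).resolve_left (pow_ne_zero n hp.1)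
  have hsurj : Function.Surjective f := by
    intro e
    by_contra hne
    let J : Ideal C :=
      { carrier := {x | ∃ c, f c = f x * e}
        zero_mem' := ⟨0, by rw [map_zero, zero_mul]⟩
        add_mem' := fun {x y} ⟨a, ha⟩ ⟨b, hb⟩ => ⟨a + b, by rw [_root_.map_add, _root_.map_add, ha, hb, add_mul]⟩
        smul_mem' := fun r x ⟨a, ha⟩ => ⟨r * a, by rw [smul_eq_mul, map_mul, map_mul, ha, mul_assoc]⟩ }
    have hJ : maximalIdeal C ≤ J.radical := maximalIdeal_le_radical J fun g hg => by
      obtain ⟨n, c, hc⟩ := (hiso g hg).1 e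
      exact ⟨n, c, by rw [← hc, Algebra.smul_def, map_pow f, AlgHom.commutes, _root_.map_pow]⟩
    obtain ⟨x, ⟨a, ha⟩, hreg⟩ := exists_regular_mem hd1 J hJ
    have hxm : x ∈ maximalIdeal C := by
      intro hu
      obtain ⟨u, rfl⟩ := hu
      exact hne ⟨↑u⁻¹ * a, by rw [map_mul, ha, ← mul_assoc, ← map_mul, Units.inv_mul, map_one, one_mul]⟩
    have hb : (Submodule.Quotient.mk a : QuotSMulTop x C) ≠ 0 := fun h0 => by
      rw [Submodule.Quotient.mk_eq_zero, Submodule.mem_smul_pointwise_iff_exists] at h0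
      obtain ⟨a', -, rfl⟩ := h0
      refine hne ⟨a', (sub_eq_zero.1 (hzero x hreg _ ?_)).symm⟩
      rw [mul_sub, ← ha, smul_eq_mul, map_mul, sub_self]
    obtain ⟨P, hP, hle⟩ := exists_le_isAssociatedPrime_of_isNoetherianRing C
      (Submodule.Quotient.mk a : QuotSMulTop x C) hb
    have hJP : J ≤ P := by
      intro y hy
      refine hle ?_
      obtain ⟨b, hb'⟩ := hy
      have : y * a = x * b := hinj (by rw [map_mul, map_mul, ha, hb', mul_left_comm])
      rw [Submodule.mem_colon_singleton, Submodule.mem_bot, ← Submodule.Quotient.mk_smul,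
        Submodule.Quotient.mk_eq_zero, smul_eq_mul, this]
      exact Submodule.smul_mem_pointwise_smul b x ⊤ trivial
    haveI := hP.isPrime
    have hPm : P = maximalIdeal C := ((maximalIdeal.isMaximal C).eq_of_le hP.isPrime.ne_top
      (hJ.trans ((Ideal.radical_mono hJP).trans_eq (Ideal.IsPrime.radical inferInstance)))).symm
    exact (Groth.Agent.Alg6.two_le_depth_iff hxm hreg).1 hd (hPm ▸ hP)
  exact Algebra.Etale.of_equiv (AlgEquiv.ofBijective f ⟨hinj, hsurj⟩).symm

end Groth.Agent.Pi1Ext.EtaleDepth
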