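import Groth.Agent.Pi1Ext.ComplModel
import Groth.Agent.Pi1Ext.ComplEtale
import Groth.Agent.Pi1Ext.EtaleOfDepth
import Groth.Agent.Hensel.HenselizationLoc
import Groth.Agent.SmallFlat.Misc
import Groth.Agent.CILib.Basic
import Groth.Agent.EtLoc7.Basic

/-! A quasi-finite point of depth two over a regular local ring, étale at all generisations, is étale. -/

set_option autoImplicit false
set_option linter.style.haveILetI false
universe u

open IsLocalRing TensorProduct

namespace Groth.Agent.Pi1Ext.EtaleAtDepth

open ComplModel

set_option backward.isDefEq.respectTransparency false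
set_option backward.isDefEq.respectTransparency.types false
attribute [local instance] Algebra.TensorProduct.rightAlgebra

variable {A : Type u} [CommRing A] [IsRegularLocalRing A] {S : Type u} [CommRing S] [Algebra A S]
  [Algebra.FiniteType A S] (q : Ideal S) [q.IsPrime] (hqm : q.comap (algebraMap A S) = maximalIdeal A)
  [Algebra.QuasiFiniteAt A q]

include hqm in
/-- The local ring at a quasi-finite point is no bigger than the base. -/
theorem ringKrullDim_le : ringKrullDim (Localization.AtPrime q) ≤ ringKrullDim A := by
  haveI : IsNoetherianRing S := Algebra.FiniteType.isNoetherianRing A S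
  haveI := finite q hqm
  haveI := CILib.isRegularLocalRing_adicCompletion A
  haveI : IsNoetherianRing (Cc q hqm) := IsNoetherianRing.of_finite (Ac A) (Cc q hqm)
  letI := (toCc q hqm).toAlgebra
  haveI : IsLocalHom (algebraMap (Localization.AtPrime q) (Cc q hqm)) := toCc_isLocalHom q hqm
  haveI : Module.Flat (Localization.AtPrime q) (Cc q hqm) := toCc_flat q hqm
  rw [← CILib.ringKrullDim_adicCompletion A, ← Groth.Agent.Hensel.ringKrullDim_eq_of_flat_of_map_maximalIdeal_eq
    (R := Localization.AtPrime q) (S := Cc q hqm) (map_maximalIdeal_toCc q hqm)]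
  exact Order.krullDim_le_of_strictMono (PrimeSpectrum.comap (algebraMap (Ac A) (Cc q hqm)))
    fun P P' h => Ideal.IsIntegral.comap_lt_comap h

include hqm in
theorem isEtaleAt_of_generisations (hA : (2 : WithBot ℕ∞) ≤ ringKrullDim A)
    (hd : (2 : ℕ∞) ≤ LocCoh.depth (Localization.AtPrime q) (Localization.AtPrime q))
    (h : ∀ (s : Ideal S) (_ : s.IsPrime), s < q → Algebra.IsEtaleAt A s) : Algebra.IsEtaleAt A q := by
  haveI : IsNoetherianRing S := Algebra.FiniteType.isNoetherianRing A S
  haveI : Algebra.FinitePresentation A S := Algebra.FinitePresentation.of_finiteType.mp inferInstance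
  haveI := finite q hqm
  haveI : IsRegularLocalRing (Ac A) := CILib.isRegularLocalRing_adicCompletion A
  let C := Localization.AtPrime q
  let C' := Cc q hqm
  haveI : IsNoetherianRing C' := IsNoetherianRing.of_finite (Ac A) C'
  haveI : Algebra.FinitePresentation (Ac A) C' :=
    (Algebra.FinitePresentation.of_finiteType (R := Ac A) (A := C')).mp inferInstance
  have hoff : RegPurity.EtOff (Ac A) C' := fun g hg => by
    unfold RegPurity.EtAway
    rw [← Algebra.basicOpen_subset_etaleLocus_iff_etale]
    intro P hP
    refine isEtaleAt_of_isEtaleAt q hqm P.asIdeal fun s hs hseq => h s hs ?_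
    rw [hseq]
    exact ComplEtale.under_lt q hqm P.asIdeal fun hPm => hP (by
      show algebraMap (Ac A) C' g ∈ P.asIdeal
      rw [hPm]
      have hgQ : algebraMap (Ac A) (Ac A ⊗[A] S) g ∈ Q q hqm := by
        rw [← Ideal.mem_comap, Q_over q hqm]; exact hg
      have h3 := Ideal.mem_map_of_mem (algebraMap (Ac A ⊗[A] S) C') hgQ
      rwa [← IsScalarTower.algebraMap_apply, Localization.AtPrime.map_eq_maximalIdeal] at h3)
  haveI : Algebra.Etale (Ac A) C' := EtaleDepth.etale_of_etOff (Ac A)
    (by rw [CILib.ringKrullDim_adicCompletion]; exact hA) C' hoff (by rw [depth_eq q hqm]; exact hd)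
  exact ComplEtale.isEtaleAt_of_etale_completion q hqm

end Groth.Agent.Pi1Ext.EtaleAtDepth
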