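import Groth.Agent.Pi1Ext.Zigzag

/-! Finite covers of the punctured spectrum and their models. -/

set_option autoImplicit false
set_option linter.style.haveILetI false
universe u

open CategoryTheory CategoryTheory.Limits AlgebraicGeometry IsLocalRing TensorProduct

noncomputable section

namespace Groth.Agent.Pi1Ext.FiniteModel

open RegPurity PuritySch Zigzag

set_option backward.isDefEq.respectTransparency false
set_option backward.isDefEq.respectTransparency.types false

variable {A : Type u} [CommRing A] [IsLocalRing A]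

theorem isIso_restMap {C B : Type u} [CommRing C] [CommRing B] [Algebra A C] [Algebra A B] (f : C →ₐ[A] B)
    (hf : ∀ g ∈ maximalIdeal A, IsoAway f g) : IsIso (restMap f) := by
  let F := Spec.map (CommRingCat.ofHom f.toRingHom)
  let jC := pullback.fst (sp A C) (FEt.puncturedSpec A).ι
  have hF : F ≫ sp A C = sp A B := by
    rw [← Spec.map_comp]
    congr 1
    ext a
    exact f.commutes a
  have sq : IsPullback (pullback.fst (sp A B) (FEt.puncturedSpec A).ι) (restMap f) F jC := by
    refine IsPullback.of_bot ?_ (pullback.lift_fst _ _ _).symm (IsPullback.of_hasPullback (sp A C) (FEt.puncturedSpec A).ι)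
    show IsPullback _ (restMap f ≫ pullback.snd _ _) (F ≫ sp A C) _
    rw [hF, restMap, pullback.lift_snd]
    exact IsPullback.of_hasPullback _ _
  let D : {g : A // g ∈ maximalIdeal A} → (Spec (CommRingCat.of C)).Opens :=
    fun g => PrimeSpectrum.basicOpen (algebraMap A C g.1)
  have hD : (⨆ g, jC ⁻¹ᵁ D g) = ⊤ := by
    refine top_le_iff.1 fun x _ => ?_
    obtain ⟨g, hg, hgy⟩ := exists_mem_max (pullback.snd (sp A C) (FEt.puncturedSpec A).ι x)
    refine TopologicalSpace.Opens.mem_iSup.2 ⟨⟨g, hg⟩, ?_⟩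
    rw [← Scheme.Hom.comp_apply, ← pullback.condition] at hgy
    exact hgy
  refine IsZariskiLocalAtTarget.of_iSup_eq_top (P := MorphismProperty.isomorphisms Scheme) _ hD fun g => ?_
  have hiso : IsIso (F ∣_ D g) := by
    have hbij : Function.Bijective (Localization.awayMap f.toRingHom (algebraMap A C g.1)) := by
      let Bg := Localization.Away (f.toRingHom (algebraMap A C g.1))
      have hm : ∀ c : C, Localization.awayMap f.toRingHom (algebraMap A C g.1)
          (algebraMap C _ c) = algebraMap B Bg (f c) := fun c => IsLocalization.map_eq _ c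
      refine ⟨(injective_iff_map_eq_zero _).2 fun z hz => ?_, fun z => ?_⟩
      · obtain ⟨c, ⟨_, n, rfl⟩, rfl⟩ := IsLocalization.exists_mk'_eq (Submonoid.powers (algebraMap A C g.1)) z
        rw [Localization.awayMap, IsLocalization.Away.map, IsLocalization.map_mk', IsLocalization.mk'_eq_zero_iff] at hz
        obtain ⟨⟨_, m, rfl⟩, hm'⟩ := hz
        obtain ⟨k, hk⟩ := (hf g.1 g.2).2 (g.1 ^ m • c) (by
          rw [map_smul, Algebra.smul_def, map_pow]
          show algebraMap A B g.1 ^ m * f c = 0
          rw [← f.commutes]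
          exact hm')
        refine (IsLocalization.mk'_eq_zero_iff _ _).2 ⟨⟨_, k + m, rfl⟩, ?_⟩
        show algebraMap A C g.1 ^ (k + m) * c = 0
        rw [← map_pow, ← Algebra.smul_def, pow_add, mul_smul, hk]
      · obtain ⟨b, ⟨_, n, rfl⟩, rfl⟩ := IsLocalization.exists_mk'_eq (Submonoid.powers (f.toRingHom (algebraMap A C g.1))) z
        obtain ⟨m, c, hc⟩ := (hf g.1 g.2).1 b
        refine ⟨IsLocalization.mk' _ c (⟨_, m + n, rfl⟩ : Submonoid.powers (algebraMap A C g.1)), ?_⟩
        rw [Localization.awayMap, IsLocalization.Away.map, IsLocalization.map_mk', IsLocalization.mk'_eq_iff_eq]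
        congr 1
        show f.toRingHom (algebraMap A C g.1) ^ n * f c = f.toRingHom (algebraMap A C g.1 ^ (m + n)) * b
        rw [← hc, Algebra.smul_def, map_pow, map_pow, pow_add,
          show f.toRingHom (algebraMap A C g.1) = algebraMap A B g.1 from f.commutes g.1]
        ring
    haveI : IsIso (CommRingCat.ofHom (Localization.awayMap f.toRingHom (algebraMap A C g.1))) :=
      (ConcreteCategory.isIso_iff_bijective _).2 hbij
    exact ((MorphismProperty.isomorphisms Scheme).arrow_mk_iso_iff
      (SpecMapRestrictBasicOpenIso (CommRingCat.ofHom f.toRingHom) (algebraMap A C g.1))).2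
      (show IsIso _ from inferInstanceAs (IsIso (Spec.map _)))
  let k : (↑(jC ⁻¹ᵁ D g) : Scheme.{u}) ⟶ (↑(D g) : Scheme.{u}) := jC ∣_ D g
  have hsq : IsPullback ((restMap f ⁻¹ᵁ (jC ⁻¹ᵁ D g)).ι ≫ pullback.fst _ _) (restMap f ∣_ (jC ⁻¹ᵁ D g)) F
      (k ≫ (D g).ι) := by
    rw [morphismRestrict_ι]
    exact (isPullback_morphismRestrict (restMap f) (jC ⁻¹ᵁ D g)).flip.paste_horiz sq
  let l : (↑(restMap f ⁻¹ᵁ (jC ⁻¹ᵁ D g)) : Scheme.{u}) ⟶ (↑(F ⁻¹ᵁ D g) : Scheme.{u}) :=
    (isPullback_morphismRestrict F (D g)).flip.lift ((restMap f ⁻¹ᵁ (jC ⁻¹ᵁ D g)).ι ≫ pullback.fst _ _)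
      ((restMap f ∣_ (jC ⁻¹ᵁ D g)) ≫ k) (by rw [Category.assoc _ k]; exact hsq.w)
  have h1 : IsPullback l (restMap f ∣_ (jC ⁻¹ᵁ D g)) (F ∣_ D g) k := by
    refine IsPullback.of_right ?_ ?_ (isPullback_morphismRestrict F (D g)).flip
    · rw [IsPullback.lift_fst]; exact hsq
    · exact IsPullback.lift_snd _ _ _ _
  exact MorphismProperty.of_isPullback (P := MorphismProperty.isomorphisms Scheme) h1 hiso

theorem finite_tensor (R : Type u) [CommRing R] [Algebra A R] {g : A} (hg : g ∈ maximalIdeal A)
    (hR : IsFinite (rest A R)) : Module.Finite (Localization.Away g) (Localization.Away g ⊗[A] R) := by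
  let Ag := Localization.Away g
  have h : IsFinite (pullback.snd (rest A R) (ρ hg)) := MorphismProperty.pullback_snd _ _ hR
  have e1 : IsPullback (pullback.fst (rest A R) (ρ hg) ≫ pullback.fst (sp A R) (FEt.puncturedSpec A).ι)
      (pullback.snd (rest A R) (ρ hg)) (sp A R) (sp A Ag) := by
    have := (IsPullback.of_hasPullback (rest A R) (ρ hg)).paste_horiz
      (IsPullback.of_hasPullback (sp A R) (FEt.puncturedSpec A).ι)
    rwa [ρ_ι] at this
  rw [← e1.flip.isoPullback_hom_fst, ← pullbackSpecIso_hom_fst' A Ag R,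
    MorphismProperty.cancel_left_of_respectsIso (P := @IsFinite),
    MorphismProperty.cancel_left_of_respectsIso (P := @IsFinite)] at h
  exact RingHom.finite_algebraMap.1 ((IsFinite.SpecMap_iff _).1 h)

variable [IsNoetherianRing A]

/-- A cover of the punctured spectrum comes from an integral algebra. -/
theorem exists_integral_model {P : Scheme.{u}} (v : P ⟶ (FEt.puncturedSpec A : Scheme.{u})) [IsFinite v] :
    ∃ (R : Type u) (_ : CommRing R) (_ : Algebra A R) (_ : Algebra.IsIntegral A R),
      IsFinite (rest A R) ∧ ∃ q : P ≅ pullback (sp A R) (FEt.puncturedSpec A).ι, q.hom ≫ rest A R = v := by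
  haveI : CompactSpace P := QuasiCompact.compactSpace_of_compactSpace v
  let j : P ⟶ Spec (CommRingCat.of A) := v ≫ (FEt.puncturedSpec A).ι
  haveI : QuasiCompact j := inferInstance
  haveI : QuasiSeparated j := inferInstance
  haveI : IsSeparated j := inferInstance
  haveI : LocallyOfFiniteType j := inferInstance
  haveI : LocallyQuasiFinite j := inferInstance
  haveI : IsAffine j.normalization := isAffine_of_isAffineHom j.fromNormalization
  let R := Γ(j.normalization, ⊤)
  let φ := (Scheme.ΓSpecIso (CommRingCat.of A)).inv ≫ j.fromNormalization.appTop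
  letI : Algebra A R := φ.hom.toAlgebra
  let t : P ⟶ Spec (CommRingCat.of R) := j.toNormalization ≫ j.normalization.isoSpec.hom
  have hπ : j.normalization.isoSpec.hom ≫ sp A R = j.fromNormalization := by
    show j.normalization.isoSpec.hom ≫ Spec.map φ = _
    rw [Spec.map_comp, ← Category.assoc, Scheme.isoSpec_hom_naturality, Category.assoc]
    simp [Scheme.isoSpec, toSpecΓ_SpecMap_ΓSpecIso_inv]
  haveI : Algebra.IsIntegral A R := by
    have h1 : IsIntegralHom (sp A R) := by
      rw [← MorphismProperty.cancel_left_of_respectsIso (P := @IsIntegralHom) j.normalization.isoSpec.hom, hπ]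
      infer_instance
    exact algebraMap_isIntegral_iff.1 (IsIntegralHom.SpecMap_iff.1 h1)
  have ht : t ≫ sp A R = j := by
    rw [Category.assoc, hπ, Scheme.Hom.toNormalization_fromNormalization]
  haveI : IsDominant t := inferInstance
  haveI : IsOpenImmersion t := inferInstance
  let q : P ⟶ pullback (sp A R) (FEt.puncturedSpec A).ι := pullback.lift t v ht
  have hq1 : q ≫ pullback.fst _ _ = t := pullback.lift_fst _ _ _
  have hq2 : q ≫ rest A R = v := pullback.lift_snd _ _ _
  haveI : IsFinite q := by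
    haveI : IsFinite (q ≫ rest A R) := by rw [hq2]; infer_instance
    exact IsFinite.of_comp q (rest A R)
  haveI : IsOpenImmersion q := by
    haveI : IsOpenImmersion (q ≫ pullback.fst _ _) := by rw [hq1]; infer_instance
    exact IsOpenImmersion.of_comp q (pullback.fst _ _)
  haveI : Surjective q := by
    refine ⟨fun y => ?_⟩
    by_contra hne
    have hopen := (pullback.fst (sp A R) (FEt.puncturedSpec A).ι).isOpenMap _ q.isClosedMap.isClosed_range.isOpen_compl
    obtain ⟨z, ⟨w, hw, rfl⟩, v, hv⟩ := t.denseRange.inter_open_nonempty _ hopen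
      ⟨_, y, fun ⟨a, ha⟩ => hne ⟨a, ha⟩, rfl⟩
    refine hw ⟨v, (pullback.fst (sp A R) (FEt.puncturedSpec A).ι).isOpenEmbedding.injective ?_⟩
    rw [← Scheme.Hom.comp_apply, hq1]
    exact hv
  haveI : IsIso q := (isIso_iff_isOpenImmersion_and_surjective q).2 ⟨inferInstance, inferInstance⟩
  have hR : IsFinite (rest A R) := by
    rw [← MorphismProperty.cancel_left_of_respectsIso (P := @IsFinite) q, hq2]
    infer_instance
  exact ⟨R, inferInstance, inferInstance, inferInstance, hR, asIso q, hq2⟩

/-- A cover of the punctured spectrum comes from a finite algebra. -/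
theorem exists_finite_model {P : Scheme.{u}} (v : P ⟶ (FEt.puncturedSpec A : Scheme.{u})) [IsFinite v] :
    ∃ (C : Type u) (_ : CommRing C) (_ : Algebra A C) (_ : Module.Finite A C),
      ∃ q : P ≅ pullback (sp A C) (FEt.puncturedSpec A).ι, q.hom ≫ rest A C = v := by
  classical
  obtain ⟨R, _, _, hint, hR, q, hq⟩ := exists_integral_model v
  have hloc : ∀ g, g ∈ maximalIdeal A → Module.Finite (Localization.Away g) (Localization.Away g ⊗[A] R) :=
    fun g hg => finite_tensor R hg hR
  obtain ⟨G, hG⟩ := IsNoetherian.noetherian (maximalIdeal A)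
  have hsel : ∀ g ∈ G, ∃ s : Finset R, ∀ C : Subalgebra A R, ↑s ⊆ (C : Set R) →
      ∀ r : R, ∃ n : ℕ, g ^ n • r ∈ C := fun g hgG => by
    have hgm : g ∈ maximalIdeal A := hG ▸ Ideal.subset_span hgG
    let Ag := Localization.Away g
    haveI := hloc g hgm
    have htop : Submodule.span Ag (Set.range fun r : R => (1 : Ag) ⊗ₜ[A] r) = ⊤ := by
      refine top_le_iff.1 fun z _ => ?_
      induction z using TensorProduct.induction_on with
      | zero => exact zero_mem _
      | tmul a r =>
        rw [show (a ⊗ₜ[A] r : Ag ⊗[A] R) = a • ((1 : Ag) ⊗ₜ[A] r) by simp [TensorProduct.smul_tmul']]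
        exact Submodule.smul_mem _ _ (Submodule.subset_span ⟨r, rfl⟩)
      | add x y hx hy => exact add_mem (hx trivial) (hy trivial)
    obtain ⟨s', hs', hspan⟩ := (Submodule.fg_span_iff_fg_span_finset_subset _).1
      (htop ▸ (Module.Finite.fg_top : (⊤ : Submodule Ag (Ag ⊗[A] R)).FG))
    choose r hr using fun z : s' => hs' z.2
    refine ⟨Finset.univ.image r, fun C hC x => ?_⟩
    haveI : IsLocalizedModule (Submonoid.powers g) (TensorProduct.mk A Ag R 1) :=
      (isLocalizedModule_iff_isBaseChange (Submonoid.powers g) Ag _).2 (TensorProduct.isBaseChange A R Ag)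
    suffices hz : ∀ z ∈ Submodule.span Ag (s' : Set (Ag ⊗[A] R)),
        ∃ (n : ℕ) (c : R), c ∈ C ∧ g ^ n • z = (1 : Ag) ⊗ₜ[A] c by
      obtain ⟨n, c, hc, he⟩ := hz ((1 : Ag) ⊗ₜ[A] x) (hspan ▸ htop.ge trivial)
      rw [← TensorProduct.tmul_smul] at he
      obtain ⟨⟨_, m, rfl⟩, hm⟩ := (IsLocalizedModule.eq_iff_exists (Submonoid.powers g) (TensorProduct.mk A Ag R 1)).1 he
      refine ⟨m + n, ?_⟩
      rw [pow_add, mul_smul]
      exact hm ▸ C.smul_mem hc _
    intro z hz
    induction hz using Submodule.span_induction with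
    | mem z hz =>
      refine ⟨0, r ⟨z, hz⟩, hC (Finset.mem_coe.2 (Finset.mem_image_of_mem r (Finset.mem_univ _))), ?_⟩
      rw [pow_zero, one_smul]
      exact (hr ⟨z, hz⟩).symm
    | zero => exact ⟨0, 0, C.zero_mem, by simp⟩
    | add z z' _ _ hz hz' =>
      obtain ⟨n, c, hc, he⟩ := hz
      obtain ⟨n', c', hc', he'⟩ := hz'
      refine ⟨n + n', g ^ n' • c + g ^ n • c', C.add_mem (C.smul_mem hc _) (C.smul_mem hc' _), ?_⟩
      rw [TensorProduct.tmul_add, TensorProduct.tmul_smul, TensorProduct.tmul_smul, ← he, ← he', smul_smul,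
        smul_smul, smul_add, pow_add, mul_comm (g ^ n) (g ^ n')]
    | smul a z _ hz =>
      obtain ⟨n, c, hc, he⟩ := hz
      obtain ⟨a₀, ⟨_, m, rfl⟩, rfl⟩ := IsLocalization.exists_mk'_eq (Submonoid.powers g) a
      refine ⟨m + n, a₀ • c, C.smul_mem hc _, ?_⟩
      rw [TensorProduct.tmul_smul, ← he, pow_add, mul_smul, smul_comm (g ^ n), ← smul_assoc, Algebra.smul_def]
      exact (congrArg (· • (g ^ n • z)) (IsLocalization.mk'_spec' Ag a₀ (⟨g ^ m, m, rfl⟩ : Submonoid.powers g))).trans
        (algebraMap_smul Ag a₀ _)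
  choose s hs using hsel
  let S : Finset R := G.attach.biUnion fun g => s g.1 g.2
  let C : Subalgebra A R := Algebra.adjoin A (S : Set R)
  haveI : Module.Finite A C :=
    Module.Finite.iff_fg.2 (fg_adjoin_of_finite S.finite_toSet fun x _ => Algebra.IsIntegral.isIntegral x)
  have hiso : ∀ g ∈ maximalIdeal A, IsoAway C.val g := fun g hg =>
    ⟨fun r => by
      have hall : ∀ g₀ ∈ G, ∃ n : ℕ, g₀ ^ n • r ∈ C := fun g₀ h₀ => hs g₀ h₀ C
        ((Finset.coe_subset.2 (Finset.subset_biUnion_of_mem (fun g : {x // x ∈ G} => s g.1 g.2)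
          (Finset.mem_attach G ⟨g₀, h₀⟩))).trans Algebra.subset_adjoin) r
      let J : Ideal A := (Subalgebra.toSubmodule C).comap (LinearMap.toSpanSingleton A R r)
      have : g ∈ J.radical := by
        have hle : maximalIdeal A ≤ J.radical := by
          rw [← hG]
          refine Ideal.span_le.2 fun g₀ h₀ => ?_
          obtain ⟨n, hn⟩ := hall g₀ h₀
          exact ⟨n, hn⟩
        exact hle hg
      obtain ⟨n, hn⟩ := this
      exact ⟨n, ⟨_, hn⟩, rfl⟩,
    fun c hc => ⟨0, by rw [pow_zero, one_smul]; exact Subtype.ext hc⟩⟩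
  haveI := isIso_restMap C.val hiso
  refine ⟨C, inferInstance, inferInstance, inferInstance, q ≪≫ asIso (restMap C.val), ?_⟩
  rw [Iso.trans_hom, Category.assoc, asIso_hom, restMap, pullback.lift_snd, hq]

theorem exists_zigzag {C B : Type u} [CommRing C] [CommRing B] [Algebra A C] [Algebra A B]
    [Module.Finite A C] [Module.Finite A B] (el : pullback (sp A B) (FEt.puncturedSpec A).ι ⟶ pullback (sp A C) (FEt.puncturedSpec A).ι)
    [IsIso el] (hel : el ≫ rest A C = rest A B) :
    ∃ (R : Type u) (_ : CommRing R) (_ : Algebra A R) (_ : Module.Finite A R) (u : C →ₐ[A] R) (v : B →ₐ[A] R),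
      (∀ g ∈ maximalIdeal A, IsoAway u g) ∧ ∀ g ∈ maximalIdeal A, IsoAway v g := by
  let P := pullback (sp A B) (FEt.puncturedSpec A).ι
  let jB : P ⟶ Spec (CommRingCat.of B) := pullback.fst _ _
  let jC : P ⟶ Spec (CommRingCat.of C) := el ≫ pullback.fst _ _
  haveI : IsFinite (rest A B) := by
    haveI : IsFinite (sp A B) := (IsFinite.SpecMap_iff _).2 (RingHom.finite_algebraMap.2 inferInstance)
    exact MorphismProperty.pullback_snd _ _ inferInstance
  haveI : CompactSpace P := QuasiCompact.compactSpace_of_compactSpace (rest A B)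
  haveI : QuasiSeparatedSpace P := quasiSeparatedSpace_of_quasiSeparated jB
  have hjB : jB ≫ sp A B = rest A B ≫ (FEt.puncturedSpec A).ι := pullback.condition
  have hjC : jC ≫ sp A C = rest A B ≫ (FEt.puncturedSpec A).ι := by
    rw [Category.assoc, pullback.condition, ← Category.assoc, hel]
  let sA := (Scheme.ΓSpecIso (CommRingCat.of A)).inv
  let jA : P ⟶ Spec (CommRingCat.of A) := rest A B ≫ (FEt.puncturedSpec A).ι
  let W : Type u := Γ(P, ⊤)
  letI : Algebra A W := (sA ≫ jA.appTop).hom.toAlgebra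
  have mk : ∀ (K : Type u) [CommRing K] [Algebra A K] (j : P ⟶ Spec (CommRingCat.of K)), j ≫ sp A K = jA →
      ∀ a : A, ((Scheme.ΓSpecIso (CommRingCat.of K)).inv ≫ j.appTop).hom (algebraMap A K a) = algebraMap A W a := by
    intro K _ _ j hj a
    have h1 : CommRingCat.ofHom (algebraMap A K) ≫ (Scheme.ΓSpecIso (CommRingCat.of K)).inv ≫ j.appTop =
        sA ≫ jA.appTop := by
      rw [← hj, Scheme.Hom.comp_appTop, ← Category.assoc, Scheme.ΓSpecIso_inv_naturality, Category.assoc]
    exact ConcreteCategory.congr_hom h1 a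
  let b : B →ₐ[A] W := { ((Scheme.ΓSpecIso (CommRingCat.of B)).inv ≫ jB.appTop).hom with commutes' := mk B jB hjB }
  let c : C →ₐ[A] W := { ((Scheme.ΓSpecIso (CommRingCat.of C)).inv ≫ jC.appTop).hom with commutes' := mk C jC hjC }
  have key : ∀ (K : Type u) [CommRing K] [Algebra A K] (j : P ⟶ Spec (CommRingCat.of K)) [IsOpenImmersion j]
      (_ : ∀ g ∈ maximalIdeal A, PrimeSpectrum.basicOpen (algebraMap A K g) ≤ j.opensRange)
      (k : K →ₐ[A] W) (_ : ∀ x, k x = j.appTop.hom ((Scheme.ΓSpecIso (CommRingCat.of K)).inv.hom x)),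
      ∀ g ∈ maximalIdeal A, IsoAway k g := by
    intro K _ _ j _ hr k hk g hg
    let a := (Scheme.ΓSpecIso (CommRingCat.of K)).inv.hom (algebraMap A K g)
    have hbo : (Spec (CommRingCat.of K)).basicOpen a ≤ j.opensRange := by
      rw [show (Spec (CommRingCat.of K)).basicOpen a = PrimeSpectrum.basicOpen (algebraMap A K g) from
        basicOpen_eq_of_affine (R := CommRingCat.of K) (algebraMap A K g)]
      exact hr g hg
    have hja : j.appTop.hom a = algebraMap A W g := (hk _).symm.trans (k.commutes g)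
    have hbij := ConcreteCategory.bijective_of_isIso (Scheme.ΓSpecIso (CommRingCat.of K)).inv
    obtain ⟨h1, h2⟩ := sections_away j a hbo
    refine ⟨fun w => ?_, fun x hx => ?_⟩
    · obtain ⟨n, y, hy⟩ := h1 w
      obtain ⟨y', hy'⟩ := hbij.2 y
      refine ⟨n, y', ?_⟩
      rw [hk]
      show g ^ n • w = j.appTop.hom ((Scheme.ΓSpecIso (CommRingCat.of K)).inv.hom y')
      rw [show (Scheme.ΓSpecIso (CommRingCat.of K)).inv.hom y' = y from hy', ← hy, hja, Algebra.smul_def, map_pow]
    · obtain ⟨n, hn⟩ := h2 ((Scheme.ΓSpecIso (CommRingCat.of K)).inv.hom x) ((hk x).symm.trans hx)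
      refine ⟨n, hbij.1 ?_⟩
      show (Scheme.ΓSpecIso (CommRingCat.of K)).inv.hom (g ^ n • x) = (Scheme.ΓSpecIso (CommRingCat.of K)).inv.hom 0
      rw [Algebra.smul_def, map_mul, map_pow, map_pow, hn, map_zero]
  have range_fst : ∀ (K : Type u) [CommRing K] [Algebra A K], ∀ g ∈ maximalIdeal A,
      (PrimeSpectrum.basicOpen (algebraMap A K g) : Set (PrimeSpectrum K)) ⊆
        Set.range (pullback.fst (sp A K) (FEt.puncturedSpec A).ι).base := by
    intro K _ _ g hg q hq
    rw [Scheme.Pullback.range_fst, Scheme.Opens.range_ι]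
    intro h
    have h' : PrimeSpectrum.comap (algebraMap A K) q = IsLocalRing.closedPoint A := h
    exact hq (show g ∈ (PrimeSpectrum.comap (algebraMap A K) q).asIdeal by rw [h']; exact hg)
  have hb := key B jB (fun g hg => range_fst B g hg) b (fun _ => rfl)
  have hc := key C jC (fun g hg => by
    intro q hq
    obtain ⟨z, hz⟩ := range_fst C g hg hq
    obtain ⟨z', rfl⟩ := el.surjective z
    exact ⟨z', hz⟩) c (fun _ => rfl)
  haveI : Module.Finite A b.range := Module.Finite.range b.toLinearMap
  haveI : Module.Finite A c.range := Module.Finite.range c.toLinearMap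
  haveI : Module.Finite A ↥(c.range ⊔ b.range) := Subalgebra.finite_sup _ _
  let R := c.range ⊔ b.range
  refine ⟨R, inferInstance, inferInstance, inferInstance, c.codRestrict R (fun x => le_sup_left (a := c.range) ⟨x, rfl⟩),
    b.codRestrict R (fun x => le_sup_right (a := c.range) ⟨x, rfl⟩), fun g hg => ⟨fun x => ?_, fun x hx => ?_⟩,
    fun g hg => ⟨fun x => ?_, fun x hx => ?_⟩⟩
  · obtain ⟨n, y, hy⟩ := (hc g hg).1 x
    exact ⟨n, y, Subtype.ext hy⟩
  · exact (hc g hg).2 x (congrArg Subtype.val hx)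
  · obtain ⟨n, y, hy⟩ := (hb g hg).1 x
    exact ⟨n, y, Subtype.ext hy⟩
  · exact (hb g hg).2 x (congrArg Subtype.val hx)

end Groth.Agent.Pi1Ext.FiniteModel
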