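import Groth.Agent.Pi1X.FEtGlobal
import Mathlib.AlgebraicGeometry.Morphisms.Flat

/-! Hartogs for schemes flat over a locally Noetherian one. -/

set_option autoImplicit false
set_option linter.style.haveILetI false
universe u

open CategoryTheory CategoryTheory.Limits AlgebraicGeometry TopologicalSpace

noncomputable section

namespace Groth.Agent.Pi1Ext.FlatHartogs

set_option backward.isDefEq.respectTransparency false
set_option backward.isDefEq.respectTransparency.types false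

theorem isIso_appLE {P W : Scheme.{u}} (j : P ⟶ W) [IsOpenImmersion j] (O : W.Opens) (O' : P.Opens)
    (h : O' = j ⁻¹ᵁ O) (hO : O ≤ j.opensRange) : IsIso (j.appLE O O' h.le) := by
  subst h
  rw [← Scheme.Hom.app_eq_appLE]
  exact j.isIso_app O hO

variable {W X : Scheme.{u}} (g : W ⟶ X) [Flat g] [IsLocallyNoetherian X] (U : X.Opens)

theorem bijective_res_of_isAffineOpen
    (hU : ∀ x : X, x ∉ U → (2 : ℕ∞) ≤ LocCoh.depth (X.presheaf.stalk x) (X.presheaf.stalk x))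
    {V₀ : X.Opens} (hV : IsAffineOpen V₀) {W₀ : W.Opens} (hW : IsAffineOpen W₀) (hle : W₀ ≤ g ⁻¹ᵁ V₀) :
    Function.Bijective (W.presheaf.map (homOfLE (inf_le_left : W₀ ⊓ g ⁻¹ᵁ U ≤ W₀)).op) := by
  let UX : (U : Scheme.{u}).Opens := U.ι ⁻¹ᵁ V₀
  let UY : (↑(g ⁻¹ᵁ U) : Scheme.{u}).Opens := (g ⁻¹ᵁ U).ι ⁻¹ᵁ W₀
  have H := isPullback_morphismRestrict g U
  have hUY : UY = (g ∣_ U) ⁻¹ᵁ UX ⊓ (g ⁻¹ᵁ U).ι ⁻¹ᵁ W₀ := by
    refine le_antisymm (le_inf ?_ le_rfl) inf_le_right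
    rw [show (g ∣_ U) ⁻¹ᵁ UX = ((g ∣_ U) ≫ U.ι) ⁻¹ᵁ V₀ from rfl, morphismRestrict_ι]
    exact fun x hx => hle hx
  haveI : IsNoetherianRing Γ(X, V₀) := IsLocallyNoetherian.component_noetherian ⟨V₀, hV⟩
  haveI : NoetherianSpace V₀ := noetherianSpace_of_isAffineOpen V₀ hV
  haveI : IsLocallyNoetherian (U : Scheme.{u}) := LocallyOfFiniteType.isLocallyNoetherian U.ι
  have hc : IsCompact (UX : Set (U : Scheme.{u})) := by
    rw [U.ι.isOpenEmbedding.isEmbedding.isCompact_iff]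
    exact (noetherianSpace_set_iff (V₀ : Set X)).1 ‹_› _ (by
      rintro _ ⟨z, hz, rfl⟩; exact hz)
  have po := (isIso_pushoutSection_iff H (US := V₀) (UT := W₀) (UX := UX) (UY := UY) hle le_rfl hUY).mp
    (isIso_pushoutSection_of_isQuasiSeparated_of_flat_right H hle le_rfl hUY hV hW hc
      (IsQuasiSeparated.of_quasiSeparatedSpace (α := (U : Scheme.{u})) _))
  haveI : IsIso (U.ι.appLE V₀ UX le_rfl) := by
    haveI := isIso_appLE U.ι (V₀ ⊓ U) UX (by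
      ext z; exact ⟨fun h => ⟨h, z.2⟩, fun h => h.1⟩) (by rw [Scheme.Opens.opensRange_ι]; exact inf_le_right)
    haveI : IsIso (X.presheaf.map (homOfLE (inf_le_left : V₀ ⊓ U ≤ V₀)).op) :=
      (ConcreteCategory.isIso_iff_bijective _).2 (Hartogs.restrict_bijective U hU V₀)
    rw [← Scheme.Hom.map_appLE U.ι (U := V₀ ⊓ U) (show UX ≤ U.ι ⁻¹ᵁ (V₀ ⊓ U) from fun z hz => ⟨hz, z.2⟩)
      (homOfLE inf_le_left).op]
    infer_instance
  haveI hiso : IsIso ((g ⁻¹ᵁ U).ι.appLE W₀ UY le_rfl) :=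
    MorphismProperty.of_isPushout (P := MorphismProperty.isomorphisms CommRingCat) po.flip
      (show IsIso (U.ι.appLE V₀ UX le_rfl) by infer_instance)
  have h2 : IsIso ((g ⁻¹ᵁ U).ι.appLE (W₀ ⊓ g ⁻¹ᵁ U) UY (fun z hz => ⟨hz, z.2⟩)) :=
    isIso_appLE (g ⁻¹ᵁ U).ι (W₀ ⊓ g ⁻¹ᵁ U) UY (by
      ext z; exact ⟨fun h => ⟨h, z.2⟩, fun h => h.1⟩) (by rw [Scheme.Opens.opensRange_ι]; exact inf_le_right)
  rw [← Scheme.Hom.map_appLE (g ⁻¹ᵁ U).ι (U := W₀ ⊓ g ⁻¹ᵁ U) (show UY ≤ _ from fun z hz => ⟨hz, z.2⟩)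
    (homOfLE inf_le_left).op] at hiso
  haveI := IsIso.of_isIso_comp_right (W.presheaf.map (homOfLE (inf_le_left : W₀ ⊓ g ⁻¹ᵁ U ≤ W₀)).op)
    ((g ⁻¹ᵁ U).ι.appLE (W₀ ⊓ g ⁻¹ᵁ U) UY (fun z hz => ⟨hz, z.2⟩))
  exact ConcreteCategory.bijective_of_isIso _

/-- Sections extend uniquely across points of depth at least two downstairs. -/
theorem bijective_res
    (hU : ∀ x : X, x ∉ U → (2 : ℕ∞) ≤ LocCoh.depth (X.presheaf.stalk x) (X.presheaf.stalk x)) (O : W.Opens) :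
    Function.Bijective (W.presheaf.map (homOfLE (inf_le_left : O ⊓ g ⁻¹ᵁ U ≤ O)).op) := by
  have hcov : ∀ (O : W.Opens) (w : O), ∃ (W₀ : W.Opens), IsAffineOpen W₀ ∧ (w : W) ∈ W₀ ∧ W₀ ≤ O ∧
      ∃ V₀ : X.Opens, IsAffineOpen V₀ ∧ W₀ ≤ g ⁻¹ᵁ V₀ := fun O w => by
    obtain ⟨_, ⟨V₀, hV₀, rfl⟩, hwV, -⟩ :=
      X.isBasis_affineOpens.exists_subset_of_mem_open (Set.mem_univ (g.base w)) isOpen_univ
    obtain ⟨_, ⟨W₀, hW₀, rfl⟩, hwW, hsub⟩ := W.isBasis_affineOpens.exists_subset_of_mem_open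
      (show (w : W) ∈ O ⊓ g ⁻¹ᵁ V₀ from ⟨w.2, hwV⟩) (O ⊓ g ⁻¹ᵁ V₀).2
    exact ⟨W₀, hW₀, hwW, fun z hz => (hsub hz).1, V₀, hV₀, fun z hz => (hsub hz).2⟩
  have hmap : ∀ {A B C : W.Opens} (h : B ≤ A) (h' : C ≤ B) (s : Γ(W, A)),
      W.presheaf.map (homOfLE h').op (W.presheaf.map (homOfLE h).op s) =
        W.presheaf.map (homOfLE (h'.trans h)).op s := fun h h' s => by
    rw [← ConcreteCategory.comp_apply, ← W.presheaf.map_comp]; rfl
  have hinj : ∀ O : W.Opens, Function.Injective (W.presheaf.map (homOfLE (inf_le_left : O ⊓ g ⁻¹ᵁ U ≤ O)).op) := by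
    intro O s t hst
    choose W₀ hW₀ hwW hle V₀ hV₀ hgV using hcov O
    refine TopCat.Sheaf.eq_of_locally_eq' W.sheaf W₀ O (fun w => homOfLE (hle w))
      (fun z hz => Opens.mem_iSup.2 ⟨⟨z, hz⟩, hwW ⟨z, hz⟩⟩) s t fun w => ?_
    refine (bijective_res_of_isAffineOpen g U hU (hV₀ w) (hW₀ w) (hgV w)).1 ?_
    show W.presheaf.map (homOfLE inf_le_left).op (W.presheaf.map (homOfLE (hle w)).op s) =
      W.presheaf.map (homOfLE inf_le_left).op (W.presheaf.map (homOfLE (hle w)).op t)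
    have := congrArg (W.presheaf.map (homOfLE (inf_le_inf_right (g ⁻¹ᵁ U) (hle w))).op) hst
    rw [hmap, hmap] at this
    rw [hmap, hmap]
    exact this
  refine ⟨hinj O, fun s => ?_⟩
  choose W₀ hW₀ hwW hle V₀ hV₀ hgV using hcov O
  choose t ht using fun w => (bijective_res_of_isAffineOpen g U hU (hV₀ w) (hW₀ w) (hgV w)).2
    (W.presheaf.map (homOfLE (inf_le_inf_right (g ⁻¹ᵁ U) (hle w))).op s)
  obtain ⟨r, hr, -⟩ := W.sheaf.existsUnique_gluing' W₀ O (fun w => homOfLE (hle w))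
    (fun z hz => Opens.mem_iSup.2 ⟨⟨z, hz⟩, hwW ⟨z, hz⟩⟩) t fun w w' => by
    refine hinj (W₀ w ⊓ W₀ w') ?_
    show W.presheaf.map (homOfLE inf_le_left).op (W.presheaf.map (homOfLE (inf_le_left : W₀ w ⊓ W₀ w' ≤ W₀ w)).op (t w)) =
      W.presheaf.map (homOfLE inf_le_left).op (W.presheaf.map (homOfLE (inf_le_right : W₀ w ⊓ W₀ w' ≤ W₀ w')).op (t w'))
    have h1 := congrArg (W.presheaf.map (homOfLE (show W₀ w ⊓ W₀ w' ⊓ g ⁻¹ᵁ U ≤ W₀ w ⊓ g ⁻¹ᵁ U from
      inf_le_inf_right _ inf_le_left)).op) (ht w)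
    have h2 := congrArg (W.presheaf.map (homOfLE (show W₀ w ⊓ W₀ w' ⊓ g ⁻¹ᵁ U ≤ W₀ w' ⊓ g ⁻¹ᵁ U from
      inf_le_inf_right _ inf_le_right)).op) (ht w')
    rw [hmap, hmap] at h1 h2
    rw [hmap, hmap]
    exact h1.trans h2.symm
  refine ⟨r, TopCat.Sheaf.eq_of_locally_eq' W.sheaf (fun w => W₀ w ⊓ g ⁻¹ᵁ U) (O ⊓ g ⁻¹ᵁ U)
    (fun w => homOfLE (inf_le_inf_right _ (hle w)))
    (fun z hz => Opens.mem_iSup.2 ⟨⟨z, hz.1⟩, hwW ⟨z, hz.1⟩, hz.2⟩) _ s fun w => ?_⟩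
  show W.presheaf.map (homOfLE (inf_le_inf_right _ (hle w))).op (W.presheaf.map (homOfLE inf_le_left).op r) =
    W.presheaf.map (homOfLE (inf_le_inf_right _ (hle w))).op s
  rw [← ht w, ← hr w, hmap]
  exact (hmap (hle w) inf_le_left r).symm

/-- Global functions on an open containing the preimage. -/
theorem bijective_appTop
    (hU : ∀ x : X, x ∉ U → (2 : ℕ∞) ≤ LocCoh.depth (X.presheaf.stalk x) (X.presheaf.stalk x))
    {P : Scheme.{u}} (i : P ⟶ W) [IsOpenImmersion i] (hi : g ⁻¹ᵁ U ≤ i.opensRange) :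
    Function.Bijective i.appTop := by
  haveI : IsIso (i.appLE i.opensRange ⊤ (fun z _ => ⟨z, rfl⟩)) :=
    isIso_appLE i _ _ (le_antisymm (fun z _ => ⟨z, rfl⟩) le_top) le_rfl
  have h1 : Function.Bijective (W.presheaf.map (homOfLE (le_top : i.opensRange ≤ ⊤)).op) := by
    have hmap : ∀ {C : W.Opens} (h' : C ≤ i.opensRange) (s : Γ(W, ⊤)),
        W.presheaf.map (homOfLE h').op (W.presheaf.map (homOfLE le_top).op s) =
          W.presheaf.map (homOfLE le_top).op s := fun h' s => by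
      rw [← ConcreteCategory.comp_apply, ← W.presheaf.map_comp]; rfl
    have hd : ∀ (D : W.Opens), D = g ⁻¹ᵁ U → Function.Bijective (W.presheaf.map (homOfLE (le_top : D ≤ ⊤)).op) := by
      intro D hD
      subst hD
      have := bijective_res g U hU ⊤
      have he : (⊤ : W.Opens) ⊓ g ⁻¹ᵁ U = g ⁻¹ᵁ U := top_inf_eq _
      convert (ConcreteCategory.bijective_of_isIso (W.presheaf.map (eqToHom he.symm).op)).comp this using 1
      funext s
      rw [Function.comp_apply, ← ConcreteCategory.comp_apply, ← W.presheaf.map_comp]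
      rfl
    have h2 := hd _ rfl
    have h3 := bijective_res g U hU i.opensRange
    refine ⟨fun s t h => h2.1 ?_, fun s => ?_⟩
    · have := congrArg (W.presheaf.map (homOfLE hi).op) h
      rwa [hmap, hmap] at this
    · obtain ⟨t, ht⟩ := h2.2 (W.presheaf.map (homOfLE hi).op s)
      refine ⟨t, h3.1 ?_⟩
      rw [hmap]
      have h4 := congrArg (W.presheaf.map (homOfLE (inf_le_right : i.opensRange ⊓ g ⁻¹ᵁ U ≤ g ⁻¹ᵁ U)).op) ht
      rw [← ConcreteCategory.comp_apply, ← ConcreteCategory.comp_apply, ← W.presheaf.map_comp, ← W.presheaf.map_comp] at h4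
      exact h4
  have he : i.appTop = W.presheaf.map (homOfLE (le_top : i.opensRange ≤ ⊤)).op ≫
      i.appLE i.opensRange ⊤ (fun z _ => ⟨z, rfl⟩) := by
    rw [Scheme.Hom.map_appLE, Scheme.Hom.appTop, Scheme.Hom.app_eq_appLE]
    rfl
  rw [he]
  exact (ConcreteCategory.bijective_of_isIso (i.appLE i.opensRange ⊤ (fun z _ => ⟨z, rfl⟩))).comp h1

/-- Restriction of covers to an open containing the preimage is fully faithful. -/
theorem restrict_full_faithful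
    (hU : ∀ x : X, x ∉ U → (2 : ℕ∞) ≤ LocCoh.depth (X.presheaf.stalk x) (X.presheaf.stalk x))
    {P : Scheme.{u}} (i : P ⟶ W) [IsOpenImmersion i] (hi : g ⁻¹ᵁ U ≤ i.opensRange) :
    (FEt.restrict i).Full ∧ (FEt.restrict i).Faithful := by
  have hC : ∀ C : Set W, IsClopen C → C.Nonempty → (C ∩ Set.range i.base).Nonempty := by
    intro C hC ⟨c, hc⟩
    by_contra hne
    let O : W.Opens := ⟨C, hC.2⟩
    have hbot : O ⊓ g ⁻¹ᵁ U = ⊥ := le_bot_iff.1 fun z hz => hne ⟨z, hz.1, hi hz.2⟩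
    haveI : Subsingleton Γ(W, O ⊓ g ⁻¹ᵁ U) := by
      rw [hbot]
      exact CommRingCat.subsingleton_of_isTerminal W.sheaf.isTerminalOfEmpty
    haveI : Subsingleton Γ(W, O) := (bijective_res g U hU O).1.subsingleton
    haveI : Subsingleton (W.presheaf.stalk c) := by
      refine subsingleton_of_zero_eq_one ?_
      rw [← map_zero (W.presheaf.germ O c hc).hom, ← map_one (W.presheaf.germ O c hc).hom,
        Subsingleton.elim (0 : Γ(W, O)) 1]
    exact not_nontrivial (W.presheaf.stalk c) inferInstance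
  refine ⟨Pi1X.restrict_full i hC fun Y C hYC => ?_, Pi1X.restrict_faithful i hC⟩
  let y : Y.left ⟶ W := Y.hom
  haveI : Etale y := Y.prop.2
  haveI : IsOpenImmersion (pullback.fst y i) := MorphismProperty.pullback_fst _ _ inferInstance
  refine Pi1X.exists_isClopen_preimage _ (bijective_appTop (y ≫ g) U hU (pullback.fst y i) ?_) C hYC
  intro z hz
  show z ∈ Set.range (pullback.fst y i).base
  rw [Scheme.Pullback.range_fst]
  exact hi (show y.base z ∈ g ⁻¹ᵁ U from hz)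

end Groth.Agent.Pi1Ext.FlatHartogs
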