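import Groth.Agent.Pi1Ext.BranchSch
import Groth.Agent.Pi1Ext.ComplEtale
import Groth.Agent.S2195

/-! A flat quasi-finite point unramified in codimension one is étale. -/

set_option autoImplicit false
set_option linter.style.haveILetI false
universe u

open IsLocalRing TensorProduct AlgebraicGeometry CategoryTheory

namespace Groth.Agent.Pi1Ext.FlatUnram

open ComplModel

set_option backward.isDefEq.respectTransparency false
set_option backward.isDefEq.respectTransparency.types false
attribute [local instance] Algebra.TensorProduct.rightAlgebra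

/-- Between the bottom of a chain of length two and the closed point, every element of the maximal ideal
lies in a prime. -/
theorem exists_prime_between {R : Type u} [CommRing R] [IsLocalRing R] [IsNoetherianRing R]
    {P0 P1 P2 : Ideal R} [P0.IsPrime] [P1.IsPrime] [P2.IsPrime] (h01 : P0 < P1) (h12 : P1 < P2)
    (g : R) (hg : g ∈ maximalIdeal R) : ∃ P : Ideal R, P.IsPrime ∧ P0 ≤ P ∧ g ∈ P ∧ P ≠ maximalIdeal R := by
  by_contra! hno
  let π := Ideal.Quotient.mk P0
  haveI : IsLocalRing (R ⧸ P0) := IsLocalRing.of_surjective' π Ideal.Quotient.mk_surjective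
  have hπ : (maximalIdeal (R ⧸ P0)).comap π = maximalIdeal R :=
    IsLocalRing.eq_maximalIdeal (Ideal.comap_isMaximal_of_surjective π Ideal.Quotient.mk_surjective)
  have hmin : maximalIdeal (R ⧸ P0) ∈ (Ideal.span {π g}).minimalPrimes := by
    refine ⟨⟨inferInstance, ?_⟩, fun P hP hle => ?_⟩
    · rw [Ideal.span_le, Set.singleton_subset_iff]
      exact Ideal.mem_comap.1 (hπ.ge hg)
    · haveI := hP.1
      have h := hno (P.comap π) (Ideal.comap_isPrime _ _)
        (fun x hx => Ideal.mem_comap.2 (by rw [Ideal.Quotient.eq_zero_iff_mem.2 hx]; exact zero_mem _))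
        (Ideal.mem_comap.2 (hP.2 (Ideal.mem_span_singleton_self _)))
      rw [← Ideal.map_comap_of_surjective π Ideal.Quotient.mk_surjective P, h, ← hπ,
        Ideal.map_comap_of_surjective π Ideal.Quotient.mk_surjective]
  have hle := Ideal.height_le_one_of_isPrincipal_of_mem_minimalPrimes _ _ hmin
  have hk : ∀ {I : Ideal R}, P0 ≤ I → (I.map π).comap π = I := fun {I} h => by
    rw [Ideal.comap_map_of_surjective π Ideal.Quotient.mk_surjective, ← RingHom.ker_eq_comap_bot,
      Ideal.mk_ker, sup_eq_left.2 h]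
  haveI hp1 : (P1.map π).IsPrime :=
    Ideal.map_isPrime_of_surjective Ideal.Quotient.mk_surjective (by rw [Ideal.mk_ker]; exact h01.le)
  haveI hp2 : (P2.map π).IsPrime :=
    Ideal.map_isPrime_of_surjective Ideal.Quotient.mk_surjective (by rw [Ideal.mk_ker]; exact (h01.trans h12).le)
  have l1 : P1.map π < P2.map π := by
    refine lt_of_le_of_ne (Ideal.map_mono h12.le) fun he => h12.ne ?_
    rw [← hk h01.le, he, hk (h01.trans h12).le]
  have l0 : (⊥ : Ideal (R ⧸ P0)) < P1.map π := by
    refine bot_lt_iff_ne_bot.2 fun he => h01.ne ?_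
    rw [← hk h01.le, he, ← RingHom.ker_eq_comap_bot, Ideal.mk_ker]
  have e1 := Ideal.height_strict_mono_of_isPrime_of_isPrime l1
  have e0 := Ideal.height_strict_mono_of_isPrime_of_isPrime l0
  have e2 : (P2.map π).height ≤ (maximalIdeal (R ⧸ P0)).height :=
    Ideal.height_mono (le_maximalIdeal hp2.ne_top)
  exact absurd ((e1.trans_le (e2.trans hle))) (not_lt.2 (ENat.one_le_iff_ne_zero.2 (ne_bot_of_gt e0)))

/-- A finite flat non-étale local algebra over a local ring of dimension two is non-étale at a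
non-closed prime lying above the bottom of a chain of length two. -/
theorem exists_nonEtale {R B : Type u} [CommRing R] [IsLocalRing R] [IsNoetherianRing R] [CommRing B]
    [IsLocalRing B] [Algebra R B] [Module.Finite R B] [Module.Flat R B] (hdim : (2 : WithBot ℕ∞) ≤ ringKrullDim R)
    (hne : ¬ Algebra.Etale R B) :
    ∃ (Q Q0 Q1 Q2 : Ideal B) (_ : Q.IsPrime) (_ : Q0.IsPrime) (_ : Q1.IsPrime) (_ : Q2.IsPrime),
      Q ≠ maximalIdeal B ∧ ¬ Algebra.IsEtaleAt R Q ∧ Q0 ≤ Q ∧ Q0 < Q1 ∧ Q1 < Q2 := by
  classical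
  haveI : Module.Free R B := Module.free_of_flat_of_isLocalRing
  let b := Module.finBasis R B
  have hu : ¬ IsUnit (Algebra.discr R b) := fun hc => hne ((Groth.Agent.S2195.result b).2 hc)
  obtain ⟨l, hl⟩ := (Order.le_krullDim_iff (α := PrimeSpectrum R) (n := 2)).1 hdim
  let p0 := (l ⟨0, by omega⟩).asIdeal
  let p1 := (l ⟨1, by omega⟩).asIdeal
  let p2 := (l ⟨2, by omega⟩).asIdeal
  have h01 : p0 < p1 := l.strictMono (show (⟨0, by omega⟩ : Fin (l.length + 1)) < ⟨1, by omega⟩ by exact Fin.mk_lt_mk.2 (by omega))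
  have h12 : p1 < p2 := l.strictMono (show (⟨1, by omega⟩ : Fin (l.length + 1)) < ⟨2, by omega⟩ by exact Fin.mk_lt_mk.2 (by omega))
  obtain ⟨P, hPp, hP0, hPd, hPm⟩ := exists_prime_between h01 h12 (Algebra.discr R b) hu
  haveI := hPp
  obtain ⟨Q, hQ, hQR, hQe⟩ : ∃ (Q : Ideal B) (_ : Q.IsPrime),
      Q.comap (algebraMap R B) = P ∧ ¬ Algebra.IsEtaleAt R Q := by
    let AR := Localization.AtPrime P
    let BR := BranchAlg.Sloc (S := B) P
    haveI : IsLocalization (Algebra.algebraMapSubmonoid B P.primeCompl) BR := inferInstance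
    haveI : Module.Finite AR BR := Module.Finite.of_isLocalization R B P.primeCompl
    haveI : IsNoetherianRing AR := IsLocalization.isNoetherianRing P.primeCompl AR inferInstance
    haveI : Algebra.FinitePresentation AR BR :=
      (Algebra.FinitePresentation.of_finiteType (R := AR) (A := BR)).mp inferInstance
    let bR := b.localizationLocalization AR P.primeCompl BR
    have hnu : ¬ IsUnit (Algebra.discr AR bR) := by
      rw [Algebra.discr_localizationLocalization R P.primeCompl (Rₘ := AR) BR b]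
      intro hc
      exact (IsLocalization.AtPrime.isUnit_to_map_iff AR P _).1 hc hPd
    obtain ⟨z, hz⟩ : ∃ z : PrimeSpectrum BR, z ∉ Algebra.etaleLocus AR BR := by
      by_contra! hall
      exact hnu ((Groth.Agent.S2195.result bR).1
        (Algebra.etaleLocus_eq_univ_iff_etale.1 (Set.eq_univ_of_forall hall)))
    obtain ⟨M, hM, hzM⟩ := Ideal.exists_le_maximal z.asIdeal z.2.ne_top
    have hMe : ¬ Algebra.IsEtaleAt AR M := fun hh => hz (BranchAlg.isEtaleAt_of_le hzM hh)
    have hMA : M.comap (algebraMap AR BR) = maximalIdeal AR :=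
      IsLocalRing.eq_maximalIdeal (Ideal.isMaximal_comap_of_isIntegral_of_isMaximal (R := AR) (S := BR) M)
    refine ⟨M.comap (algebraMap B BR), Ideal.comap_isPrime _ _, ?_,
      fun hh => hMe (BranchAlg.formallyEtale P _ M rfl hh)⟩
    rw [Ideal.comap_comap, ← IsScalarTower.algebraMap_eq, IsScalarTower.algebraMap_eq R AR BR,
      ← Ideal.comap_comap, hMA]
    exact Localization.AtPrime.under_maximalIdeal
  haveI : Q.LiesOver P := ⟨hQR.symm⟩
  obtain ⟨Q0, hQ0Q, _, hQ0o⟩ := Ideal.exists_ideal_le_liesOver_of_le Q (p := p0) (q := P) hP0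
  obtain ⟨Q1, hQ01, _, hQ1⟩ := Ideal.exists_ideal_over_prime_of_isIntegral_of_isPrime p1 Q0
    (hQ0o.over.symm.trans_le h01.le)
  obtain ⟨Q2, hQ12, _, hQ2⟩ := Ideal.exists_ideal_over_prime_of_isIntegral_of_isPrime p2 Q1
    (hQ1.trans_le h12.le)
  refine ⟨Q, Q0, Q1, Q2, hQ, inferInstance, inferInstance, inferInstance, fun he => hPm ?_, hQe, hQ0Q,
    lt_of_le_of_ne hQ01 fun he => h01.ne (by rw [← hQ1, ← he]; exact hQ0o.over),
    lt_of_le_of_ne hQ12 fun he => h12.ne (by rw [← hQ1, ← hQ2, he])⟩
  rw [← hQR, he]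
  exact IsLocalRing.eq_maximalIdeal
    (Ideal.isMaximal_comap_of_isIntegral_of_isMaximal (R := R) (maximalIdeal B))

variable {A : Type u} [CommRing A] [IsLocalRing A] [IsNoetherianRing A] {S : Type u} [CommRing S] [Algebra A S]
  [Algebra.FiniteType A S] (q : Ideal S) [q.IsPrime] (hqm : q.comap (algebraMap A S) = maximalIdeal A)
  [Algebra.QuasiFiniteAt A q] [Module.Flat A (Localization.AtPrime q)]

include hqm in
theorem isEtaleAt_flat_local (h2 : (2 : WithBot ℕ∞) ≤ ringKrullDim (Localization.AtPrime q))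
    (h : ∀ (t : Ideal S) (_ : t.IsPrime), t < q → 1 ≤ t.height → Algebra.IsEtaleAt A t) :
    Algebra.IsEtaleAt A q := by
  haveI : IsNoetherianRing S := Algebra.FiniteType.isNoetherianRing A S
  haveI : Algebra.FinitePresentation A S := Algebra.FinitePresentation.of_finiteType.mp inferInstance
  haveI := LC.Canon.isNoetherianRing_completion (R := A)
  haveI := finite q hqm
  haveI : Module.Flat (Ac A) (Cc q hqm) := ComplEtale.flat_completion q hqm
  haveI : IsNoetherianRing (Cc q hqm) := IsNoetherianRing.of_finite (Ac A) (Cc q hqm)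
  let C' := Cc q hqm
  by_cases hu : Algebra.Etale (Ac A) C'
  · haveI := hu
    exact ComplEtale.isEtaleAt_of_etale_completion q hqm
  exfalso
  letI := (toCc q hqm).toAlgebra
  haveI : IsLocalHom (algebraMap (Localization.AtPrime q) C') := toCc_isLocalHom q hqm
  haveI : Module.Flat (Localization.AtPrime q) C' := toCc_flat q hqm
  have hdim : (2 : WithBot ℕ∞) ≤ ringKrullDim (Ac A) := by
    refine h2.trans ?_
    rw [← Groth.Agent.Hensel.ringKrullDim_eq_of_flat_of_map_maximalIdeal_eq
      (R := Localization.AtPrime q) (S := C') (map_maximalIdeal_toCc q hqm)]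
    exact Order.krullDim_le_of_strictMono (PrimeSpectrum.comap (algebraMap (Ac A) C'))
      fun P P' hlt => Ideal.IsIntegral.comap_lt_comap hlt
  obtain ⟨Qn, Q0, Q1, Q2, _, _, _, _, hQm, hQe, hQ0Q, hlt01, hlt12⟩ :=
    exists_nonEtale (R := Ac A) (B := C') hdim hu
  let φ : S →+* C' := (algebraMap (Ac A ⊗[A] S) C').comp (algebraMap S (Ac A ⊗[A] S))
  let t : Ideal S := (Qn.comap (algebraMap (Ac A ⊗[A] S) C')).comap (algebraMap S (Ac A ⊗[A] S))
  haveI : t.IsPrime := Ideal.comap_isPrime _ _
  have htq : t < q := ComplEtale.under_lt q hqm Qn hQm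
  have hte : ¬ Algebra.IsEtaleAt A t := fun hh => hQe (isEtaleAt_of_isEtaleAt q hqm Qn fun s hs hseq => by
    subst hseq; exact hh)
  have ht0 : t.height = 0 := by
    by_contra hne
    exact hte (h t inferInstance htq (ENat.one_le_iff_ne_zero.2 hne))
  have hQ0t : (Q0.comap (algebraMap (Ac A ⊗[A] S) C')).comap (algebraMap S (Ac A ⊗[A] S)) = t := by
    refine le_antisymm (Ideal.comap_mono (Ideal.comap_mono hQ0Q)) ?_
    by_contra hne
    have hlt : (Q0.comap (algebraMap (Ac A ⊗[A] S) C')).comap (algebraMap S (Ac A ⊗[A] S)) < t :=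
      lt_of_le_of_ne (Ideal.comap_mono (Ideal.comap_mono hQ0Q)) fun he => hne he.ge
    haveI : ((Q0.comap (algebraMap (Ac A ⊗[A] S) C')).comap (algebraMap S (Ac A ⊗[A] S))).IsPrime :=
      Ideal.comap_isPrime _ _
    have := Ideal.height_strict_mono_of_isPrime_of_isPrime hlt
    rw [ht0] at this
    exact not_lt_zero this
  obtain ⟨g, hgq, hgt⟩ := SetLike.exists_of_lt htq
  have hgm : φ g ∈ maximalIdeal C' := by
    have h1 : algebraMap S (Ac A ⊗[A] S) g ∈ Q q hqm := (Q_under q hqm).ge hgq
    have h2 := Ideal.mem_map_of_mem (algebraMap (Ac A ⊗[A] S) C') h1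
    rwa [Localization.AtPrime.map_eq_maximalIdeal] at h2
  obtain ⟨P, hP, hP0, hPg, hPm⟩ := exists_prime_between hlt01 hlt12 (φ g) hgm
  haveI := hP
  let s : Ideal S := (P.comap (algebraMap (Ac A ⊗[A] S) C')).comap (algebraMap S (Ac A ⊗[A] S))
  haveI : s.IsPrime := Ideal.comap_isPrime _ _
  have hts : t ≤ s := hQ0t ▸ Ideal.comap_mono (Ideal.comap_mono hP0)
  have hts' : t < s := lt_of_le_of_ne hts fun he => hgt (he ▸ (show g ∈ s from hPg))
  have h1s : 1 ≤ s.height :=
    ENat.one_le_iff_ne_zero.2 (ne_bot_of_gt (Ideal.height_strict_mono_of_isPrime_of_isPrime hts'))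
  exact hte (BranchAlg.isEtaleAt_of_le hts (h s inferInstance (ComplEtale.under_lt q hqm P hPm) h1s))

/-- Flat, quasi-finite, unramified in codimension one: étale. -/
theorem isEtaleAt_flat_global {A S : Type u} [CommRing A] [IsNoetherianRing A] [CommRing S] [Algebra A S]
    [Algebra.FiniteType A S] [Module.Flat A S] (q : Ideal S) [q.IsPrime] [Algebra.QuasiFiniteAt A q]
    (h1 : (1 : WithBot ℕ∞) ≤ ringKrullDim (Localization.AtPrime q))
    (hunr : ∀ (t : Ideal S) (_ : t.IsPrime), t ≤ q → t.height = 1 → Algebra.IsUnramifiedAt A t) :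
    Algebra.IsEtaleAt A q := by
  haveI : IsNoetherianRing S := Algebra.FiniteType.isNoetherianRing A S
  haveI : Algebra.FinitePresentation A S := Algebra.FinitePresentation.of_finiteType.mp inferInstance
  suffices H : ∀ (n : ℕ) (t : Ideal S) [t.IsPrime], t ≤ q → t.height = n → 1 ≤ n → Algebra.IsEtaleAt A t by
    obtain ⟨n, hn⟩ := WithTop.ne_top_iff_exists.1 (Ideal.height_ne_top (I := q) (Ideal.IsPrime.ne_top inferInstance))
    refine H n q le_rfl hn.symm ?_
    rw [IsLocalization.AtPrime.ringKrullDim_eq_height q, ← hn] at h1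
    exact WithTop.coe_le_coe.1 (WithBot.coe_le_coe.1 h1)
  intro n
  induction n using Nat.strong_induction_on with
  | _ n ih =>
    intro t _ htq hn h1n
    rcases eq_or_lt_of_le h1n with rfl | hlt
    · haveI := hunr t inferInstance htq hn
      exact Algebra.IsEtaleAt.of_isUnramifiedAt_of_flat t
    · let p : Ideal A := t.comap (algebraMap A S)
      haveI : p.IsPrime := Ideal.comap_isPrime _ _
      haveI : Algebra.QuasiFiniteAt A t := Algebra.QuasiFiniteAt.of_le htq
      obtain ⟨t', ht', hts, htm⟩ := BranchAlg.exists_over p t rfl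
      haveI := BranchAlg.quasiFiniteAt p t t' hts
      haveI : IsNoetherianRing (BranchAlg.Sloc (S := S) p) :=
        Algebra.FiniteType.isNoetherianRing (Localization.AtPrime p) (BranchAlg.Sloc (S := S) p)
      haveI : Module.Flat A (Localization.AtPrime t) := Module.Flat.trans A S _
      haveI : Module.Flat A (Localization.AtPrime t') :=
        Module.Flat.of_linearEquiv (BranchAlg.locEquiv p t t' hts).symm.toLinearEquiv
      haveI : Module.Flat (Localization.AtPrime p) (Localization.AtPrime t') :=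
        (Module.flat_iff_of_isLocalization (Localization.AtPrime p) p.primeCompl (Localization.AtPrime t')).2
          inferInstance
      refine BranchAlg.formallyEtale_symm p t t' hts (isEtaleAt_flat_local t' htm ?_ fun u hu hult h1u => ?_)
      · rw [← ringKrullDim_eq_of_ringEquiv (BranchAlg.locEquiv p t t' hts).toRingEquiv,
          IsLocalization.AtPrime.ringKrullDim_eq_height t, hn]
        exact WithBot.coe_le_coe.2 (Nat.ofNat_le_cast.2 hlt)
      · haveI := hu
        let v : Ideal S := u.comap (algebraMap S (BranchAlg.Sloc (S := S) p))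
        haveI : v.IsPrime := Ideal.comap_isPrime _ _
        have hv : v.height = u.height := IsLocalization.height_under (Algebra.algebraMapSubmonoid S p.primeCompl) u
        have hvt : v.height < t.height := by
          rw [hv, ← hts, show (t'.comap (algebraMap S (BranchAlg.Sloc (S := S) p))).height = t'.height from
            IsLocalization.height_under (Algebra.algebraMapSubmonoid S p.primeCompl) t']
          exact Ideal.height_strict_mono_of_isPrime_of_isPrime hult
        obtain ⟨k, hk⟩ := WithTop.ne_top_iff_exists.1 (ne_top_of_lt hvt)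
        rw [← hk, hn] at hvt
        refine BranchAlg.formallyEtale p v u rfl (ih k (WithTop.coe_lt_coe.1 hvt) v
          (((Ideal.comap_mono hult.le).trans_eq hts).trans htq) hk.symm ?_)
        rw [← hv, ← hk] at h1u
        exact WithTop.coe_le_coe.1 h1u

/-- A flat quasi-finite point unramified in codimension one is étale. -/
theorem exists_etale_nhd_of_flat {X Y : Scheme.{u}} (f : X ⟶ Y) [LocallyOfFiniteType f] [Flat f]
    [IsLocallyNoetherian Y] (x : X) (hq : f.QuasiFiniteAt x)
    (hdim1 : (1 : WithBot ℕ∞) ≤ ringKrullDim (X.presheaf.stalk x))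
    (hunr : ∀ x' : X, x' ⤳ x → ringKrullDim (X.presheaf.stalk x') = 1 →
      (f.stalkMap x').hom.FormallyUnramified) :
    ∃ U : X.Opens, x ∈ U ∧ Etale (U.ι ≫ f) := by
  obtain ⟨U, hU, hxU, -⟩ := exists_isAffineOpen_mem_and_subset (x := f x) (U := ⊤) trivial
  obtain ⟨V, hV, hxV, hVU⟩ := exists_isAffineOpen_mem_and_subset (x := x) (U := f ⁻¹ᵁ U) hxU
  have hFT := f.finiteType_appLE hU hV hVU
  have hfl := f.flat_appLE hU hV hVU
  have hqf := hq.quasiFiniteAt hV hU hVU hxV
  letI := (f.appLE U V hVU).hom.toAlgebra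
  haveI : IsNoetherianRing Γ(Y, U) := IsLocallyNoetherian.component_noetherian ⟨U, hU⟩
  haveI : Algebra.FiniteType Γ(Y, U) Γ(X, V) := hFT
  haveI : Module.Flat Γ(Y, U) Γ(X, V) := hfl
  haveI : Algebra.FinitePresentation Γ(Y, U) Γ(X, V) :=
    Algebra.FinitePresentation.of_finiteType.mp inferInstance
  refine BranchSch.exists_etale_of_isEtaleAt f hU hV hVU x hxV ⟨inferInstance, ?_⟩
  let q := (hV.primeIdealOf ⟨x, hxV⟩).asIdeal
  haveI : Algebra.QuasiFiniteAt Γ(Y, U) q := hqf
  letI := TopCat.Presheaf.algebra_section_stalk X.presheaf (U := V) ⟨x, hxV⟩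
  haveI := hV.isLocalization_stalk ⟨x, hxV⟩
  let ex := (IsLocalization.algEquiv q.primeCompl (Localization.AtPrime q)
    (X.presheaf.stalk ((⟨x, hxV⟩ : V) : X))).toRingEquiv
  refine isEtaleAt_flat_global q (hdim1.trans (ringKrullDim_eq_of_ringEquiv ex).ge) fun t ht htq hone => ?_
  let x' : X := hV.fromSpec ⟨t, ht⟩
  have hx'V : x' ∈ V := hV.range_fromSpec.subset ⟨_, rfl⟩
  have hprime : hV.primeIdealOf ⟨x', hx'V⟩ = ⟨t, ht⟩ :=
    hV.fromSpec.isOpenEmbedding.injective (hV.fromSpec_primeIdealOf _)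
  have hspec : x' ⤳ x := by
    have := ((PrimeSpectrum.le_iff_specializes ⟨t, ht⟩ (hV.primeIdealOf ⟨x, hxV⟩)).1 htq).map
      hV.fromSpec.continuous
    exact this.trans (specializes_of_eq (hV.fromSpec_primeIdealOf ⟨x, hxV⟩))
  letI := TopCat.Presheaf.algebra_section_stalk X.presheaf (U := V) ⟨x', hx'V⟩
  haveI := hV.isLocalization_stalk ⟨x', hx'V⟩
  have hd1 : ringKrullDim (X.presheaf.stalk x') = 1 := by
    rw [show ringKrullDim (X.presheaf.stalk x') =
      ringKrullDim (X.presheaf.stalk ((⟨x', hx'V⟩ : V) : X)) from rfl,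
      IsLocalization.AtPrime.ringKrullDim_eq_height (hV.primeIdealOf ⟨x', hx'V⟩).asIdeal, hprime]
    exact congrArg _ hone
  let p' := (hU.primeIdealOf ⟨f x', hVU hx'V⟩).asIdeal
  let q' := (hV.primeIdealOf ⟨x', hx'V⟩).asIdeal
  have : q'.LiesOver p' := ⟨congr($(IsAffineOpen.comap_primeIdealOf_appLE U hU V hV hVU hx'V).1).symm⟩
  letI := Localization.AtPrime.algebraOfLiesOver p' q'
  haveI : Algebra.FormallyUnramified (Localization.AtPrime p') (Localization.AtPrime q') := by
    rw [← RingHom.formallyUnramified_algebraMap]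
    exact (RingHom.FormallyUnramified.respectsIso.arrow_mk_iso_iff
      (IsAffineOpen.arrowStalkMapIso f U hU V hV hVU hx'V)).mp (hunr x' hspec hd1)
  have hu : Algebra.IsUnramifiedAt Γ(Y, U) q' :=
    Algebra.FormallyUnramified.comp _ (Localization.AtPrime p') _
  have key : ∀ (a b : Ideal Γ(X, V)) (_ : a.IsPrime) (_ : b.IsPrime), a = b →
      Algebra.IsUnramifiedAt Γ(Y, U) a → Algebra.IsUnramifiedAt Γ(Y, U) b := fun a b _ _ hab h => by
    subst hab; exact h
  exact key q' t inferInstance ht (congrArg PrimeSpectrum.asIdeal hprime) hu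

end Groth.Agent.Pi1Ext.FlatUnram
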