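import Groth.Agent.S0289
import Groth.Agent.S12073
import Groth.Agent.Pi1Ext.SepClosureLim
import Mathlib

/-! # Finite étale covers of a geometric fibre come from finite separable extensions -/

set_option autoImplicit false
universe u

open CategoryTheory CategoryTheory.Limits AlgebraicGeometry

noncomputable section

namespace Groth.Agent.Pi1Ext.Geom

set_option backward.isDefEq.respectTransparency false
set_option backward.isDefEq.respectTransparency.types false

variable {k : Type u} [Field k] {X : Scheme.{u}} (f : X ⟶ Spec (CommRingCat.of k))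

/-- Base change to a `k`-algebra. -/
abbrev bcs (A : Type u) [CommRing A] [Algebra k A] : Scheme.{u} :=
  pullback f (Spec.map (CommRingCat.ofHom (algebraMap k A)))

/-- The map of base changes along an algebra map. -/
def bcm {A B : Type u} [CommRing A] [Algebra k A] [CommRing B] [Algebra k B] (φ : A →ₐ[k] B) : bcs f B ⟶ bcs f A :=
  pullback.lift (pullback.fst _ _) (pullback.snd _ _ ≫ Spec.map (CommRingCat.ofHom φ.toRingHom)) (by
    rw [Category.assoc, ← Spec.map_comp, ← CommRingCat.ofHom_comp,
      show φ.toRingHom.comp (algebraMap k A) = algebraMap k B from φ.comp_algebraMap]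
    exact pullback.condition)

@[reassoc]
theorem bcm_fst {A B : Type u} [CommRing A] [Algebra k A] [CommRing B] [Algebra k B] (φ : A →ₐ[k] B) :
    bcm f φ ≫ pullback.fst _ _ = pullback.fst _ _ := pullback.lift_fst _ _ _

theorem bcm_snd {A B : Type u} [CommRing A] [Algebra k A] [CommRing B] [Algebra k B] (φ : A →ₐ[k] B) :
    bcm f φ ≫ pullback.snd _ _ = pullback.snd _ _ ≫ Spec.map (CommRingCat.ofHom φ.toRingHom) :=
  pullback.lift_snd _ _ _

theorem isPullback_bcm {A B : Type u} [CommRing A] [Algebra k A] [CommRing B] [Algebra k B] (φ : A →ₐ[k] B) :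
    IsPullback (bcm f φ) (pullback.snd _ _) (pullback.snd _ _) (Spec.map (CommRingCat.ofHom φ.toRingHom)) := by
  refine IsPullback.of_right ?_ (bcm_snd f φ) (IsPullback.of_hasPullback f (Spec.map (CommRingCat.ofHom (algebraMap k A))))
  rw [bcm_fst, ← Spec.map_comp, ← CommRingCat.ofHom_comp,
    show φ.toRingHom.comp (algebraMap k A) = algebraMap k B from φ.comp_algebraMap]
  exact IsPullback.of_hasPullback f _

theorem bcm_comp {A B C : Type u} [CommRing A] [Algebra k A] [CommRing B] [Algebra k B] [CommRing C] [Algebra k C]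
    (φ : A →ₐ[k] B) (ψ : B →ₐ[k] C) : bcm f ψ ≫ bcm f φ = bcm f (ψ.comp φ) := by
  refine pullback.hom_ext ?_ ?_
  · rw [Category.assoc, bcm_fst, bcm_fst, bcm_fst]
  · rw [Category.assoc, bcm_snd, ← Category.assoc, bcm_snd, bcm_snd, Category.assoc, ← Spec.map_comp]
    rfl

theorem fet_SpecMap (E : Type u) [Field E] [Algebra k E] [FiniteDimensional k E] [Algebra.IsSeparable k E] :
    IsFinite (Spec.map (CommRingCat.ofHom (algebraMap k E))) ∧ Etale (Spec.map (CommRingCat.ofHom (algebraMap k E))) := by
  refine ⟨(IsFinite.SpecMap_iff _).mpr (RingHom.finite_algebraMap.mpr inferInstance), ?_⟩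
  haveI : Algebra.Etale k E := ⟨Algebra.FormallyEtale.of_isSeparable k E,
    Algebra.FinitePresentation.of_finiteType.mp inferInstance⟩
  exact (HasRingHomProperty.Spec_iff (P := @Etale)).mpr (RingHom.etale_algebraMap.mpr inferInstance)

theorem fet_fst (E : Type u) [Field E] [Algebra k E] [FiniteDimensional k E] [Algebra.IsSeparable k E] :
    FEt.prop (pullback.fst f (Spec.map (CommRingCat.ofHom (algebraMap k E)))) :=
  MorphismProperty.pullback_fst (P := FEt.prop) _ _ (fet_SpecMap E)

theorem uh_bcm {A B : Type u} [Field A] [Algebra k A] [Field B] [Algebra k B] (φ : A →ₐ[k] B)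
    (hi : letI := φ.toRingHom.toAlgebra; IsPurelyInseparable A B) :
    IsIntegralHom (bcm f φ) ∧ UniversallyInjective (bcm f φ) ∧ Surjective (bcm f φ) := by
  letI := φ.toRingHom.toAlgebra
  haveI := hi
  haveI h1 : IsIntegralHom (Spec.map (CommRingCat.ofHom φ.toRingHom)) :=
    IsIntegralHom.SpecMap_iff.mpr (show φ.toRingHom.IsIntegral from fun x => IsPurelyInseparable.isIntegral.isIntegral x)
  haveI h2 : UniversallyInjective (Spec.map (CommRingCat.ofHom φ.toRingHom)) := by
    refine ((tfae_universallyInjective _).out 0 1).2 fun L hL g₁ g₂ hg => ?_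
    obtain ⟨a, rfl⟩ := Spec.map_surjective g₁
    obtain ⟨b, rfl⟩ := Spec.map_surjective g₂
    have hg' : CommRingCat.ofHom φ.toRingHom ≫ a = CommRingCat.ofHom φ.toRingHom ≫ b :=
      Spec.map_injective (by rw [Spec.map_comp, Spec.map_comp]; exact hg)
    congr 1
    ext1
    letI := hL
    exact IsPurelyInseparable.injective_comp_algebraMap A B L congr($(hg').hom)
  haveI h3 : Surjective (Spec.map (CommRingCat.ofHom φ.toRingHom)) :=
    ⟨fun x => ⟨IsLocalRing.closedPoint B, @Subsingleton.elim _ (inferInstanceAs (Subsingleton (PrimeSpectrum A))) _ _⟩⟩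
  exact ⟨MorphismProperty.of_isPullback (P := @IsIntegralHom) (isPullback_bcm f φ).flip h1,
    MorphismProperty.of_isPullback (P := @UniversallyInjective) (isPullback_bcm f φ).flip h2,
    MorphismProperty.of_isPullback (P := @Surjective) (isPullback_bcm f φ).flip h3⟩

theorem exists_separable_model [CompactSpace X] [QuasiSeparatedSpace X] (K : Type u) [Field K] [Algebra k K]
    [Algebra.IsAlgebraic k K] (V : FEt.Cat (bcs f K)) :
    ∃ (E : Type u) (_ : Field E) (_ : Algebra k E) (_ : FiniteDimensional k E) (_ : Algebra.IsSeparable k E)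
      (ι : E →ₐ[k] K) (VE : FEt.Cat (bcs f E)), Nonempty ((FEt.restrict (bcm f ι)).obj VE ≅ V) := by
  let D := SepLim.diag k K f
  let c := SepLim.cone k K f
  haveI : ∀ (i j : (Finset K)ᵒᵖ) (φ : i ⟶ j), IsAffineHom (D.map φ) := fun _ _ φ => SepLim.isAffineHom_map k K f φ
  haveI : ∀ i, CompactSpace (D.obj i) := fun i => SepLim.compactSpace_obj k K f i
  haveI : ∀ i, QuasiSeparatedSpace (D.obj i) := fun i => SepLim.quasiSeparatedSpace_obj k K f i
  obtain ⟨j, Vj, ⟨e⟩⟩ := (Groth.Agent.S12073.result D c (SepLim.isLimitCone k K f)).1 V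
  let L : IntermediateField k K := SepLim.sub k K j.unop
  haveI : FiniteDimensional k L := IntermediateField.finiteDimensional_adjoin fun x _ => Algebra.IsIntegral.isIntegral x
  let S : IntermediateField k L := separableClosure k L
  let φ : S →ₐ[k] L := S.val
  have hi : letI := φ.toRingHom.toAlgebra; IsPurelyInseparable S L := separableClosure.isPurelyInseparable k L
  obtain ⟨h1, h2, h3⟩ := uh_bcm f φ hi
  haveI := h1
  haveI := h2
  haveI := h3
  haveI := Groth.Agent.S0289.result (bcm f φ)
  refine ⟨S, inferInstance, inferInstance, inferInstance, inferInstance, L.val.comp φ,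
    (FEt.restrict (bcm f φ)).objPreimage Vj, ⟨?_⟩⟩
  have hval : bcm f (L.val.comp φ) = bcm f L.val ≫ bcm f φ := (bcm_comp f φ L.val).symm
  exact eqToIso (by rw [hval]; rfl) ≪≫
    (MorphismProperty.Over.pullbackComp (P := FEt.prop) (Q := ⊤) (bcm f L.val) (bcm f φ)).app _ ≪≫
    (FEt.restrict (bcm f L.val)).mapIso ((FEt.restrict (bcm f φ)).objObjPreimageIso Vj) ≪≫ e

end Groth.Agent.Pi1Ext.Geom
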