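import Groth.Agent.Pi1Ext.GeomModel
import Groth.Agent.Pi1Ext.UHDescent
import Mathlib

/-! # Sections over a geometric fibre of étale schemes come from finite separable extensions -/

set_option autoImplicit false
universe u

open CategoryTheory CategoryTheory.Limits AlgebraicGeometry

noncomputable section

namespace Groth.Agent.Pi1Ext.Geom

set_option backward.isDefEq.respectTransparency false
set_option backward.isDefEq.respectTransparency.types false

variable {k : Type u} [Field k] {X : Scheme.{u}} (f : X ⟶ Spec (CommRingCat.of k))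

theorem exists_separable_section [CompactSpace X] [QuasiSeparatedSpace X] (K : Type u) [Field K] [Algebra k K]
    [Algebra.IsAlgebraic k K] {W : Scheme.{u}} (h : W ⟶ X) [Etale h] (s : bcs f K ⟶ W)
    (hs : s ≫ h = pullback.fst _ _) :
    ∃ (E : Type u) (_ : Field E) (_ : Algebra k E) (_ : FiniteDimensional k E) (_ : Algebra.IsSeparable k E)
      (ι : E →ₐ[k] K) (s' : bcs f E ⟶ W), s' ≫ h = pullback.fst _ _ ∧ bcm f ι ≫ s' = s := by
  haveI : ∀ i, CompactSpace ((SepLim.diag k K f).obj i) := fun i => SepLim.compactSpace_obj k K f i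
  haveI : ∀ i, QuasiSeparatedSpace ((SepLim.diag k K f).obj i) := fun i => SepLim.quasiSeparatedSpace_obj k K f i
  haveI : ∀ {i j : (Finset K)ᵒᵖ} (φ : i ⟶ j), IsAffineHom ((SepLim.diag k K f).map φ) := fun φ =>
    SepLim.isAffineHom_map k K f φ
  let t : SepLim.diag k K f ⟶ (Functor.const (Finset K)ᵒᵖ).obj X :=
    { app := fun j => pullback.fst f (SepLim.str k K j)
      naturality := fun i j g => (pullback.lift_fst _ _ _).trans (Category.comp_id _).symm }
  obtain ⟨j, g, hg₁, hg₂⟩ := Scheme.exists_π_app_comp_eq_of_locallyOfFinitePresentation (SepLim.diag k K f) t h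
    (SepLim.cone k K f) (SepLim.isLimitCone k K f) s (NatTrans.ext (funext fun j => by
      show SepLim.proj k K f j ≫ pullback.fst f (SepLim.str k K j) = s ≫ h
      exact (pullback.lift_fst _ _ _).trans hs.symm))
  let L : IntermediateField k K := SepLim.sub k K j.unop
  haveI : FiniteDimensional k L := IntermediateField.finiteDimensional_adjoin fun x _ => Algebra.IsIntegral.isIntegral x
  let S : IntermediateField k L := separableClosure k L
  let φ : S →ₐ[k] L := S.val
  obtain ⟨h1, h2, h3⟩ := uh_bcm f φ (separableClosure.isPurelyInseparable k L)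
  haveI := h1
  haveI := h2
  haveI := h3
  obtain ⟨⟨v, hv⟩, hv'⟩ := (UH.lifts_bijective (bcm f φ) h (pullback.fst _ _)).2
    ⟨g, hg₂.trans (bcm_fst f φ).symm⟩
  refine ⟨S, inferInstance, inferInstance, inferInstance, inferInstance, L.val.comp φ, v, hv, ?_⟩
  rw [← bcm_comp f φ L.val, Category.assoc, show bcm f φ ≫ v = g from congrArg Subtype.val hv']
  exact hg₁

end Groth.Agent.Pi1Ext.Geom
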