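import Groth.Agent.Pi1Ext.CechTors
import Groth.Agent.Hensel.Factor
import Mathlib.RingTheory.Spectrum.Prime.Topology
import Mathlib.RingTheory.Filtration

/-! Clopen subsets of a punctured finite scheme and of its hypersurface section. -/

set_option autoImplicit false
set_option linter.style.haveILetI false
universe u

open IsLocalRing

noncomputable section

namespace Groth.Agent.Pi1Ext.HyperClopen

open CechTors

variable {A : Type u} [CommRing A] (G : Finset A) (C : Type u) [CommRing C] [Algebra A C]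

/-- The localization at one generator. -/
abbrev Cg (g : A) : Type u := Localization.Away (algebraMap A C g)

/-- The products of the localizations. -/
abbrev L : Type u := ∀ g : G, Cg C g.1

/-- The localizations at products of two generators. -/
abbrev L2 : Type u := ∀ g h : G, Cg C (g.1 * h.1)

theorem isUnit_mul (g h : A) :
    IsUnit (algebraMap C (Cg C (g * h)) (algebraMap A C g) * algebraMap C (Cg C (g * h)) (algebraMap A C h)) := by
  rw [← map_mul, ← map_mul]
  exact IsLocalization.Away.algebraMap_isUnit _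

theorem isUnit_left (g h : A) (y : Submonoid.powers (algebraMap A C g)) :
    IsUnit (algebraMap C (Cg C (g * h)) y) := by
  obtain ⟨_, n, rfl⟩ := y
  have := isUnit_mul C g h
  show IsUnit (algebraMap C (Cg C (g * h)) (algebraMap A C g ^ n))
  rw [map_pow]
  exact (isUnit_of_mul_isUnit_left this).pow n

theorem isUnit_right (g h : A) (y : Submonoid.powers (algebraMap A C h)) :
    IsUnit (algebraMap C (Cg C (g * h)) y) := by
  obtain ⟨_, n, rfl⟩ := y
  have := isUnit_mul C g h
  show IsUnit (algebraMap C (Cg C (g * h)) (algebraMap A C h ^ n))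
  rw [map_pow]
  exact (isUnit_of_mul_isUnit_right this).pow n

/-- Restriction from the left factor. -/
def resL (g h : A) : Cg C g →+* Cg C (g * h) := IsLocalization.lift (isUnit_left C g h)

/-- Restriction from the right factor. -/
def resR (g h : A) : Cg C h →+* Cg C (g * h) := IsLocalization.lift (isUnit_right C g h)

theorem resL_algebraMap (g h : A) (c : C) : resL C g h (algebraMap C _ c) = algebraMap C _ c :=
  IsLocalization.lift_eq _ c

theorem resR_algebraMap (g h : A) (c : C) : resR C g h (algebraMap C _ c) = algebraMap C _ c :=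
  IsLocalization.lift_eq _ c

/-- A fraction. -/
def fr (g : A) (k : ℕ) (c : C) : Cg C g :=
  IsLocalization.mk' (Cg C g) c (⟨algebraMap A C g ^ k, k, rfl⟩ : Submonoid.powers (algebraMap A C g))

theorem fr_spec (g : A) (k : ℕ) (c : C) : algebraMap C (Cg C g) (g ^ k • (1 : C)) * fr C g k c = algebraMap C _ c := by
  rw [Algebra.smul_def, mul_one, map_pow (algebraMap A C)]
  exact IsLocalization.mk'_spec' (Cg C g) c (⟨algebraMap A C g ^ k, k, rfl⟩ : Submonoid.powers (algebraMap A C g))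

theorem exists_fr (g : A) (x : Cg C g) : ∃ (k : ℕ) (c : C), x = fr C g k c := by
  obtain ⟨c, ⟨_, k, rfl⟩, rfl⟩ := IsLocalization.exists_mk'_eq (Submonoid.powers (algebraMap A C g)) x
  exact ⟨k, c, rfl⟩

theorem eq_of_smul_eq (g : A) (k : ℕ) {x y : Cg C g}
    (h : algebraMap C (Cg C g) (g ^ k • (1 : C)) * x = algebraMap C (Cg C g) (g ^ k • (1 : C)) * y) : x = y := by
  refine IsUnit.mul_left_cancel ?_ h
  rw [Algebra.smul_def, mul_one, map_pow, map_pow]
  exact (IsLocalization.Away.algebraMap_isUnit (S := Cg C g) (algebraMap A C g)).pow k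

theorem fr_lift (g : A) (k e : ℕ) (c : C) : fr C g (k + e) (g ^ e • c) = fr C g k c := by
  refine eq_of_smul_eq C g (k + e) ?_
  rw [fr_spec, show g ^ (k + e) • (1 : C) = (g ^ e • (1 : C)) * (g ^ k • (1 : C)) by
    rw [smul_mul_smul_comm, one_mul, ← pow_add, add_comm], map_mul, mul_assoc, fr_spec, ← map_mul,
    smul_mul_assoc, one_mul]

theorem fr_eq_zero {g : A} {k : ℕ} {c : C} : fr C g k c = 0 ↔ ∃ e : ℕ, g ^ e • c = 0 := by
  rw [fr, IsLocalization.mk'_eq_zero_iff]
  constructor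
  · rintro ⟨⟨_, e, rfl⟩, he⟩; exact ⟨e, by rw [Algebra.smul_def, map_pow]; exact he⟩
  · rintro ⟨e, he⟩
    exact ⟨⟨_, e, rfl⟩, by rw [Algebra.smul_def, map_pow] at he; exact he⟩

theorem resL_fr (g h : A) (k : ℕ) (c : C) : resL C g h (fr C g k c) = fr C (g * h) k (h ^ k • c) := by
  refine eq_of_smul_eq C (g * h) k ?_
  rw [fr_spec, show (g * h) ^ k • (1 : C) = (h ^ k • (1 : C)) * (g ^ k • (1 : C)) by
    rw [smul_mul_smul_comm, one_mul, ← mul_pow, mul_comm g], map_mul (algebraMap C (Cg C (g * h))), mul_assoc,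
    ← resL_algebraMap C g h (g ^ k • (1 : C)), ← map_mul, fr_spec, resL_algebraMap, ← map_mul, smul_mul_assoc, one_mul]

theorem resR_fr (g h : A) (k : ℕ) (c : C) : resR C g h (fr C h k c) = fr C (g * h) k (g ^ k • c) := by
  refine eq_of_smul_eq C (g * h) k ?_
  rw [fr_spec, show (g * h) ^ k • (1 : C) = (g ^ k • (1 : C)) * (h ^ k • (1 : C)) by
    rw [smul_mul_smul_comm, one_mul, ← mul_pow], map_mul (algebraMap C (Cg C (g * h))), mul_assoc,
    ← resR_algebraMap C g h (h ^ k • (1 : C)), ← map_mul, fr_spec, resR_algebraMap, ← map_mul, smul_mul_assoc, one_mul]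

theorem fr_sub (g : A) (k : ℕ) (c d : C) : fr C g k c - fr C g k d = fr C g k (c - d) := by
  refine eq_of_smul_eq C g k ?_
  rw [mul_sub, fr_spec, fr_spec, fr_spec, map_sub]

/-- Left restriction of families. -/
def toL : L G C →+* L2 G C :=
  Pi.ringHom fun g => Pi.ringHom fun h => (resL C g.1 h.1).comp (Pi.evalRingHom (fun g : G => Cg C g.1) g)

/-- Right restriction of families. -/
def toR : L G C →+* L2 G C :=
  Pi.ringHom fun g => Pi.ringHom fun h => (resR C g.1 h.1).comp (Pi.evalRingHom (fun g : G => Cg C g.1) h)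

/-- The ring of compatible families. -/
def Compat : Subring (L G C) := RingHom.eqLocus (toL G C) (toR G C)

theorem mem_compat {w : L G C} : w ∈ Compat G C ↔ ∀ g h : G, resL C g.1 h.1 (w g) = resR C g.1 h.1 (w h) :=
  ⟨fun hw g h => congrFun (congrFun hw g) h, fun hw => funext fun g => funext fun h => hw g h⟩

/-- The diagonal. -/
def dg : C →+* L G C := Pi.ringHom fun g => algebraMap C (Cg C g.1)

theorem dg_mem (c : C) : dg G C c ∈ Compat G C := (mem_compat G C).2 fun g h => by
  show resL C g.1 h.1 (algebraMap C _ c) = resR C g.1 h.1 (algebraMap C _ c)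
  rw [resL_algebraMap, resR_algebraMap]

/-- An exact normal form for compatible families. -/
theorem exists_rep {w : L G C} (hw : w ∈ Compat G C) :
    ∃ (k : ℕ) (m : G → C), (∀ g h : G, h.1 ^ k • m g = g.1 ^ k • m h) ∧ ∀ g, w g = fr C g.1 k (m g) := by
  choose k c hc using fun g : G => exists_fr C g.1 (w g)
  let K := Finset.univ.sup k
  let c' : G → C := fun g => g.1 ^ (K - k g) • c g
  have hc' : ∀ g, w g = fr C g.1 K (c' g) := fun g => by
    rw [hc g, ← fr_lift C g.1 (k g) (K - k g), Nat.add_sub_cancel' (Finset.le_sup (Finset.mem_univ g))]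
  have h1 : ∀ g h : G, ∃ e : ℕ, (g.1 * h.1) ^ e • (h.1 ^ K • c' g - g.1 ^ K • c' h) = 0 := fun g h => by
    have h2 := (mem_compat G C).1 hw g h
    rw [hc' g, hc' h, resL_fr, resR_fr, ← sub_eq_zero, fr_sub] at h2
    exact (fr_eq_zero C).1 h2
  choose e he using h1
  let E := Finset.univ.sup fun p : G × G => e p.1 p.2
  refine ⟨K + E, fun g => g.1 ^ E • c' g, fun g h => ?_, fun g => by rw [hc' g, fr_lift]⟩
  obtain ⟨d, hd⟩ := Nat.exists_eq_add_of_le (Finset.le_sup (f := fun p : G × G => e p.1 p.2) (Finset.mem_univ (g, h)))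
  have h0 : (g.1 * h.1) ^ E • (h.1 ^ K • c' g - g.1 ^ K • c' h) = 0 := by
    rw [show E = e g h + d from hd, pow_add, mul_comm, mul_smul, he, smul_zero]
  rw [smul_sub, sub_eq_zero] at h0
  show h.1 ^ (K + E) • g.1 ^ E • c' g = g.1 ^ (K + E) • h.1 ^ E • c' h
  generalize c' g = u at h0 ⊢
  generalize c' h = v at h0 ⊢
  simp only [smul_smul] at h0 ⊢
  convert h0 using 2 <;> ring

theorem smul_apply_eq (c : A) (w : L G C) (g : G) : (c • w) g = algebraMap C (Cg C g.1) (algebraMap A C c) * w g := by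
  rw [Pi.smul_apply, Algebra.smul_def, IsScalarTower.algebraMap_apply A C (Cg C g.1)]

/-- Compatible families come from `C` up to annihilators. -/
theorem exists_dg_eq_smul {c : A} (h0 : T0 G C c) {w : L G C} (hw : w ∈ Compat G C) :
    ∃ x : C, dg G C x = c • w := by
  obtain ⟨k, m, hm, hwm⟩ := exists_rep G C hw
  obtain ⟨x, l, hx⟩ := h0 k m hm
  refine ⟨x, funext fun g => ?_⟩
  rw [smul_apply_eq, hwm g]
  refine eq_of_smul_eq C g.1 (l + k) ?_
  show algebraMap C _ _ * algebraMap C _ x = _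
  rw [← map_mul, smul_mul_assoc, one_mul, hx g,
    show g.1 ^ (l + k) • (1 : C) = g.1 ^ l • (g.1 ^ k • (1 : C)) by rw [smul_smul, ← pow_add],
    Algebra.smul_def (g.1 ^ l) (g.1 ^ k • (1 : C)), Algebra.smul_def (g.1 ^ l) (c • m g), Algebra.smul_def c (m g),
    map_mul, map_mul, map_mul, mul_assoc, mul_left_comm (algebraMap C (Cg C g.1) (g.1 ^ k • (1 : C))), fr_spec]

/-- Two idempotents agreeing at the primes containing `f` agree modulo powers of `f`. -/
theorem sub_mem_of_agree {R : Type u} [CommRing R] (f : R) (m : ℕ) {a b : R}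
    (ha : a * a - a ∈ Ideal.span {f ^ m}) (hb : b * b - b ∈ Ideal.span {f ^ m})
    (h : ∀ q : PrimeSpectrum R, f ∈ q.asIdeal → (a ∈ q.asIdeal ↔ b ∈ q.asIdeal)) :
    a - b ∈ Ideal.span {f ^ m} := by
  rcases Nat.eq_zero_or_pos m with rfl | hm
  · rw [pow_zero, Ideal.span_singleton_one]; trivial
  let π := Ideal.Quotient.mk (Ideal.span {f ^ m})
  have hid : ∀ x : R, x * x - x ∈ Ideal.span {f ^ m} → IsIdempotentElem (π x) := fun x hx => by
    show π x * π x = π x
    rw [← map_mul]
    exact Ideal.Quotient.eq.2 hx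
  refine Ideal.Quotient.eq.1 (eq_of_isNilpotent_sub_of_isIdempotentElem (hid a ha) (hid b hb) ?_)
  have hrad : a - b ∈ (Ideal.span {f}).radical := by
    rw [Ideal.radical_eq_sInf, Ideal.mem_sInf]
    rintro q ⟨hfq, hq⟩
    have hf : f ∈ q := hfq (Ideal.mem_span_singleton_self f)
    have hfm : Ideal.span {f ^ m} ≤ q :=
      (Ideal.span_singleton_le_iff_mem q).2 (Ideal.pow_mem_of_mem q hf m hm)
    have key : ∀ x : R, x * x - x ∈ Ideal.span {f ^ m} → x ∉ q → x - 1 ∈ q := fun x hx hxq => by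
      refine (hq.mem_or_mem (?_ : x * (x - 1) ∈ q)).resolve_left hxq
      rw [mul_sub, mul_one]
      exact hfm hx
    have hab : a ∈ q ↔ b ∈ q := h ⟨q, hq⟩ hf
    by_cases haq : a ∈ q
    · exact q.sub_mem haq (hab.1 haq)
    · have := q.sub_mem (key a ha haq) (key b hb fun hbq => haq (hab.2 hbq))
      rwa [sub_sub_sub_cancel_right] at this
  obtain ⟨N, hN⟩ := hrad
  refine ⟨N * m, ?_⟩
  rw [← map_sub, ← map_pow, Ideal.Quotient.eq_zero_iff_mem, pow_mul]
  rw [Ideal.mem_span_singleton] at hN ⊢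
  exact pow_dvd_pow_of_dvd hN m

/-- A clopen subset of a closed subset of an affine scheme is cut out by an element. -/
theorem exists_clopen_elem {R : Type u} [CommRing R] (f : R) (m : ℕ) (hm : 0 < m)
    (O O' : Set (PrimeSpectrum R)) (hO : IsOpen O) (hO' : IsOpen O')
    (hcov : ∀ q : PrimeSpectrum R, f ∈ q.asIdeal → q ∈ O ∨ q ∈ O')
    (hdis : ∀ q : PrimeSpectrum R, f ∈ q.asIdeal → q ∈ O → q ∉ O') :
    ∃ a : R, a * a - a ∈ Ideal.span {f ^ m} ∧
      ∀ q : PrimeSpectrum R, f ∈ q.asIdeal → (q ∈ O ↔ a ∉ q.asIdeal) := by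
  let I : Ideal R := Ideal.span {f ^ m}
  let π := PrimeSpectrum.comap (Ideal.Quotient.mk I)
  have hπ : ∀ P : PrimeSpectrum (R ⧸ I), f ∈ (π P).asIdeal := fun P => by
    refine (π P).2.mem_of_pow_mem m ?_
    show Ideal.Quotient.mk I (f ^ m) ∈ P.asIdeal
    rw [Ideal.Quotient.eq_zero_iff_mem.2 (Ideal.mem_span_singleton_self _)]
    exact zero_mem _
  have hcl : IsClopen (π ⁻¹' O) := by
    refine ⟨?_, hO.preimage (PrimeSpectrum.continuous_comap _)⟩
    have : π ⁻¹' O = (π ⁻¹' O')ᶜ := Set.ext fun P =>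
      ⟨fun h => hdis _ (hπ P) h, fun h => (hcov _ (hπ P)).resolve_right h⟩
    rw [this]
    exact (hO'.preimage (PrimeSpectrum.continuous_comap _)).isClosed_compl
  obtain ⟨e, he, hs⟩ := PrimeSpectrum.exists_idempotent_basicOpen_eq_of_isClopen hcl
  obtain ⟨a, rfl⟩ := Ideal.Quotient.mk_surjective e
  refine ⟨a, Ideal.Quotient.eq.1 (by rw [map_mul]; exact he), fun q hq => ?_⟩
  obtain ⟨P, rfl⟩ : q ∈ Set.range π := by
    rw [range_comap_of_surjective _ _ Ideal.Quotient.mk_surjective, Ideal.mk_ker]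
    exact (Ideal.span_singleton_le_iff_mem _).2 (Ideal.pow_mem_of_mem _ hq m hm)
  rw [show π P ∈ O ↔ P ∈ π ⁻¹' O from Iff.rfl, hs]
  rfl

variable {G C}

theorem comap_mem_iff {g : A} (q : PrimeSpectrum C) :
    algebraMap A C g ∉ q.asIdeal ↔ q ∈ Set.range (PrimeSpectrum.comap (algebraMap C (Cg C g))) := by
  rw [PrimeSpectrum.localization_away_comap_range (Cg C g) (algebraMap A C g)]
  rfl

theorem comap_injective (g : A) : Function.Injective (PrimeSpectrum.comap (algebraMap C (Cg C g))) :=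
  PrimeSpectrum.localization_comap_injective _ (Submonoid.powers (algebraMap A C g))

/-- The points where a family does not vanish. -/
def supp (w : L G C) : Set (PrimeSpectrum C) :=
  {q | ∃ (g : G) (P : PrimeSpectrum (Cg C g.1)), PrimeSpectrum.comap (algebraMap C (Cg C g.1)) P = q ∧ w g ∉ P.asIdeal}

theorem isOpen_supp (w : L G C) : IsOpen (supp w) := by
  have : supp w = ⋃ g : G, PrimeSpectrum.comap (algebraMap C (Cg C g.1)) '' (PrimeSpectrum.basicOpen (w g) : Set _) := by
    ext q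
    simp only [supp, Set.mem_setOf_eq, Set.mem_iUnion, Set.mem_image, SetLike.mem_coe, PrimeSpectrum.mem_basicOpen]
    exact exists_congr fun g => exists_congr fun P => and_comm
  rw [this]
  exact isOpen_iUnion fun g => (PrimeSpectrum.localization_away_isOpenEmbedding (Cg C g.1)
    (algebraMap A C g.1)).isOpenMap _ (PrimeSpectrum.basicOpen (w g)).2

theorem mem_supp_iff {w : L G C} (hw : w ∈ Compat G C) (g : G) (P : PrimeSpectrum (Cg C g.1)) :
    PrimeSpectrum.comap (algebraMap C (Cg C g.1)) P ∈ supp w ↔ w g ∉ P.asIdeal := by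
  refine ⟨?_, fun h => ⟨g, P, rfl, h⟩⟩
  rintro ⟨h, Q, hQP, hQ⟩ hP
  let q := PrimeSpectrum.comap (algebraMap C (Cg C g.1)) P
  obtain ⟨R, hR⟩ : q ∈ Set.range (PrimeSpectrum.comap (algebraMap C (Cg C (g.1 * h.1)))) := by
    rw [← comap_mem_iff, map_mul]
    intro hmem
    rcases q.2.mem_or_mem hmem with h' | h'
    · exact (comap_mem_iff q).2 ⟨P, rfl⟩ h'
    · exact (comap_mem_iff q).2 ⟨Q, hQP⟩ h'
  have hl : PrimeSpectrum.comap (resL C g.1 h.1) R = P := comap_injective g.1 (by
    show PrimeSpectrum.comap _ (PrimeSpectrum.comap (resL C g.1 h.1) R) = q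
    rw [← PrimeSpectrum.comap_comp_apply, resL, IsLocalization.lift_comp]
    exact hR)
  have hr : PrimeSpectrum.comap (resR C g.1 h.1) R = Q := comap_injective h.1 (by
    rw [← PrimeSpectrum.comap_comp_apply, resR, IsLocalization.lift_comp]
    exact hR.trans hQP.symm)
  rw [← hl] at hP
  rw [← hr] at hQ
  exact hQ (show resR C g.1 h.1 (w h) ∈ R.asIdeal from ((mem_compat G C).1 hw g h) ▸ hP)

/-- A bound on the torsion. -/
theorem exists_torsion_bound [IsNoetherianRing C] (f : A) :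
    ∃ e : ℕ, ∀ (i : ℕ) (y : C), f ^ i • y = 0 → f ^ e • y = 0 := by
  let f' := algebraMap A C f
  let K : ℕ →o Ideal C := ⟨fun i => LinearMap.ker (LinearMap.toSpanSingleton C C (f' ^ i)), fun i j hij y hy => by
    have hy' : y * f' ^ i = 0 := hy
    show y * f' ^ j = 0
    rw [← Nat.add_sub_cancel' hij, pow_add, ← mul_assoc, hy', zero_mul]⟩
  obtain ⟨e, he⟩ := monotone_stabilizes_iff_noetherian.2 (inferInstanceAs (IsNoetherian C C)) K
  refine ⟨e, fun i y hy => ?_⟩
  rw [Algebra.smul_def, map_pow, mul_comm] at hy ⊢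
  have h1 : y ∈ K (max i e) := K.mono (le_max_left i e) hy
  rw [← he _ (le_max_right i e)] at h1
  exact h1

theorem torsion_bound_loc {f : A} {e : ℕ} (he : ∀ (i : ℕ) (y : C), f ^ i • y = 0 → f ^ e • y = 0) (g : A)
    (i : ℕ) (z : Cg C g) (hz : f ^ i • z = 0) : f ^ e • z = 0 := by
  obtain ⟨k, c, rfl⟩ := exists_fr C g z
  have hsm : ∀ j : ℕ, f ^ j • fr C g k c = fr C g k (f ^ j • c) := fun j => by
    refine eq_of_smul_eq C g k ?_
    rw [mul_smul_comm, fr_spec, fr_spec, ← algebraMap.coe_smul]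
  rw [hsm, fr_eq_zero] at hz ⊢
  obtain ⟨l, hl⟩ := hz
  exact ⟨l, by rw [smul_comm]; exact he i _ (by rw [smul_comm]; exact hl)⟩

/-- Idempotents on the hypersurface section lift. -/
theorem exists_idempotent_family [IsNoetherianRing C] [Module.Finite A C] {f : A} [HenselianRing A (Ideal.span {f})]
    {n : ℕ} (h0 : T0 G C (f ^ n)) (h1 : T1 G C (f ^ n)) (O O' : Set (PrimeSpectrum C)) (hO : IsOpen O) (hO' : IsOpen O')
    (hcov : ∀ (g : G) (q : PrimeSpectrum C), algebraMap A C f ∈ q.asIdeal → algebraMap A C g.1 ∉ q.asIdeal → q ∈ O ∨ q ∈ O')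
    (hdis : ∀ (g : G) (q : PrimeSpectrum C), algebraMap A C f ∈ q.asIdeal → algebraMap A C g.1 ∉ q.asIdeal → q ∈ O → q ∉ O') :
    ∃ ε ∈ Compat G C, ε * ε = ε ∧
      ∀ q : PrimeSpectrum C, algebraMap A C f ∈ q.asIdeal → (∃ g : G, algebraMap A C g.1 ∉ q.asIdeal) →
        (q ∈ supp ε ↔ q ∈ O) := by
  classical
  obtain ⟨e, he⟩ := exists_torsion_bound (C := C) f
  let j := n + e + 1
  let m := j + n + e
  let F := fun g : A => algebraMap C (Cg C g) (algebraMap A C f)
  -- local idempotents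
  have hloc : ∀ g : G, ∃ a : Cg C g.1, a * a - a ∈ Ideal.span {F g.1 ^ m} ∧
      ∀ P : PrimeSpectrum (Cg C g.1), F g.1 ∈ P.asIdeal →
        (PrimeSpectrum.comap (algebraMap C (Cg C g.1)) P ∈ O ↔ a ∉ P.asIdeal) := fun g =>
    exists_clopen_elem _ m (by omega) _ _ (hO.preimage (PrimeSpectrum.continuous_comap _))
      (hO'.preimage (PrimeSpectrum.continuous_comap _))
      (fun P hP => hcov g _ hP ((comap_mem_iff _).2 ⟨P, rfl⟩))
      (fun P hP => hdis g _ hP ((comap_mem_iff _).2 ⟨P, rfl⟩))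
  choose a ha haO using hloc
  have hagree : ∀ g h : G, ∃ z, resR C g.1 h.1 (a h) - resL C g.1 h.1 (a g) = F (g.1 * h.1) ^ m * z := fun g h => by
    have hmem : ∀ {R R' : Type u} [CommRing R] [CommRing R'] (φ : R →+* R') (F₁ : R) (F₂ : R'), φ F₁ = F₂ →
        ∀ x, x * x - x ∈ Ideal.span {F₁ ^ m} → φ x * φ x - φ x ∈ Ideal.span {F₂ ^ m} := fun φ F₁ F₂ hF x hx => by
      rw [Ideal.mem_span_singleton] at hx ⊢
      obtain ⟨y, hy⟩ := hx
      exact ⟨φ y, by rw [← map_mul, ← map_sub, hy, map_mul, map_pow, hF]⟩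
    have hFR : resR C g.1 h.1 (F h.1) = F (g.1 * h.1) := resR_algebraMap C g.1 h.1 _
    have hFL : resL C g.1 h.1 (F g.1) = F (g.1 * h.1) := resL_algebraMap C g.1 h.1 _
    have := sub_mem_of_agree (F (g.1 * h.1)) m (hmem _ _ _ hFR _ (ha h)) (hmem _ _ _ hFL _ (ha g)) fun P hP => by
      have hP' : ∀ (φ : Cg C h.1 →+* Cg C (g.1 * h.1)), φ (F h.1) = F (g.1 * h.1) → F h.1 ∈ (PrimeSpectrum.comap φ P).asIdeal :=
        fun φ hφ => show φ (F h.1) ∈ P.asIdeal by rw [hφ]; exact hP
      have eR := haO h (PrimeSpectrum.comap (resR C g.1 h.1) P) (hP' _ hFR)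
      have eL := haO g (PrimeSpectrum.comap (resL C g.1 h.1) P) (show resL C g.1 h.1 (F g.1) ∈ P.asIdeal by rw [hFL]; exact hP)
      rw [← PrimeSpectrum.comap_comp_apply, resR, IsLocalization.lift_comp] at eR
      rw [← PrimeSpectrum.comap_comp_apply, resL, IsLocalization.lift_comp] at eL
      exact not_iff_not.1 (eR.symm.trans eL)
    rw [Ideal.mem_span_singleton] at this
    obtain ⟨z, hz⟩ := this
    exact ⟨z, hz⟩
  choose z hz using hagree
  -- numerators
  choose k₀ c₀ hc₀ using fun g : G => exists_fr C g.1 (a g)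
  let K := Finset.univ.sup k₀
  let c : G → C := fun g => g.1 ^ (K - k₀ g) • c₀ g
  have hc : ∀ g, a g = fr C g.1 K (c g) := fun g => by
    rw [hc₀ g, ← fr_lift C g.1 (k₀ g) (K - k₀ g), Nat.add_sub_cancel' (Finset.le_sup (Finset.mem_univ g))]
  choose p₀ D₀ hD₀ using fun gh : G × G => exists_fr C (gh.1.1 * gh.2.1) (z gh.1 gh.2)
  let p := Finset.univ.sup p₀
  let D : G → G → C := fun g h => (g.1 * h.1) ^ (p - p₀ (g, h)) • D₀ (g, h)
  have hD : ∀ g h, z g h = fr C (g.1 * h.1) p (D g h) := fun g h => by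
    rw [hD₀ (g, h), ← fr_lift C (g.1 * h.1) (p₀ (g, h)) (p - p₀ (g, h)),
      Nat.add_sub_cancel' (Finset.le_sup (Finset.mem_univ (g, h)))]
  have hE : ∀ g h : G, ∃ E : ℕ, (g.1 * h.1) ^ E •
      ((g.1 * h.1) ^ p • (g.1 ^ K • c h - h.1 ^ K • c g) - (g.1 * h.1) ^ K • f ^ m • D g h) = 0 := fun g h => by
    refine (fr_eq_zero C (k := K + p)).1 ?_
    rw [← fr_sub, fr_lift C _ K p, add_comm K p, fr_lift C _ p K]
    rw [show fr C (g.1 * h.1) p (f ^ m • D g h) = F (g.1 * h.1) ^ m * z g h by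
      refine eq_of_smul_eq C _ p ?_
      rw [fr_spec, mul_left_comm, hD g h, fr_spec, ← map_pow, ← map_mul, ← map_pow, ← Algebra.smul_def]]
    rw [← hz g h, hc g, hc h, resL_fr, resR_fr, fr_sub, sub_self]
  choose E₀ hE₀ using hE
  let E := Finset.univ.sup fun q : G × G => E₀ q.1 q.2
  let k := K + p + E
  let c₁ : G → C := fun g => g.1 ^ (p + E) • c g
  let D₁ : G → G → C := fun g h => (g.1 * h.1) ^ (K + E) • D g h
  have hD₁ : ∀ g h : G, g.1 ^ k • c₁ h - h.1 ^ k • c₁ g = f ^ m • D₁ g h := fun g h => by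
    obtain ⟨t, ht⟩ := Nat.exists_eq_add_of_le (Finset.le_sup (f := fun q : G × G => E₀ q.1 q.2) (Finset.mem_univ (g, h)))
    have h0 : (g.1 * h.1) ^ E • ((g.1 * h.1) ^ p • (g.1 ^ K • c h - h.1 ^ K • c g) -
        (g.1 * h.1) ^ K • f ^ m • D g h) = 0 := by
      rw [show E = E₀ g h + t from ht, pow_add, mul_comm, mul_smul, hE₀, smul_zero]
    simp only [smul_sub, smul_smul, Algebra.smul_def, map_mul, map_pow] at h0
    simp only [c₁, D₁, k, smul_smul, Algebra.smul_def, map_mul, map_pow]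
    linear_combination (norm := ring) h0
  -- the obstruction
  have hcoc : ∀ g h l : G, l.1 ^ k • f ^ e • D₁ g h - h.1 ^ k • f ^ e • D₁ g l + g.1 ^ k • f ^ e • D₁ h l = 0 := by
    intro g h l
    have h2 : f ^ m • (l.1 ^ k • D₁ g h - h.1 ^ k • D₁ g l + g.1 ^ k • D₁ h l) = 0 := by
      rw [smul_add, smul_sub, smul_comm (f ^ m) (l.1 ^ k), smul_comm (f ^ m) (h.1 ^ k), smul_comm (f ^ m) (g.1 ^ k), ← hD₁ g h, ← hD₁ g l, ← hD₁ h l]
      simp only [smul_sub, Algebra.smul_def, map_pow]
      ring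
    have := he m _ h2
    rw [smul_add, smul_sub, smul_comm (f ^ e) (l.1 ^ k), smul_comm (f ^ e) (h.1 ^ k), smul_comm (f ^ e) (g.1 ^ k)] at this
    exact this
  obtain ⟨K', b, hb⟩ := h1 k (fun g h => f ^ e • D₁ g h) hcoc
  let c₂ : G → C := fun g => g.1 ^ K' • c₁ g - f ^ j • g.1 ^ k • b g
  let t : L G C := fun g => fr C g.1 (k + K') (c₂ g)
  have htC : t ∈ Compat G C := by
    refine (mem_compat G C).2 fun g h => ?_
    show resL C g.1 h.1 (fr C g.1 (k + K') (c₂ g)) = resR C g.1 h.1 (fr C h.1 (k + K') (c₂ h))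
    rw [resL_fr, resR_fr]
    congr 1
    have hd := hD₁ g h
    have hb' := hb g h
    simp only [smul_smul, smul_sub, Algebra.smul_def, map_mul, map_pow] at hd hb'
    simp only [c₂, smul_smul, smul_sub, Algebra.smul_def, map_mul, map_pow]
    linear_combination (norm := skip) (-(algebraMap A C g.1 ^ K' * algebraMap A C h.1 ^ K')) * hd +
      (-(algebraMap A C f ^ j)) * hb'
    simp only [m, pow_add, mul_pow]
    ring
  have hta : ∀ g : G, ∃ y, t g - a g = F g.1 ^ j * y := fun g => by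
    refine ⟨- fr C g.1 K' (b g), ?_⟩
    refine eq_of_smul_eq C g.1 (k + K') ?_
    rw [mul_sub, fr_spec, hc g, show g.1 ^ (k + K') • (1 : C) = g.1 ^ (p + E + K') • (g.1 ^ K • (1 : C)) by
      rw [smul_smul, ← pow_add]; congr 2; simp only [k]; omega]
    rw [show fr C g.1 K' (b g) = fr C g.1 (K' + k) (g.1 ^ k • b g) from (fr_lift C _ _ _ _).symm]
    rw [mul_neg, mul_neg, mul_left_comm,
      show g.1 ^ (p + E + K') • (g.1 ^ K • (1 : C)) = g.1 ^ (K' + k) • (1 : C) by
        rw [smul_smul, ← pow_add]; congr 2; simp only [k]; omega,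
      fr_spec, show g.1 ^ (K' + k) • (1 : C) = (g.1 ^ (p + E + K') • (1 : C)) * (g.1 ^ K • (1 : C)) by
        rw [smul_mul_smul_comm, one_mul, ← pow_add]; congr 2; simp only [k]; omega,
      map_mul, mul_assoc, fr_spec, ← map_mul, ← map_pow, ← map_mul, ← map_sub, ← map_neg]
    congr 1
    simp only [c₂, c₁, Algebra.smul_def, map_pow, mul_one]
    ring
  have htt : ∀ g : G, ∃ y, t g * t g - t g = F g.1 ^ j * y := fun g => by
    obtain ⟨y, hy⟩ := hta g
    obtain ⟨y', hy'⟩ := Ideal.mem_span_singleton.1 (ha g)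
    refine ⟨2 * a g * y + F g.1 ^ j * y * y - y + F g.1 ^ (n + e) * y', ?_⟩
    simp only [m] at hy'
    rw [sub_eq_iff_eq_add.1 hy]
    linear_combination (norm := skip) hy'
    simp only [pow_add]
    ring
  choose y hy using htt
  have hyC : f ^ e • y ∈ Compat G C := by
    refine (mem_compat G C).2 fun g h => ?_
    have e1 : ∀ (φ : Cg C g.1 →+* Cg C (g.1 * h.1)) (_ : ∀ c, φ (algebraMap C _ c) = algebraMap C _ c) (i : ℕ) (x : Cg C g.1),
        φ (f ^ i • x) = f ^ i • φ x := fun φ hφ i x => by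
      rw [Algebra.smul_def, Algebra.smul_def, IsScalarTower.algebraMap_apply A C (Cg C g.1), map_mul, hφ,
        ← IsScalarTower.algebraMap_apply]
    have e2 : ∀ (i : ℕ) (x : Cg C h.1), resR C g.1 h.1 (f ^ i • x) = f ^ i • resR C g.1 h.1 x := fun i x => by
      rw [Algebra.smul_def, Algebra.smul_def, IsScalarTower.algebraMap_apply A C (Cg C h.1), map_mul, resR_algebraMap,
        ← IsScalarTower.algebraMap_apply]
    rw [Pi.smul_apply, Pi.smul_apply, e1 _ (resL_algebraMap C g.1 h.1), e2, ← sub_eq_zero, ← smul_sub]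
    refine torsion_bound_loc he _ j _ ?_
    have hF : ∀ g : A, F g ^ j = algebraMap A (Cg C g) (f ^ j) := fun g => by
      rw [IsScalarTower.algebraMap_apply A C (Cg C g), map_pow, map_pow]
    rw [smul_sub, ← e1 _ (resL_algebraMap C g.1 h.1), ← e2, Algebra.smul_def, Algebra.smul_def, ← hF, ← hF,
      ← hy g, ← hy h]
    simp only [map_sub, map_mul, (mem_compat G C).1 htC g h, sub_self]
  obtain ⟨x, hx⟩ := exists_dg_eq_smul G C h0 hyC
  let dgA : C →ₐ[A] L G C :=
    { dg G C with commutes' := fun r => funext fun g => (IsScalarTower.algebraMap_apply A C (Cg C g.1) r).symm }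
  have hfinal : t * t - t = algebraMap A (L G C) f * dgA x := funext fun g => by
    rw [Pi.mul_apply, Pi.sub_apply, Pi.mul_apply, hy g,
      show dgA x g = (f ^ n • f ^ e • y) g from congrFun hx g, Pi.smul_apply, Pi.smul_apply, Algebra.smul_def,
      Algebra.smul_def, Pi.algebraMap_apply, map_pow, map_pow,
      show F g.1 = algebraMap A (Cg C g.1) f from (IsScalarTower.algebraMap_apply A C (Cg C g.1) f).symm]
    simp only [j, pow_add, pow_one]
    ring
  -- a finite algebra containing `t`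
  obtain ⟨S, hS⟩ := (Module.Finite.fg_top : (⊤ : Submodule A C).FG)
  haveI : Algebra.IsIntegral A C := Algebra.IsIntegral.of_finite A C
  have hint : IsIntegral A t := by
    have hx' : IsIntegral A (t * t - t) := by
      rw [hfinal]
      exact isIntegral_algebraMap.mul ((Algebra.IsIntegral.isIntegral x).map dgA)
    rcases subsingleton_or_nontrivial A with _ | _
    · exact ⟨1, Polynomial.monic_one, (Module.subsingleton A (L G C)).elim _ _⟩
    refine IsIntegral.of_aeval_monic (p := Polynomial.X ^ 2 - Polynomial.X) ?_ ?_ ?_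
    · exact Polynomial.monic_X_pow_sub (lt_of_le_of_lt Polynomial.degree_X_le (by norm_num))
    · rw [Polynomial.natDegree_sub_eq_left_of_natDegree_lt (by rw [Polynomial.natDegree_X, Polynomial.natDegree_X_pow]; norm_num), Polynomial.natDegree_X_pow]
      norm_num
    · simpa [sq] using hx'
  let B := Algebra.adjoin A (insert t (dgA '' (S : Set C)))
  haveI : Module.Finite A B := Module.Finite.iff_fg.2 (fg_adjoin_of_finite ((S.finite_toSet.image _).insert _) (by
    rintro w (rfl | ⟨c, -, rfl⟩)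
    · exact hint
    · exact (Algebra.IsIntegral.isIntegral c).map dgA))
  haveI : Algebra.IsIntegral A B := Algebra.IsIntegral.of_finite A B
  have hBC : ∀ w ∈ B, w ∈ Compat G C := by
    intro w hw
    induction hw using Algebra.adjoin_induction with
    | mem w hw =>
      rcases hw with rfl | ⟨c, -, rfl⟩
      · exact htC
      · exact dg_mem G C c
    | algebraMap r =>
      rw [show algebraMap A (L G C) r = dg G C (algebraMap A C r) from
        funext fun g => IsScalarTower.algebraMap_apply A C (Cg C g.1) r]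
      exact dg_mem G C _
    | add _ _ _ _ h h' => exact add_mem h h'
    | mul _ _ _ _ h h' => exact mul_mem h h'
  have hCB : ∀ c : C, dgA c ∈ B := fun c => by
    have hc : c ∈ Submodule.span A (S : Set C) := hS.symm ▸ Submodule.mem_top
    induction hc using Submodule.span_induction with
    | mem c hc => exact Algebra.subset_adjoin (Or.inr ⟨c, hc, rfl⟩)
    | zero => rw [map_zero]; exact zero_mem _
    | add _ _ _ _ h h' => rw [map_add]; exact add_mem h h'
    | smul r _ _ h => rw [map_smul]; exact B.smul_mem h r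
  let t' : B := ⟨t, Algebra.subset_adjoin (Set.mem_insert _ _)⟩
  obtain ⟨ε, hε, hεt⟩ := Hensel.exists_idempotent_lift_of_isIntegral (Ideal.span {f}) t' (by
    rw [Ideal.map_span, Set.image_singleton, Ideal.mem_span_singleton]
    exact ⟨⟨dgA x, hCB x⟩, Subtype.ext hfinal⟩)
  rw [Ideal.map_span, Set.image_singleton, Ideal.mem_span_singleton] at hεt
  obtain ⟨r, hr⟩ := hεt
  refine ⟨ε.1, hBC _ ε.2, congrArg Subtype.val hε, fun q hfq ⟨g, hgq⟩ => ?_⟩
  obtain ⟨P, rfl⟩ := (comap_mem_iff q).1 hgq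
  rw [mem_supp_iff (hBC _ ε.2) g P, haO g P hfq]
  obtain ⟨y₁, hy₁⟩ := hta g
  have h3 : ε.1 g - t g = algebraMap A (Cg C g.1) f * r.1 g := congrFun (congrArg Subtype.val hr) g
  have h4 : algebraMap A (Cg C g.1) f ∈ P.asIdeal := by
    rw [IsScalarTower.algebraMap_apply A C (Cg C g.1)]; exact hfq
  have h5 : ε.1 g - a g ∈ P.asIdeal := by
    rw [← sub_add_sub_cancel (ε.1 g) (t g) (a g), h3, hy₁,
      show F g.1 = algebraMap A (Cg C g.1) f from (IsScalarTower.algebraMap_apply A C (Cg C g.1) f).symm]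
    exact P.asIdeal.add_mem (P.asIdeal.mul_mem_right _ h4)
      (P.asIdeal.mul_mem_right _ (P.asIdeal.pow_mem_of_mem h4 j (by omega)))
  refine not_congr ⟨fun h => ?_, fun h => ?_⟩
  · have := P.asIdeal.sub_mem h h5
    rwa [sub_sub_cancel] at this
  · have := P.asIdeal.add_mem h5 h
    rwa [sub_add_cancel] at this

/-- A clopen of the punctured spectrum missing the hypersurface is empty. -/
theorem empty_of_disjoint [IsLocalRing A] [IsNoetherianRing A] {f : A} (hf : f ∈ maximalIdeal A) {n : ℕ}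
    (h0 : T0 G A (f ^ n)) (O O' : Set (PrimeSpectrum A)) (hO : IsOpen O) (hO' : IsOpen O')
    (hcov : ∀ (g : G) (q : PrimeSpectrum A), g.1 ∉ q.asIdeal → q ∈ O ∨ q ∈ O')
    (hdis : ∀ (g : G) (q : PrimeSpectrum A), g.1 ∉ q.asIdeal → q ∈ O → q ∉ O')
    (hf0 : ∀ (g : G) (q : PrimeSpectrum A), g.1 ∉ q.asIdeal → f ∈ q.asIdeal → q ∉ O) :
    ∀ (g : G) (q : PrimeSpectrum A), g.1 ∉ q.asIdeal → q ∉ O := by
  classical
  let F := fun g : A => algebraMap A (Cg A g) f
  have hmem : ∀ g : G, ∀ P : PrimeSpectrum (Cg A g.1), g.1 ∉ (PrimeSpectrum.comap (algebraMap A (Cg A g.1)) P).asIdeal :=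
    fun g P => (comap_mem_iff (C := A) (g := g.1) _).2 ⟨P, rfl⟩
  have hloc : ∀ g : G, ∃ a : Cg A g.1, a * a - a ∈ Ideal.span {(0 : Cg A g.1) ^ 1} ∧
      ∀ P : PrimeSpectrum (Cg A g.1), (0 : Cg A g.1) ∈ P.asIdeal →
        (PrimeSpectrum.comap (algebraMap A (Cg A g.1)) P ∈ O ↔ a ∉ P.asIdeal) := fun g =>
    exists_clopen_elem _ 1 Nat.one_pos _ _ (hO.preimage (PrimeSpectrum.continuous_comap _))
      (hO'.preimage (PrimeSpectrum.continuous_comap _))
      (fun P _ => hcov g _ (hmem g P)) (fun P _ => hdis g _ (hmem g P))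
  choose a ha haO using hloc
  have haC : a ∈ Compat G A := (mem_compat G A).2 fun g h => by
    have hidem : ∀ (g : G), a g * a g - a g = 0 := fun g => by
      have := ha g
      rwa [pow_one, Ideal.span_singleton_zero, Ideal.mem_bot] at this
    have := sub_mem_of_agree (0 : Cg A (g.1 * h.1)) 1 (a := resL A g.1 h.1 (a g)) (b := resR A g.1 h.1 (a h))
      (by rw [← map_mul, ← map_sub, hidem, map_zero]; exact zero_mem _)
      (by rw [← map_mul, ← map_sub, hidem, map_zero]; exact zero_mem _) fun P _ => by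
      have eR := haO h (PrimeSpectrum.comap (resR A g.1 h.1) P) (zero_mem _)
      have eL := haO g (PrimeSpectrum.comap (resL A g.1 h.1) P) (zero_mem _)
      rw [← PrimeSpectrum.comap_comp_apply, resR, IsLocalization.lift_comp] at eR
      rw [← PrimeSpectrum.comap_comp_apply, resL, IsLocalization.lift_comp] at eL
      exact not_iff_not.1 (eL.symm.trans eR)
    rwa [pow_one, Ideal.span_singleton_zero, Ideal.mem_bot, sub_eq_zero] at this
  have haf : ∀ g : G, ∀ i : ℕ, F g.1 ^ i ∣ a g := fun g i => by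
    have hrad : a g ∈ (Ideal.span {F g.1}).radical := by
      rw [Ideal.radical_eq_sInf, Ideal.mem_sInf]
      rintro q ⟨hfq, hq⟩
      by_contra hne
      exact hf0 g _ (hmem g ⟨q, hq⟩) (hfq (Ideal.mem_span_singleton_self _))
        ((haO g ⟨q, hq⟩ (zero_mem _)).2 hne)
    obtain ⟨N, hN⟩ := hrad
    rw [Ideal.mem_span_singleton] at hN
    have hid : IsIdempotentElem (a g) := by
      have := ha g
      rwa [pow_one, Ideal.span_singleton_zero, Ideal.mem_bot, sub_eq_zero] at this
    rcases Nat.eq_zero_or_pos i with rfl | hi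
    · rw [pow_zero]; exact one_dvd _
    · have hpow : ∀ M : ℕ, 0 < M → a g ^ M = a g := fun M hM => by
        obtain ⟨M, rfl⟩ := Nat.exists_eq_add_of_le' hM
        exact hid.pow_succ_eq M
      rcases Nat.eq_zero_or_pos N with rfl | hN0
      · rw [pow_zero] at hN
        exact ((isUnit_of_dvd_one hN).pow i).dvd
      · rw [← hpow (N * i) (Nat.mul_pos hN0 hi), pow_mul]
        exact pow_dvd_pow_of_dvd hN i
  obtain ⟨e, he⟩ := exists_torsion_bound (C := A) f
  have hall : ∀ i : ℕ, ∃ x : A, dg G A (f ^ i * x) = a := fun i => by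
    choose y hy using fun g => haf g (i + n + e)
    have hF : ∀ g : A, F g = algebraMap A (Cg A g) f := fun _ => rfl
    have hyC : f ^ e • y ∈ Compat G A := by
      refine (mem_compat G A).2 fun g h => ?_
      have e1 : ∀ (j : ℕ) (x : Cg A g.1), resL A g.1 h.1 (f ^ j • x) = f ^ j • resL A g.1 h.1 x := fun j x => by
        rw [Algebra.smul_def, Algebra.smul_def, map_mul, resL_algebraMap]
      have e2 : ∀ (j : ℕ) (x : Cg A h.1), resR A g.1 h.1 (f ^ j • x) = f ^ j • resR A g.1 h.1 x := fun j x => by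
        rw [Algebra.smul_def, Algebra.smul_def, map_mul, resR_algebraMap]
      rw [Pi.smul_apply, Pi.smul_apply, e1, e2, ← sub_eq_zero, ← smul_sub]
      refine torsion_bound_loc he _ (i + n + e) _ ?_
      rw [smul_sub, ← e1, ← e2, Algebra.smul_def, Algebra.smul_def, map_pow, map_pow, ← hF, ← hF,
        ← hy g, ← hy h, (mem_compat G A).1 haC g h, sub_self]
    obtain ⟨x, hx⟩ := exists_dg_eq_smul G A h0 hyC
    refine ⟨x, funext fun g => ?_⟩
    show algebraMap A (Cg A g.1) (f ^ i * x) = a g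
    rw [map_mul, show algebraMap A (Cg A g.1) x = (f ^ n • f ^ e • y) g from congrFun hx g, Pi.smul_apply,
      Pi.smul_apply, Algebra.smul_def, Algebra.smul_def, hy g, hF, map_pow, map_pow, map_pow]
    ring
  choose x hx using hall
  let T : Submodule A A := RingHom.ker (dg G A)
  have hzero : (Submodule.Quotient.mk (f ^ 0 * x 0) : A ⧸ T) = 0 := by
    rw [← Submodule.mem_bot A, ← Ideal.iInf_pow_smul_eq_bot_of_isLocalRing (M := A ⧸ T)
      (I := Ideal.span {f}) ((Ideal.span_singleton_le_iff_mem _).2 hf |>.trans_lt (lt_top_iff_ne_top.2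
        (maximalIdeal.isMaximal A).ne_top)).ne]
    refine Submodule.mem_iInf _ |>.2 fun i => ?_
    have : (Submodule.Quotient.mk (f ^ 0 * x 0) : A ⧸ T) = f ^ i • Submodule.Quotient.mk (x i) := by
      rw [← Submodule.Quotient.mk_smul, Submodule.Quotient.eq]
      show dg G A _ = 0
      rw [map_sub, smul_eq_mul, hx, hx, sub_self]
    rw [this]
    exact Submodule.smul_mem_smul (Ideal.pow_mem_pow (Ideal.mem_span_singleton_self f) i) trivial
  have ha0 : a = 0 := (hx 0).symm.trans ((Submodule.Quotient.mk_eq_zero T).1 hzero)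
  intro g q hgq hqO
  obtain ⟨P, rfl⟩ := (comap_mem_iff (C := A) (g := g.1) q).1 hgq
  exact (haO g P (zero_mem _)).1 hqO (by rw [ha0]; exact zero_mem _)

end Groth.Agent.Pi1Ext.HyperClopen
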