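import Groth.Agent.Pi1Ext.HyperClopen
import Mathlib.RingTheory.Ideal.GoingDown
import Mathlib.RingTheory.Flat.FaithfullyFlat.Algebra

/-! Descent of clopen subsets of a punctured finite scheme from the completion, given on a hypersurface. -/

set_option autoImplicit false
set_option linter.style.haveILetI false
universe u

open IsLocalRing TensorProduct

noncomputable section

namespace Groth.Agent.Pi1Ext.HyperDescent

open HyperClopen

variable {A : Type u} [CommRing A] {G : Finset A} {C : Type u} [CommRing C] [Algebra A C]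
  (A' : Type u) [CommRing A'] [Algebra A A']

/-- The diagonal as an algebra map. -/
def dgA (G : Finset A) (C : Type u) [CommRing C] [Algebra A C] : C →ₐ[A] L G C :=
  { dg G C with commutes' := fun r => funext fun g => (IsScalarTower.algebraMap_apply A C (Cg C g.1) r).symm }

/-- Left restriction, `A`-linear. -/
def toLA (G : Finset A) (C : Type u) [CommRing C] [Algebra A C] : L G C →ₐ[A] L2 G C :=
  { toL G C with commutes' := fun r => funext fun g => funext fun h =>
    ((congrArg (resL C g.1 h.1) (IsScalarTower.algebraMap_apply A C (Cg C g.1) r)).trans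
      (resL_algebraMap C g.1 h.1 _)).trans (IsScalarTower.algebraMap_apply A C (Cg C (g.1 * h.1)) r).symm }

/-- Right restriction, `A`-linear. -/
def toRA (G : Finset A) (C : Type u) [CommRing C] [Algebra A C] : L G C →ₐ[A] L2 G C :=
  { toR G C with commutes' := fun r => funext fun g => funext fun h =>
    ((congrArg (resR C g.1 h.1) (IsScalarTower.algebraMap_apply A C (Cg C h.1) r)).trans
      (resR_algebraMap C g.1 h.1 _)).trans (IsScalarTower.algebraMap_apply A C (Cg C (g.1 * h.1)) r).symm }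

theorem exists_smul_eq_dg {w : L G C} (hw : w ∈ Compat G C) (g : G) : ∃ (k : ℕ) (c : C), g.1 ^ k • w = dgA G C c := by
  obtain ⟨k, m, hm, hwm⟩ := exists_rep G C hw
  refine ⟨k, m g, funext fun h => ?_⟩
  rw [smul_apply_eq, hwm h]
  show _ = algebraMap C (Cg C h.1) (m g)
  refine eq_of_smul_eq C h.1 k ?_
  rw [mul_left_comm, fr_spec, ← map_mul, ← map_mul, smul_mul_assoc, one_mul, map_pow, ← map_pow, ← Algebra.smul_def, hm g h]

theorem exists_single_notMem [DecidableEq G] {R : Type u} [CommRing R] [Algebra A R] (φ : L G C →ₐ[A] R) (P : PrimeSpectrum R) :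
    ∃ g : G, φ (Pi.single g 1) ∉ P.asIdeal ∧ algebraMap A R g.1 ∉ P.asIdeal := by
  classical
  obtain ⟨g, hg⟩ : ∃ g : G, φ (Pi.single g 1) ∉ P.asIdeal := by
    by_contra! hall
    refine P.2.ne_top ((Ideal.eq_top_iff_one _).2 ?_)
    rw [← map_one φ, show (1 : L G C) = ∑ g, Pi.single g 1 from (Finset.univ_sum_single (1 : L G C)).symm, map_sum]
    exact sum_mem fun g _ => hall g
  refine ⟨g, hg, fun hmem => hg ?_⟩
  have hu : IsUnit (algebraMap A (Cg C g.1) g.1) := by
    rw [IsScalarTower.algebraMap_apply A C (Cg C g.1)]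
    exact IsLocalization.Away.algebraMap_isUnit _
  obtain ⟨v, hv⟩ := hu.exists_right_inv
  have : Pi.single g 1 = algebraMap A (L G C) g.1 * Pi.single g v := funext fun h => by
    rw [Pi.mul_apply]
    rcases eq_or_ne h g with rfl | hne
    · rw [Pi.single_eq_same, Pi.single_eq_same]; exact hv.symm
    · rw [Pi.single_eq_of_ne hne, Pi.single_eq_of_ne hne, mul_zero]
  rw [this, map_mul, AlgHom.commutes]
  exact P.asIdeal.mul_mem_right _ hmem

variable [IsLocalRing A] [IsNoetherianRing A] [Module.FaithfullyFlat A A']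

/-- Clopen subsets descend. -/
theorem exists_idempotent [Module.Finite A C] (hG : Ideal.span (G : Set A) = maximalIdeal A) {f : A}
    (hf : f ∈ maximalIdeal A) [HenselianRing A (Ideal.span {f})]
    (hden : ∀ (N : ℕ) (a : A'), ∃ r : A, a - algebraMap A A' r ∈ (maximalIdeal A ^ N).map (algebraMap A A'))
    (O O' : Set (PrimeSpectrum (A' ⊗[A] C))) (hO : IsOpen O) (hO' : IsOpen O')
    (hcov : ∀ (g : G) (r : PrimeSpectrum (A' ⊗[A] C)), algebraMap A _ g.1 ∉ r.asIdeal → r ∈ O ∨ r ∈ O')
    (hdis : ∀ (g : G) (r : PrimeSpectrum (A' ⊗[A] C)), algebraMap A _ g.1 ∉ r.asIdeal → r ∈ O → r ∉ O')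
    (O₀ : Set (PrimeSpectrum C))
    (hOO : ∀ (g : G) (r : PrimeSpectrum (A' ⊗[A] C)), algebraMap A _ g.1 ∉ r.asIdeal → algebraMap A _ f ∈ r.asIdeal →
      (r ∈ O ↔ PrimeSpectrum.comap (Algebra.TensorProduct.includeRight (R := A) (A := A') (B := C)).toRingHom r ∈ O₀)) :
    ∃ ε ∈ Compat G C, ε * ε = ε ∧
      ∀ q : PrimeSpectrum C, algebraMap A C f ∈ q.asIdeal → (∃ g : G, algebraMap A C g.1 ∉ q.asIdeal) →
        (q ∈ supp ε ↔ q ∈ O₀) := by
  classical
  let dg' : A' ⊗[A] C →ₐ[A'] A' ⊗[A] L G C := Algebra.TensorProduct.map (AlgHom.id A' A') (dgA G C)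
  let π₀ := PrimeSpectrum.comap dg'.toRingHom
  have hdg' : ∀ r : A, dg' (algebraMap A _ r) = algebraMap A _ r := (dg'.restrictScalars A).commutes
  have hpt : ∀ R : PrimeSpectrum (A' ⊗[A] L G C), ∃ g : G, algebraMap A _ g.1 ∉ (π₀ R).asIdeal := fun R => by
    obtain ⟨g, -, hg⟩ := exists_single_notMem (Algebra.TensorProduct.includeRight : L G C →ₐ[A] A' ⊗[A] L G C) R
    exact ⟨g, fun h => hg (hdg' g.1 ▸ h)⟩
  -- the idempotent upstairs
  have hcl : IsClopen (π₀ ⁻¹' O) := by
    refine ⟨?_, hO.preimage (PrimeSpectrum.continuous_comap _)⟩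
    have : π₀ ⁻¹' O = (π₀ ⁻¹' O')ᶜ := Set.ext fun R => by
      obtain ⟨g, hg⟩ := hpt R
      exact ⟨fun h => hdis g _ hg h, fun h => (hcov g _ hg).resolve_right h⟩
    rw [this]
    exact (hO'.preimage (PrimeSpectrum.continuous_comap _)).isClosed_compl
  obtain ⟨e, he, heO⟩ := PrimeSpectrum.exists_idempotent_basicOpen_eq_of_isClopen hcl
  have heO' : ∀ R : PrimeSpectrum (A' ⊗[A] L G C), π₀ R ∈ O ↔ e ∉ R.asIdeal := fun R => by
    rw [show π₀ R ∈ O ↔ R ∈ π₀ ⁻¹' O from Iff.rfl, heO]
    rfl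
  -- it is compatible
  let L' := Algebra.TensorProduct.map (AlgHom.id A' A') (toLA G C)
  let R' := Algebra.TensorProduct.map (AlgHom.id A' A') (toRA G C)
  have hLR : L' e = R' e := by
    have hcomp : L'.toRingHom.comp dg'.toRingHom = R'.toRingHom.comp dg'.toRingHom := by
      refine RingHom.ext fun x => ?_
      show L' (dg' x) = R' (dg' x)
      induction x using TensorProduct.induction_on with
      | zero => simp only [map_zero]
      | tmul a c =>
        show a ⊗ₜ[A] toLA G C (dgA G C c) = a ⊗ₜ[A] toRA G C (dgA G C c)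
        congr 1
        exact funext fun g => funext fun h => (mem_compat G C).1 (dg_mem G C c) g h
      | add x y hx hy => simp only [map_add, hx, hy]
    have h := sub_mem_of_agree (0 : A' ⊗[A] L2 G C) 1 (a := L' e) (b := R' e)
      (by rw [← map_mul, he.eq, sub_self]; exact zero_mem _)
      (by rw [← map_mul, he.eq, sub_self]; exact zero_mem _) fun P _ => by
      have h1 := heO' (PrimeSpectrum.comap L'.toRingHom P)
      have h2 := heO' (PrimeSpectrum.comap R'.toRingHom P)
      show L' e ∈ P.asIdeal ↔ R' e ∈ P.asIdeal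
      refine not_iff_not.1 (h1.symm.trans (Iff.trans ?_ h2))
      show PrimeSpectrum.comap dg'.toRingHom (PrimeSpectrum.comap L'.toRingHom P) ∈ O ↔
        PrimeSpectrum.comap dg'.toRingHom (PrimeSpectrum.comap R'.toRingHom P) ∈ O
      rw [← PrimeSpectrum.comap_comp_apply, ← PrimeSpectrum.comap_comp_apply, hcomp]
    rwa [pow_one, Ideal.span_singleton_zero, Ideal.mem_bot, sub_eq_zero] at h
  let D : Subalgebra A (L G C) := AlgHom.equalizer (toLA G C) (toRA G C)
  have hD : ∀ w, w ∈ D → w ∈ Compat G C := fun w hw => hw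
  obtain ⟨δ, hδ⟩ : e ∈ LinearMap.range ((Subalgebra.toSubmodule D).subtype.lTensor A') := by
    let ψ : L G C →ₗ[A] L2 G C := (toLA G C).toLinearMap - (toRA G C).toLinearMap
    have hk : LinearMap.ker ψ = Subalgebra.toSubmodule D := Submodule.ext fun w => by
      rw [LinearMap.mem_ker, LinearMap.sub_apply, sub_eq_zero]
      exact Iff.rfl
    rw [← hk]
    have hl : ∀ x, ψ.lTensor A' x = L' x - R' x := fun x => by
      induction x using TensorProduct.induction_on with
      | zero => simp only [map_zero, sub_zero]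
      | tmul a w =>
        show a ⊗ₜ[A] (toLA G C w - toRA G C w) = _
        rw [TensorProduct.tmul_sub]
        rfl
      | add x y hx hy => simp only [map_add, hx, hy]; abel
    exact ((Module.Flat.lTensor_exact A' (LinearMap.exact_subtype_ker_map ψ)) e).1 (by rw [hl, hLR, sub_self])
  -- decomposition
  obtain ⟨d, hdD, c', hc'⟩ : ∃ d ∈ D, ∃ c' : A' ⊗[A] C, e = (1 : A') ⊗ₜ[A] d + dg' c' := by
    rw [← hδ]
    clear hδ
    induction δ using TensorProduct.induction_on with
    | zero => exact ⟨0, zero_mem _, 0, by simp⟩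
    | tmul a z =>
      have hz : ∀ g : G, ∃ k : ℕ, g.1 ^ k • z.1 ∈ LinearMap.range (dgA G C).toLinearMap := fun g => by
        obtain ⟨k, c, hc⟩ := exists_smul_eq_dg (hD _ z.2) g
        exact ⟨k, c, hc.symm⟩
      let J : Ideal A := (LinearMap.range (dgA G C).toLinearMap).comap (LinearMap.toSpanSingleton A (L G C) z.1)
      have hJ : maximalIdeal A ≤ J.radical := by
        rw [← hG]
        refine Ideal.span_le.2 fun g hg => ?_
        obtain ⟨k, hk⟩ := hz ⟨g, hg⟩
        exact ⟨k, hk⟩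
      obtain ⟨N, hN⟩ := Ideal.exists_pow_le_of_le_radical_of_fg hJ (IsNoetherian.noetherian _)
      obtain ⟨a₀, ha₀⟩ := hden N a
      have key : ∀ y ∈ (maximalIdeal A ^ N).map (algebraMap A A'), ∃ c', y ⊗ₜ[A] z.1 = dg' c' := by
        intro y hy
        induction hy using Submodule.span_induction with
        | mem y hy =>
          obtain ⟨μ, hμ, rfl⟩ := hy
          obtain ⟨c, hc⟩ := hN hμ
          refine ⟨(1 : A') ⊗ₜ[A] c, ?_⟩
          show _ = (1 : A') ⊗ₜ[A] dgA G C c
          rw [Algebra.algebraMap_eq_smul_one, TensorProduct.smul_tmul,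
            show dgA G C c = μ • z.1 from hc]
        | zero => exact ⟨0, by rw [TensorProduct.zero_tmul, map_zero]⟩
        | add y y' _ _ h h' =>
          obtain ⟨c, hc⟩ := h
          obtain ⟨c', hc'⟩ := h'
          exact ⟨c + c', by rw [TensorProduct.add_tmul, hc, hc', map_add]⟩
        | smul b y _ h =>
          obtain ⟨c, hc⟩ := h
          exact ⟨b • c, by rw [map_smul, ← hc, TensorProduct.smul_tmul']⟩
      obtain ⟨c', hc'⟩ := key _ ha₀
      refine ⟨a₀ • z.1, D.smul_mem z.2 _, c', ?_⟩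
      show a ⊗ₜ[A] z.1 = _
      rw [← hc', TensorProduct.sub_tmul, Algebra.algebraMap_eq_smul_one, TensorProduct.smul_tmul]
      abel
    | add x y hx hy =>
      obtain ⟨d, hd, c, hc⟩ := hx
      obtain ⟨d', hd', c', hc'⟩ := hy
      exact ⟨d + d', D.add_mem hd hd', c + c', by rw [map_add, hc, hc', map_add, TensorProduct.tmul_add]; abel⟩
  -- a finite algebra containing `d`
  let φ₂ : C × C →ₗ[A] L G C :=
    (dgA G C).toLinearMap.coprod ((LinearMap.mulRight A d).comp (dgA G C).toLinearMap)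
  let M := LinearMap.range φ₂
  have hφ₂ : ∀ x y, φ₂ (x, y) = dgA G C x + dgA G C y * d := fun x y => rfl
  have hd2 : d * d ∈ M := by
    let π := M.mkQ
    have h0 : ∀ x y : A' ⊗[A] C, π.lTensor A' (dg' x + dg' y * (1 : A') ⊗ₜ[A] d) = 0 := by
      intro x y
      rw [map_add]
      have h1 : ∀ x, π.lTensor A' (dg' x) = 0 := fun x => by
        induction x using TensorProduct.induction_on with
        | zero => simp only [map_zero]
        | tmul a c =>
          show a ⊗ₜ[A] π (dgA G C c) = 0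
          rw [show π (dgA G C c) = 0 from (Submodule.Quotient.mk_eq_zero M).2
            ⟨(c, 0), by rw [hφ₂, map_zero, zero_mul, add_zero]⟩, TensorProduct.tmul_zero]
        | add x y hx hy => simp only [map_add, hx, hy, add_zero]
      have h2 : ∀ y, π.lTensor A' (dg' y * (1 : A') ⊗ₜ[A] d) = 0 := fun y => by
        induction y using TensorProduct.induction_on with
        | zero => simp only [map_zero, zero_mul]
        | tmul a c =>
          show π.lTensor A' ((a ⊗ₜ[A] dgA G C c) * (1 : A') ⊗ₜ[A] d) = 0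
          rw [Algebra.TensorProduct.tmul_mul_tmul, LinearMap.lTensor_tmul,
            show π (dgA G C c * d) = 0 from (Submodule.Quotient.mk_eq_zero M).2
              ⟨(0, c), by rw [hφ₂, map_zero, zero_add]⟩, TensorProduct.tmul_zero]
        | add x y hx hy => simp only [map_add, add_mul, hx, hy, add_zero]
      rw [h1, h2, add_zero]
    have h3 : (1 : A') ⊗ₜ[A] (d * d) = dg' (c' - c' * c') + dg' (1 - 2 * c') * (1 : A') ⊗ₜ[A] d := by
      rw [show (1 : A') ⊗ₜ[A] (d * d) = ((1 : A') ⊗ₜ[A] d) * ((1 : A') ⊗ₜ[A] d) by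
          rw [Algebra.TensorProduct.tmul_mul_tmul, one_mul], map_sub, map_sub, map_mul, map_mul, map_one, map_ofNat]
      have he' := he.eq
      rw [hc'] at he'
      linear_combination he'
    have h4 := h0 (c' - c' * c') (1 - 2 * c')
    rw [← h3, LinearMap.lTensor_tmul] at h4
    refine (Submodule.Quotient.mk_eq_zero M).1 ?_
    exact Module.FaithfullyFlat.tensorProduct_mk_injective (A := A) (B := A') (L G C ⧸ M)
      ((show (TensorProduct.mk A A' (L G C ⧸ M) 1) (π (d * d)) = 0 from h4).trans (map_zero _).symm)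
  obtain ⟨⟨x₀, y₀⟩, hxy⟩ := hd2
  rw [hφ₂] at hxy
  let B : Subalgebra A (L G C) := M.toSubalgebra ⟨(1, 0), by rw [hφ₂, map_one, map_zero, zero_mul, add_zero]⟩
    (by
      rintro _ _ ⟨⟨x, y⟩, rfl⟩ ⟨⟨x', y'⟩, rfl⟩
      refine ⟨(x * x' + y * y' * x₀, x * y' + y * x' + y * y' * y₀), ?_⟩
      simp only [hφ₂, map_add, map_mul]
      linear_combination (dgA G C y * dgA G C y') * hxy)
  have hBC : ∀ b ∈ B, b ∈ Compat G C := by
    rintro _ ⟨⟨x, y⟩, rfl⟩
    rw [hφ₂]
    exact add_mem (dg_mem G C x) (mul_mem (dg_mem G C y) (hD _ hdD))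
  haveI : Module.Finite A B := Module.Finite.range φ₂
  haveI : Algebra.IsIntegral A B := Algebra.IsIntegral.of_finite A B
  let dB : C →ₐ[A] B := (dgA G C).codRestrict B fun c => ⟨(c, 0), by rw [hφ₂, map_zero, zero_mul, add_zero]⟩
  let dB' : A' ⊗[A] C →ₐ[A'] A' ⊗[A] B := Algebra.TensorProduct.map (AlgHom.id A' A') dB
  let v' : A' ⊗[A] B →ₐ[A'] A' ⊗[A] L G C := Algebra.TensorProduct.map (AlgHom.id A' A') B.val
  have hv' : ∀ x, v' (dB' x) = dg' x := fun x => by
    induction x using TensorProduct.induction_on with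
    | zero => simp only [map_zero]
    | tmul a c => rfl
    | add x y hx hy => simp only [map_add, hx, hy]
  have hv'i : Function.Injective v' := by
    have hl : ∀ x, v' x = B.val.toLinearMap.lTensor A' x := fun x => by
      induction x using TensorProduct.induction_on with
      | zero => simp only [map_zero]
      | tmul a c => rfl
      | add x y hx hy => simp only [map_add, hx, hy]
    intro x y hxy'
    rw [hl, hl] at hxy'
    exact Module.Flat.lTensor_preserves_injective_linearMap _ Subtype.val_injective hxy'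
  let dd : B := ⟨d, (0, 1), by rw [hφ₂, map_zero, map_one, zero_add, one_mul]⟩
  let eB : A' ⊗[A] B := (1 : A') ⊗ₜ[A] dd + dB' c'
  have hev : v' eB = e := by
    rw [map_add, hv', hc']
    rfl
  have heB : eB * eB = eB := hv'i (by rw [map_mul, hev, he.eq])
  let π : PrimeSpectrum (A' ⊗[A] B) → PrimeSpectrum B :=
    PrimeSpectrum.comap (Algebra.TensorProduct.includeRight (R := A) (A := A') (B := B)).toRingHom
  -- the value off the closed point
  have hval : ∀ (g : G) (P : PrimeSpectrum (A' ⊗[A] B)), algebraMap A _ g.1 ∉ P.asIdeal →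
      algebraMap A _ f ∈ P.asIdeal →
      (eB ∉ P.asIdeal ↔ PrimeSpectrum.comap dB.toRingHom (π P) ∈ O₀) := by
    intro g P hgP hfP
    obtain ⟨k, c, hkc⟩ := exists_smul_eq_dg (hD _ hdD) g
    let cg : A' ⊗[A] C := (1 : A') ⊗ₜ[A] c + g.1 ^ k • c'
    have hcg : g.1 ^ k • eB = dB' cg := by
      rw [map_add, show dB' (g.1 ^ k • c') = g.1 ^ k • dB' c' from map_smul (dB'.restrictScalars A) _ _, smul_add,
        ← TensorProduct.tmul_smul,
        show g.1 ^ k • dd = dB c from Subtype.ext hkc]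
      rfl
    let r : PrimeSpectrum (A' ⊗[A] C) := PrimeSpectrum.comap dB'.toRingHom P
    have hr : ∀ a : A, algebraMap A _ a ∈ r.asIdeal ↔ algebraMap A (A' ⊗[A] B) a ∈ P.asIdeal := fun a => by
      rw [← (dB'.restrictScalars A).commutes a]
      exact Iff.rfl
    have hgr : algebraMap A _ g.1 ∉ r.asIdeal := fun h => hgP ((hr _).1 h)
    have h1 : eB ∉ P.asIdeal ↔ cg ∉ r.asIdeal := by
      show _ ↔ dB' cg ∉ P.asIdeal
      rw [← hcg, show g.1 ^ k • eB = algebraMap A (A' ⊗[A] B) (g.1 ^ k) * eB from Algebra.smul_def (R := A) (A := A' ⊗[A] B) (g.1 ^ k) eB, map_pow]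
      refine not_congr ⟨fun h => P.asIdeal.mul_mem_left _ h, fun h => (P.2.mem_or_mem h).resolve_left fun h' => ?_⟩
      exact hgP (P.2.mem_of_pow_mem _ h')
    -- lift to the product
    let K := FractionRing ((A' ⊗[A] C) ⧸ r.asIdeal)
    let ρr : A' ⊗[A] C →ₐ[A] K :=
      (IsScalarTower.toAlgHom A ((A' ⊗[A] C) ⧸ r.asIdeal) K).comp (Ideal.Quotient.mkₐ A r.asIdeal)
    have hρr : ∀ x, ρr x = 0 ↔ x ∈ r.asIdeal := fun x => by
      show algebraMap ((A' ⊗[A] C) ⧸ r.asIdeal) K (Ideal.Quotient.mk r.asIdeal x) = 0 ↔ _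
      rw [IsFractionRing.to_map_eq_zero_iff, Ideal.Quotient.eq_zero_iff_mem]
    have hu : ∀ y : Submonoid.powers (algebraMap A C g.1),
        IsUnit (((ρr.comp Algebra.TensorProduct.includeRight).toRingHom) (y : C)) := by
      rintro ⟨_, l, rfl⟩
      show IsUnit ((ρr.comp Algebra.TensorProduct.includeRight) (algebraMap A C g.1 ^ l))
      rw [map_pow, AlgHom.commutes]
      refine (isUnit_iff_ne_zero.2 fun h => hgr ((hρr _).1 ?_)).pow l
      rw [AlgHom.commutes]
      exact h
    let χ : Cg C g.1 →ₐ[A] K :=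
      { IsLocalization.lift hu with
        commutes' := fun a => by
          show IsLocalization.lift hu (algebraMap A (Cg C g.1) a) = _
          rw [IsScalarTower.algebraMap_apply A C (Cg C g.1), IsLocalization.lift_eq]
          exact (ρr.comp Algebra.TensorProduct.includeRight).commutes a }
    let Φ : A' ⊗[A] L G C →ₐ[A] K := Algebra.TensorProduct.lift
      (ρr.comp (Algebra.TensorProduct.includeLeft)) (χ.comp (Pi.evalAlgHom A (fun g : G => Cg C g.1) g))
      fun x y => mul_comm _ _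
    have hΦ : ∀ x, Φ (dg' x) = ρr x := fun x => by
      induction x using TensorProduct.induction_on with
      | zero => simp only [map_zero]
      | tmul a c =>
        show Φ (a ⊗ₜ[A] dgA G C c) = _
        rw [Algebra.TensorProduct.lift_tmul]
        show ρr (a ⊗ₜ[A] (1 : C)) * IsLocalization.lift hu (algebraMap C (Cg C g.1) c) = _
        rw [IsLocalization.lift_eq]
        show ρr (a ⊗ₜ[A] (1 : C)) * ρr ((1 : A') ⊗ₜ[A] c) = _
        rw [← map_mul, Algebra.TensorProduct.tmul_mul_tmul, mul_one, one_mul]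
      | add x y hx hy => simp only [map_add, hx, hy]
    let R : PrimeSpectrum (A' ⊗[A] L G C) := ⟨RingHom.ker Φ.toRingHom, RingHom.ker_isPrime _⟩
    have hR : π₀ R = r := PrimeSpectrum.ext (Ideal.ext fun x => by
      show Φ (dg' x) = 0 ↔ _
      rw [hΦ, hρr])
    have h2 : r ∈ O ↔ cg ∉ r.asIdeal := by
      rw [← hR, heO' R, hR]
      show ¬ Φ e = 0 ↔ _
      rw [← hρr cg, ← hΦ cg]
      refine not_congr ?_
      have : dg' cg = g.1 ^ k • e := by
        rw [← hv', ← hcg, show v' (g.1 ^ k • eB) = g.1 ^ k • v' eB from map_smul (v'.restrictScalars A) _ _, hev]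
      rw [this, map_smul, Algebra.smul_def, mul_eq_zero, map_pow, pow_eq_zero_iff', or_iff_right_of_imp]
      rintro ⟨h, -⟩
      refine absurd ((hρr _).1 ?_) hgr
      rw [AlgHom.commutes]
      exact h
    rw [h1, ← h2, hOO g r hgr ((hr f).2 hfP)]
    have : PrimeSpectrum.comap (Algebra.TensorProduct.includeRight (R := A) (A := A') (B := C)).toRingHom r =
        PrimeSpectrum.comap dB.toRingHom (π P) := by
      rw [← PrimeSpectrum.comap_comp_apply, ← PrimeSpectrum.comap_comp_apply]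
      congr 1
    rw [this]
  -- independence of the point upstairs
  have hind : ∀ P P' : PrimeSpectrum (A' ⊗[A] B), π P = π P' → algebraMap A _ f ∈ P.asIdeal →
      (eB ∉ P.asIdeal ↔ eB ∉ P'.asIdeal) := by
    intro P P' hPP hfP
    have hπ : ∀ (Q : PrimeSpectrum (A' ⊗[A] B)) (a : A),
        algebraMap A B a ∈ (π Q).asIdeal ↔ algebraMap A (A' ⊗[A] B) a ∈ Q.asIdeal := fun Q a => by
      show (Algebra.TensorProduct.includeRight (R := A) (A := A') (B := B)) (algebraMap A B a) ∈ Q.asIdeal ↔ _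
      rw [AlgHom.commutes]
    have hfP' : algebraMap A _ f ∈ P'.asIdeal := (hπ P' f).1 (hPP ▸ (hπ P f).2 hfP)
    by_cases h : ∃ g : G, algebraMap A B g.1 ∉ (π P).asIdeal
    · obtain ⟨g, hg⟩ := h
      rw [hval g P (fun h' => hg ((hπ P _).2 h')) hfP,
        hval g P' (fun h' => hg (hPP ▸ (hπ P' _).2 h')) hfP', hPP]
    · push Not at h
      have hm : ∀ (Q : PrimeSpectrum (A' ⊗[A] B)), π Q = π P → ∀ y ∈ (maximalIdeal A ^ 1).map (algebraMap A A'),
          ∀ b : B, y ⊗ₜ[A] b ∈ Q.asIdeal := by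
        intro Q hQ y hy
        rw [pow_one, ← hG] at hy
        rw [Ideal.map_span] at hy
        induction hy using Submodule.span_induction with
        | mem y hy =>
          obtain ⟨g, hg, rfl⟩ := hy
          intro b
          rw [show (algebraMap A A' g) ⊗ₜ[A] b = algebraMap A (A' ⊗[A] B) g * ((1 : A') ⊗ₜ[A] b) by
            rw [Algebra.TensorProduct.algebraMap_apply, Algebra.TensorProduct.tmul_mul_tmul, mul_one, one_mul]]
          exact Q.asIdeal.mul_mem_right _ ((hπ Q g).1 (hQ ▸ h ⟨g, hg⟩))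
        | zero => intro b; rw [TensorProduct.zero_tmul]; exact zero_mem _
        | add y y' _ _ hy hy' => intro b; rw [TensorProduct.add_tmul]; exact add_mem (hy b) (hy' b)
        | smul a y _ hy =>
          intro b
          rw [show (a • y) ⊗ₜ[A] b = (a ⊗ₜ[A] (1 : B)) * (y ⊗ₜ[A] b) by
            rw [Algebra.TensorProduct.tmul_mul_tmul, one_mul, smul_eq_mul]]
          exact Q.asIdeal.mul_mem_left _ (hy b)
      have hcl : ∀ y : A' ⊗[A] B, ∃ b : B, ∀ Q : PrimeSpectrum (A' ⊗[A] B), π Q = π P →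
          y - (1 : A') ⊗ₜ[A] b ∈ Q.asIdeal := fun y => by
        induction y using TensorProduct.induction_on with
        | zero => exact ⟨0, fun Q _ => by rw [TensorProduct.tmul_zero, sub_zero]; exact zero_mem _⟩
        | tmul a b =>
          obtain ⟨a₀, ha₀⟩ := hden 1 a
          refine ⟨a₀ • b, fun Q hQ => ?_⟩
          rw [← TensorProduct.smul_tmul, ← Algebra.algebraMap_eq_smul_one, ← TensorProduct.sub_tmul]
          exact hm Q hQ _ ha₀ b
        | add y y' hy hy' =>
          obtain ⟨b, hb⟩ := hy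
          obtain ⟨b', hb'⟩ := hy'
          refine ⟨b + b', fun Q hQ => ?_⟩
          rw [TensorProduct.tmul_add, add_sub_add_comm]
          exact add_mem (hb Q hQ) (hb' Q hQ)
      obtain ⟨b, hb⟩ := hcl eB
      have key : ∀ Q : PrimeSpectrum (A' ⊗[A] B), π Q = π P → (eB ∈ Q.asIdeal ↔ b ∈ (π P).asIdeal) := fun Q hQ => by
        rw [← hQ]
        show _ ↔ (1 : A') ⊗ₜ[A] b ∈ Q.asIdeal
        refine ⟨fun h' => ?_, fun h' => ?_⟩
        · have := Q.asIdeal.sub_mem h' (hb Q hQ)
          rwa [sub_sub_cancel] at this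
        · have := Q.asIdeal.add_mem (hb Q hQ) h'
          rwa [sub_add_cancel] at this
      exact not_congr ((key P rfl).trans (key P' hPP.symm).symm)
  -- the clopen of the hypersurface of `B`
  have hq : ∀ T : Set (PrimeSpectrum B), IsClosed (π ⁻¹' T) → IsClosed T := by
    intro T hT
    let π' : PrimeSpectrum (B ⊗[A] A') → PrimeSpectrum B := PrimeSpectrum.comap (algebraMap B (B ⊗[A] A'))
    let cm := (Algebra.TensorProduct.comm A A' B).toAlgHom.toRingHom
    have hq' : Topology.IsQuotientMap π' := PrimeSpectrum.isQuotientMap_of_generalizingMap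
      (PrimeSpectrum.comap_surjective_of_faithfullyFlat (A := B) (B := B ⊗[A] A')) ((Algebra.HasGoingDown.iff_generalizingMap_primeSpectrumComap (R := B) (S := B ⊗[A] A')).1 inferInstance)
    refine hq'.isClosed_preimage.1 ?_
    have : π' = π ∘ PrimeSpectrum.comap cm := funext fun Q => by
      show _ = PrimeSpectrum.comap _ (PrimeSpectrum.comap cm Q)
      rw [← PrimeSpectrum.comap_comp_apply]
      rfl
    rw [this, Set.preimage_comp]
    exact hT.preimage (PrimeSpectrum.continuous_comap _)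
  let fB := algebraMap A B f
  have hπf : ∀ Q, fB ∈ (π Q).asIdeal ↔ algebraMap A (A' ⊗[A] B) f ∈ Q.asIdeal := fun Q => by
    show (Algebra.TensorProduct.includeRight (R := A) (A := A') (B := B)) (algebraMap A B f) ∈ Q.asIdeal ↔ _
    rw [AlgHom.commutes]
  let V := PrimeSpectrum.zeroLocus {fB}
  let T₁ : Set (PrimeSpectrum B) := {q | fB ∈ q.asIdeal ∧ ∃ P, π P = q ∧ eB ∉ P.asIdeal}
  let T₀ : Set (PrimeSpectrum B) := {q | fB ∈ q.asIdeal ∧ ∃ P, π P = q ∧ eB ∈ P.asIdeal}
  have hmem : ∀ P : PrimeSpectrum (A' ⊗[A] B), (π P ∈ T₁ ↔ fB ∈ (π P).asIdeal ∧ eB ∉ P.asIdeal) ∧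
      (π P ∈ T₀ ↔ fB ∈ (π P).asIdeal ∧ eB ∈ P.asIdeal) := fun P =>
    ⟨⟨fun ⟨h, P', hP', h'⟩ => ⟨h, (hind P P' hP'.symm ((hπf P).1 h)).2 h'⟩, fun ⟨h, h'⟩ => ⟨h, P, rfl, h'⟩⟩,
      ⟨fun ⟨h, P', hP', h'⟩ => ⟨h, not_not.1 fun h'' => (hind P P' hP'.symm ((hπf P).1 h)).1 h'' h'⟩,
        fun ⟨h, h'⟩ => ⟨h, P, rfl, h'⟩⟩⟩
  have hidem : ∀ P : PrimeSpectrum (A' ⊗[A] B), eB ∉ P.asIdeal ↔ 1 - eB ∈ P.asIdeal := fun P => by
    have hmul : eB * (1 - eB) ∈ P.asIdeal := by rw [mul_sub, mul_one, heB, sub_self]; exact zero_mem _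
    refine ⟨fun h => (P.2.mem_or_mem hmul).resolve_left h, fun h h' => P.2.ne_top ((Ideal.eq_top_iff_one _).2 ?_)⟩
    have := P.asIdeal.add_mem h h'
    rwa [sub_add_cancel] at this
  have hT₁ : IsClosed T₁ := hq _ (by
    have : π ⁻¹' T₁ = π ⁻¹' V ∩ PrimeSpectrum.zeroLocus {1 - eB} := Set.ext fun P => by
      rw [Set.mem_inter_iff, Set.mem_preimage, Set.mem_preimage, (hmem P).1, hidem P,
        PrimeSpectrum.mem_zeroLocus, PrimeSpectrum.mem_zeroLocus, Set.singleton_subset_iff, Set.singleton_subset_iff]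
      rfl
    rw [this]
    exact ((PrimeSpectrum.isClosed_zeroLocus _).preimage (PrimeSpectrum.continuous_comap _)).inter
      (PrimeSpectrum.isClosed_zeroLocus _))
  have hT₀ : IsClosed T₀ := hq _ (by
    have : π ⁻¹' T₀ = π ⁻¹' V ∩ PrimeSpectrum.zeroLocus {eB} := Set.ext fun P => by
      rw [Set.mem_inter_iff, Set.mem_preimage, Set.mem_preimage, (hmem P).2,
        PrimeSpectrum.mem_zeroLocus, PrimeSpectrum.mem_zeroLocus, Set.singleton_subset_iff, Set.singleton_subset_iff]
      rfl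
    rw [this]
    exact ((PrimeSpectrum.isClosed_zeroLocus _).preimage (PrimeSpectrum.continuous_comap _)).inter
      (PrimeSpectrum.isClosed_zeroLocus _))
  have hlift : ∀ q : PrimeSpectrum B, ∃ P, π P = q := fun q => by
    obtain ⟨Q, hQ⟩ := PrimeSpectrum.comap_surjective_of_faithfullyFlat (A := B) (B := B ⊗[A] A') q
    refine ⟨PrimeSpectrum.comap (Algebra.TensorProduct.comm A A' B).toAlgHom.toRingHom Q, ?_⟩
    rw [← hQ]
    show PrimeSpectrum.comap _ (PrimeSpectrum.comap _ Q) = _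
    rw [← PrimeSpectrum.comap_comp_apply]
    rfl
  obtain ⟨t, ht, htO⟩ := exists_clopen_elem fB 1 Nat.one_pos T₀ᶜ T₁ᶜ hT₀.isOpen_compl hT₁.isOpen_compl
    (fun q hfq => by
      obtain ⟨P, rfl⟩ := hlift q
      by_cases h : eB ∈ P.asIdeal
      · exact Or.inr fun h' => ((hmem P).1.1 h').2 h
      · exact Or.inl fun h' => h ((hmem P).2.1 h').2)
    (fun q hfq h => by
      obtain ⟨P, rfl⟩ := hlift q
      refine not_not.2 ((hmem P).1.2 ⟨hfq, fun h' => h ((hmem P).2.2 ⟨hfq, h'⟩)⟩))
  obtain ⟨ε, hε, hεt⟩ := Hensel.exists_idempotent_lift_of_isIntegral (Ideal.span {f}) t (by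
    rw [Ideal.map_span, Set.image_singleton, ← pow_one (algebraMap A B f)]
    exact ht)
  rw [Ideal.map_span, Set.image_singleton, Ideal.mem_span_singleton] at hεt
  obtain ⟨s, hs⟩ := hεt
  refine ⟨ε.1, hBC _ ε.2, congrArg Subtype.val hε.eq, fun p hfp ⟨g, hgp⟩ => ?_⟩
  obtain ⟨Q, rfl⟩ := (comap_mem_iff p).1 hgp
  rw [mem_supp_iff (hBC _ ε.2) g Q]
  let q : PrimeSpectrum B :=
    PrimeSpectrum.comap ((Pi.evalRingHom (fun g : G => Cg C g.1) g).comp B.val.toRingHom) Q
  have hqp : PrimeSpectrum.comap dB.toRingHom q = PrimeSpectrum.comap (algebraMap C (Cg C g.1)) Q := by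
    rw [← PrimeSpectrum.comap_comp_apply]
    rfl
  have hfq : fB ∈ q.asIdeal := by
    show algebraMap A B f ∈ q.asIdeal
    rw [← dB.commutes f]
    show algebraMap A C f ∈ (PrimeSpectrum.comap dB.toRingHom q).asIdeal
    rw [hqp]
    exact hfp
  have hgq : algebraMap A B g.1 ∉ q.asIdeal := by
    rw [← dB.commutes g.1]
    show algebraMap A C g.1 ∉ (PrimeSpectrum.comap dB.toRingHom q).asIdeal
    rw [hqp]
    exact hgp
  obtain ⟨P, hP⟩ := hlift q
  have hfP : algebraMap A _ f ∈ P.asIdeal := (hπf P).1 (hP ▸ hfq)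
  have hgP : algebraMap A _ g.1 ∉ P.asIdeal := fun h => hgq (hP ▸ (by
    show (Algebra.TensorProduct.includeRight (R := A) (A := A') (B := B)) (algebraMap A B g.1) ∈ P.asIdeal
    rwa [AlgHom.commutes]))
  have h1 : ε.1 g ∉ Q.asIdeal ↔ t ∉ q.asIdeal := by
    show ε ∉ q.asIdeal ↔ _
    rw [← sub_add_cancel ε t, hs]
    exact not_congr (Ideal.add_mem_iff_right _ (q.asIdeal.mul_mem_right _ hfq))
  rw [h1, ← htO q hfq, ← hqp, ← hP, ← hval g P hgP hfP]
  exact ⟨fun h h' => h ((hmem P).2.2 ⟨hP ▸ hfq, h'⟩), fun h h' => h ((hmem P).2.1 h').2⟩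

end Groth.Agent.Pi1Ext.HyperDescent
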