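import Groth.Agent.Pi1Ext.HyperFF
import Groth.Agent.Pi1Ext.HyperDescent
import Groth.Agent.Pi1Ext.ComplGlue
import Groth.Agent.Pi1X.FEtColim

/-! Full faithfulness on a hypersurface section descends from the completion. -/

set_option autoImplicit false
set_option linter.style.haveILetI false
universe u

open CategoryTheory CategoryTheory.Limits AlgebraicGeometry IsLocalRing TensorProduct

noncomputable section

namespace Groth.Agent.Pi1Ext.HyperDown

open RegPurity PuritySch HyperClopen HyperFF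

set_option backward.isDefEq.respectTransparency false
set_option backward.isDefEq.respectTransparency.types false

/-- A clopen subset as an open subscheme. -/
abbrev opIn {Z : Scheme.{u}} (C : Set Z) (hC : IsClopen C) : Z.Opens := ⟨C, hC.2⟩

/-- The complement as an open subscheme. -/
abbrev opOut {Z : Scheme.{u}} (C : Set Z) (hC : IsClopen C) : Z.Opens := ⟨Cᶜ, hC.compl.2⟩

/-- Two maps glue along a clopen subset. -/
theorem exists_split {Z T : Scheme.{u}} (C : Set Z) (hC : IsClopen C) (a b : Z ⟶ T) :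
    ∃ m : Z ⟶ T, (opIn C hC).ι ≫ m = (opIn C hC).ι ≫ a ∧
      (opOut C hC).ι ≫ m = (opOut C hC).ι ≫ b := by
  let U : Z.Opens := ⟨C, hC.2⟩
  let V : Z.Opens := ⟨Cᶜ, hC.compl.2⟩
  obtain ⟨hc⟩ := nonempty_isColimit_binaryCofanMk_of_isCompl U.ι V.ι (by
    rw [Scheme.Opens.opensRange_ι, Scheme.Opens.opensRange_ι, isCompl_iff, disjoint_iff, codisjoint_iff,
      ← TopologicalSpace.Opens.coe_inj, ← TopologicalSpace.Opens.coe_inj]
    exact ⟨Set.inter_compl_self C, Set.union_compl_self C⟩)
  obtain ⟨m, h1, h2⟩ := BinaryCofan.IsColimit.desc' hc (U.ι ≫ a) (V.ι ≫ b)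
  exact ⟨m, h1, h2⟩

/-- The trivial double cover. -/
abbrev double (S : Scheme.{u}) : FEt.Cat S :=
  MorphismProperty.Over.mk ⊤ (coprod.desc (𝟙 S) (𝟙 S))
    (Pi1X.prop_coprodDesc (MorphismProperty.id_mem _ _) (MorphismProperty.id_mem _ _))

theorem split_base {Z : Scheme.{u}} {S : Scheme.{u}} (C : Set Z) (hC : IsClopen C) (c : Z ⟶ S)
    (m : Z ⟶ S ⨿ S) (h1 : (opIn C hC).ι ≫ m = (opIn C hC).ι ≫ c ≫ coprod.inl)
    (h2 : (opOut C hC).ι ≫ m = (opOut C hC).ι ≫ c ≫ coprod.inr) (z : Z) :
    z ∈ C ↔ m.base z ∈ Set.range (coprod.inl : S ⟶ S ⨿ S).base := by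
  refine ⟨fun hz => ⟨c.base z, ?_⟩, fun h => ?_⟩
  · have := congrArg (fun t => t.base ⟨z, hz⟩) h1
    simp only [Scheme.Hom.comp_apply] at this
    exact this.symm
  · by_contra hz
    obtain ⟨x, hx⟩ := h
    have := congrArg (fun t => t.base ⟨z, hz⟩) h2
    simp only [Scheme.Hom.comp_apply] at this
    exact inl_ne_inr S S x (c.base z) (hx.trans this)

/-- Full restriction lifts clopen subsets of covers. -/
theorem exists_clopen_of_full {X S : Scheme.{u}} (i : X ⟶ S) [(FEt.restrict i).Full] (W : FEt.Cat S)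
    (C : Set ↥(pullback W.hom i)) (hC : IsClopen C) :
    ∃ G : Set W.left, IsClopen G ∧ (pullback.fst W.hom i).base ⁻¹' G = C := by
  let c := pullback.fst W.hom i ≫ W.hom
  obtain ⟨m, h1, h2⟩ := exists_split C hC (c ≫ coprod.inl) (c ≫ coprod.inr)
  have hm : m ≫ coprod.desc (𝟙 S) (𝟙 S) = c := by
    obtain ⟨hc⟩ := nonempty_isColimit_binaryCofanMk_of_isCompl (opIn C hC).ι
      (opOut C hC).ι (by
      rw [Scheme.Opens.opensRange_ι, Scheme.Opens.opensRange_ι, isCompl_iff, disjoint_iff, codisjoint_iff,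
        ← TopologicalSpace.Opens.coe_inj, ← TopologicalSpace.Opens.coe_inj]
      exact ⟨Set.inter_compl_self C, Set.union_compl_self C⟩)
    refine BinaryCofan.IsColimit.hom_ext hc ?_ ?_
    · show (opIn C hC).ι ≫ m ≫ _ = (opIn C hC).ι ≫ c
      rw [← Category.assoc, h1]
      simp
    · show (opOut C hC).ι ≫ m ≫ _ = (opOut C hC).ι ≫ c
      rw [← Category.assoc, h2]
      simp
  let ψ : (FEt.restrict i).obj W ⟶ (FEt.restrict i).obj (double S) := MorphismProperty.Over.homMk
    (pullback.lift m (pullback.snd W.hom i) (hm.trans pullback.condition)) (pullback.lift_snd _ _ _)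
  obtain ⟨φ, hφ⟩ := (FEt.restrict i).map_surjective ψ
  let φl : W.left ⟶ S ⨿ S := φ.left
  refine ⟨φl.base ⁻¹' Set.range (coprod.inl : S ⟶ S ⨿ S).base, ⟨?_, ?_⟩, ?_⟩
  · rw [← isOpen_compl_iff, ← Set.preimage_compl, (isCompl_range_inl_inr S S).compl_eq]
    exact (coprod.inr : S ⟶ S ⨿ S).opensRange.2.preimage φl.continuous
  · exact (coprod.inl : S ⟶ S ⨿ S).opensRange.2.preimage φl.continuous
  ext z
  have he : pullback.fst W.hom i ≫ φl = m := by
    have h := congrArg (fun t => t.left ≫ pullback.fst (double S).hom i) hφ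
    simp [FEt.restrict, ψ] at h
    exact h
  rw [split_base C hC c m h1 h2 z, ← he]
  exact Iff.rfl

/-- Faithful restriction meets every clopen subset. -/
theorem meets_of_faithful {X S : Scheme.{u}} (i : X ⟶ S) [(FEt.restrict i).Faithful] (C : Set S)
    (hC : IsClopen C) (hne : C.Nonempty) : (C ∩ Set.range i.base).Nonempty := by
  by_contra hcon
  obtain ⟨m, h1, h2⟩ := exists_split C hC (coprod.inr : S ⟶ S ⨿ S) coprod.inl
  have hm : m ≫ coprod.desc (𝟙 S) (𝟙 S) = 𝟙 S := by
    obtain ⟨hc⟩ := nonempty_isColimit_binaryCofanMk_of_isCompl (opIn C hC).ι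
      (opOut C hC).ι (by
      rw [Scheme.Opens.opensRange_ι, Scheme.Opens.opensRange_ι, isCompl_iff, disjoint_iff, codisjoint_iff,
        ← TopologicalSpace.Opens.coe_inj, ← TopologicalSpace.Opens.coe_inj]
      exact ⟨Set.inter_compl_self C, Set.union_compl_self C⟩)
    refine BinaryCofan.IsColimit.hom_ext hc ?_ ?_
    · show (opIn C hC).ι ≫ m ≫ _ = (opIn C hC).ι ≫ 𝟙 S
      rw [← Category.assoc, h1]
      simp
    · show (opOut C hC).ι ≫ m ≫ _ = (opOut C hC).ι ≫ 𝟙 S
      rw [← Category.assoc, h2]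
      simp
  let T : FEt.Cat S := MorphismProperty.Over.mk ⊤ (𝟙 S) (MorphismProperty.id_mem _ _)
  let φ₁ : T ⟶ double S := MorphismProperty.Over.homMk m hm
  let φ₂ : T ⟶ double S := MorphismProperty.Over.homMk coprod.inl (coprod.inl_desc _ _)
  have heq : (FEt.restrict i).map φ₁ = (FEt.restrict i).map φ₂ := by
    refine MorphismProperty.Over.Hom.ext (pullback.hom_ext ?_ ?_)
    · let p : pullback (𝟙 S) i ⟶ S := pullback.fst (𝟙 S) i
      let V : S.Opens := ⟨Cᶜ, hC.compl.2⟩
      have hr : Set.range p.base ⊆ Set.range V.ι.base := by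
        rintro _ ⟨z, rfl⟩
        rw [Scheme.Opens.range_ι]
        intro hz
        refine hcon ⟨_, hz, ?_⟩
        have h : Set.range p.base = _ := Scheme.Pullback.range_fst (𝟙 S) i
        obtain ⟨w, hw⟩ : p.base z ∈ (𝟙 S : S ⟶ S).base ⁻¹' Set.range i.base := h ▸ ⟨z, rfl⟩
        exact ⟨w, hw⟩
      have hp : p ≫ m = p ≫ coprod.inl := by
        rw [← IsOpenImmersion.lift_fac V.ι p hr, Category.assoc, Category.assoc, h2]
      simp [FEt.restrict, φ₁, φ₂, T]
      exact hp
    · simp [FEt.restrict]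
  obtain ⟨y, hy⟩ := hne
  have hbad : m = coprod.inl := congrArg (fun t => t.left) ((FEt.restrict i).map_injective heq)
  have := congrArg (fun t => t.base ⟨y, hy⟩) h1
  simp only [Scheme.Hom.comp_apply] at this
  rw [hbad] at this
  exact inl_ne_inr S S _ _ this

variable {A : Type u} [CommRing A] [IsLocalRing A] [IsNoetherianRing A]

theorem full_faithful (f : A) (hf : f ∈ maximalIdeal A) [HenselianRing A (Ideal.span {f})]
    (A' : Type u) [CommRing A'] [Algebra A A'] [Module.FaithfullyFlat A A']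
    (hden : ∀ (N : ℕ) (a : A'), ∃ r : A, a - algebraMap A A' r ∈ (maximalIdeal A ^ N).map (algebraMap A A'))
    (h : (FEt.restrict (pullback.fst (pullback.fst (FEt.puncturedSpec A).ι (Spec.map (CommRingCat.ofHom (algebraMap A A'))))
        (pullback.fst (FEt.puncturedSpec A).ι (Spec.map (CommRingCat.ofHom (Ideal.Quotient.mk (Ideal.span {f}))))))).Full ∧
      (FEt.restrict (pullback.fst (pullback.fst (FEt.puncturedSpec A).ι (Spec.map (CommRingCat.ofHom (algebraMap A A'))))
        (pullback.fst (FEt.puncturedSpec A).ι (Spec.map (CommRingCat.ofHom (Ideal.Quotient.mk (Ideal.span {f}))))))).Faithful) :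
    (FEt.restrict (pullback.fst (FEt.puncturedSpec A).ι
      (Spec.map (CommRingCat.ofHom (Ideal.Quotient.mk (Ideal.span {f})))))).Full ∧
    (FEt.restrict (pullback.fst (FEt.puncturedSpec A).ι
      (Spec.map (CommRingCat.ofHom (Ideal.Quotient.mk (Ideal.span {f})))))).Faithful := by
  let ι := (FEt.puncturedSpec A).ι
  let i := pullback.fst ι (Spec.map (CommRingCat.ofHom (Ideal.Quotient.mk (Ideal.span {f}))))
  let s : Spec (CommRingCat.of A') ⟶ Spec (CommRingCat.of A) := Spec.map (CommRingCat.ofHom (algebraMap A A'))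
  let q₁ := pullback.fst ι s
  let i' := pullback.fst q₁ i
  haveI : (FEt.restrict i').Full := h.1
  haveI : (FEt.restrict i').Faithful := h.2
  obtain ⟨G, hG⟩ := IsNoetherian.noetherian (maximalIdeal A)
  have hgm : ∀ g : G, g.1 ∈ maximalIdeal A := fun g => hG ▸ Ideal.subset_span g.2
  haveI : Surjective s := ⟨PrimeSpectrum.comap_surjective_of_faithfullyFlat (A := A) (B := A')⟩
  haveI : Surjective q₁ := MorphismProperty.pullback_fst _ _ inferInstance
  have hC : ∀ C : Set (FEt.puncturedSpec A : Scheme.{u}), IsClopen C → C.Nonempty →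
      (C ∩ Set.range i.base).Nonempty := by
    rintro C hC ⟨y, hy⟩
    obtain ⟨y', rfl⟩ := q₁.surjective y
    obtain ⟨z, hz, w, rfl⟩ := meets_of_faithful i' (q₁.base ⁻¹' C) (hC.preimage q₁.continuous) ⟨y', hy⟩
    refine ⟨_, hz, (pullback.snd q₁ i).base w, ?_⟩
    rw [← Scheme.Hom.comp_apply, ← pullback.condition, Scheme.Hom.comp_apply]
  refine ⟨Pi1X.restrict_full i hC ?_, Pi1X.restrict_faithful i hC⟩
  intro W C₀ hC₀
  let w : W.left ⟶ (FEt.puncturedSpec A : Scheme.{u}) := W.hom
  haveI : IsFinite w := W.prop.1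
  obtain ⟨C, _, _, _, q, hq⟩ := FiniteModel.exists_finite_model w
  haveI : IsNoetherianRing C := IsNoetherianRing.of_finite A C
  let j : W.left ⟶ Spec (CommRingCat.of C) := q.hom ≫ pullback.fst (sp A C) ι
  have hjs : j ≫ sp A C = w ≫ ι := by
    rw [← hq, Category.assoc, Category.assoc, pullback.condition]
  have hjcomap : ∀ x, PrimeSpectrum.comap (algebraMap A C) (j.base x) = ι.base (w.base x) := fun x => by
    have := congrArg (fun t => t.base x) hjs
    simp only [Scheme.Hom.comp_apply] at this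
    exact this
  have hjr : ∀ p : PrimeSpectrum C, (∃ g : G, algebraMap A C g.1 ∉ p.asIdeal) → ∃ x, j.base x = p := by
    rintro p ⟨g, hg⟩
    have hp : p ∈ Set.range (pullback.fst (sp A C) ι).base := by
      rw [Scheme.Pullback.range_fst, Scheme.Opens.range_ι]
      exact mem_punctured (hgm g) (PrimeSpectrum.comap (algebraMap A C) p) hg
    obtain ⟨z, hz⟩ := hp
    obtain ⟨x, rfl⟩ := q.hom.surjective z
    exact ⟨x, hz⟩
  have hjg : ∀ x, ∃ g : G, algebraMap A C g.1 ∉ (j.base x).asIdeal := fun x => by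
    obtain ⟨g, hg⟩ := exists_gen_notMem hG (ι.base (w.base x)) (by
      show ι.base (w.base x) ∈ ((FEt.puncturedSpec A : (Spec (CommRingCat.of A)).Opens) : Set _)
      rw [← Scheme.Opens.range_ι]
      exact ⟨_, rfl⟩)
    rw [← hjcomap] at hg
    exact ⟨g, hg⟩
  have hjo := j.isOpenEmbedding
  let k := pullback.fst w i
  haveI : IsClosedImmersion i := MorphismProperty.pullback_fst _ _
    (IsClosedImmersion.spec_of_surjective _ Ideal.Quotient.mk_surjective)
  haveI : IsClosedImmersion k := MorphismProperty.pullback_fst _ _ inferInstance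
  have hk : Topology.IsClosedEmbedding k.base := k.isClosedEmbedding
  have hkr : ∀ x, x ∈ Set.range k.base ↔ algebraMap A C f ∈ (j.base x).asIdeal := fun x => by
    rw [Scheme.Pullback.range_fst, range_hyper]
    show f ∈ (ι.base (w.base x) : PrimeSpectrum A).asIdeal ↔ _
    rw [← hjcomap]
    exact Iff.rfl
  obtain ⟨O₀, hO₀, hO₀C⟩ := hk.toIsInducing.isOpen_iff.1 hC₀.2
  -- the completed cover
  let W' : FEt.Cat (pullback ι s) := (FEt.restrict q₁).obj W
  let w' : W'.left ⟶ pullback ι s := W'.hom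
  let k' := pullback.fst w' i'
  let a : W'.left ⟶ W.left := pullback.fst W.hom q₁
  let μ : pullback w' i' ⟶ pullback w i := pullback.lift (k' ≫ a) (pullback.snd w' i' ≫ pullback.snd q₁ i) (by
    show (k' ≫ pullback.fst W.hom q₁) ≫ W.hom = _
    rw [Category.assoc, pullback.condition, ← Category.assoc,
      show k' ≫ pullback.snd W.hom q₁ = pullback.snd w' i' ≫ i' from pullback.condition, Category.assoc,
      pullback.condition, Category.assoc])
  obtain ⟨G', hG', hG'C⟩ := exists_clopen_of_full i' W' (μ.base ⁻¹' C₀) (hC₀.preimage μ.continuous)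
  let C' := A' ⊗[A] C
  let inc : Spec (CommRingCat.of C') ⟶ Spec (CommRingCat.of C) :=
    Spec.map (CommRingCat.ofHom (Algebra.TensorProduct.includeRight : C →ₐ[A] C').toRingHom)
  let str : Spec (CommRingCat.of C') ⟶ Spec (CommRingCat.of A') :=
    Spec.map (CommRingCat.ofHom (algebraMap A' C'))
  have hp : IsPullback inc str (sp A C) s := by
    refine IsPullback.of_iso_pullback ⟨?_⟩ ((pullbackSpecIso A A' C).symm ≪≫ pullbackSymmetry _ _) ?_ ?_
    · rw [← Spec.map_comp, ← Spec.map_comp]
      congr 1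
      ext a
      exact Algebra.TensorProduct.includeRight.commutes a
    · rw [Iso.trans_hom, Category.assoc, pullbackSymmetry_hom_comp_fst]
      exact pullbackSpecIso_inv_snd A A' C
    · rw [Iso.trans_hom, Category.assoc, pullbackSymmetry_hom_comp_snd]
      exact pullbackSpecIso_inv_fst A A' C
  have hbig : IsPullback a (pullback.snd W.hom q₁ ≫ pullback.snd ι s) (j ≫ sp A C) s := by
    rw [hjs]
    exact (IsPullback.of_hasPullback W.hom q₁).paste_vert (IsPullback.of_hasPullback ι s)
  let j' : W'.left ⟶ Spec (CommRingCat.of C') := hp.lift (a ≫ j) (pullback.snd W.hom q₁ ≫ pullback.snd ι s) (by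
    rw [Category.assoc]; exact hbig.w)
  have hj'1 : j' ≫ inc = a ≫ j := hp.lift_fst _ _ _
  have hsq : IsPullback a j' j inc :=
    IsPullback.of_bot (by rw [show j' ≫ str = pullback.snd W.hom q₁ ≫ pullback.snd ι s from hp.lift_snd _ _ _]; exact hbig)
      hj'1.symm hp
  haveI : IsOpenImmersion j' := MorphismProperty.of_isPullback (P := @IsOpenImmersion) hsq inferInstance
  have hincb : ∀ x, PrimeSpectrum.comap (Algebra.TensorProduct.includeRight : C →ₐ[A] C').toRingHom (j'.base x) =
      j.base (a.base x) := fun x => by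
    have := congrArg (fun t => t.base x) hj'1
    simp only [Scheme.Hom.comp_apply] at this
    exact this
  have hincm : ∀ (r : PrimeSpectrum C') (b : A), algebraMap A C b ∈
      (PrimeSpectrum.comap (Algebra.TensorProduct.includeRight : C →ₐ[A] C').toRingHom r).asIdeal ↔
      algebraMap A C' b ∈ r.asIdeal := fun r b => by
    show (Algebra.TensorProduct.includeRight : C →ₐ[A] C') (algebraMap A C b) ∈ r.asIdeal ↔ _
    rw [AlgHom.commutes]
  have hj'r : ∀ (g : G) (r : PrimeSpectrum C'), algebraMap A C' g.1 ∉ r.asIdeal → ∃ x, j'.base x = r := by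
    intro g r hgr
    obtain ⟨x, hx⟩ := hjr _ ⟨g, fun h => hgr ((hincm r g.1).1 h)⟩
    obtain ⟨y, -, hy⟩ := Scheme.Pullback.exists_preimage_pullback (f := j) (g := inc) x r hx
    refine ⟨hsq.isoPullback.inv.base y, ?_⟩
    rw [← Scheme.Hom.comp_apply, IsPullback.isoPullback_inv_snd]
    exact hy
  have hj'o := j'.isOpenEmbedding
  obtain ⟨ε, hεc, hεi, hεO⟩ := HyperDescent.exists_idempotent A' hG hf hden (j'.base '' G') (j'.base '' G'ᶜ)
    (hj'o.isOpenMap _ hG'.2) (hj'o.isOpenMap _ hG'.compl.2)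
    (fun g r hgr => by
      obtain ⟨x, rfl⟩ := hj'r g r hgr
      rw [hj'o.injective.mem_set_image, hj'o.injective.mem_set_image]
      exact Classical.em _)
    (fun g r hgr => by
      obtain ⟨x, rfl⟩ := hj'r g r hgr
      rw [hj'o.injective.mem_set_image, hj'o.injective.mem_set_image]
      exact fun h h' => h' h)
    (j.base '' O₀)
    (fun g r hgr hfr => by
      obtain ⟨x, rfl⟩ := hj'r g r hgr
      rw [hincb, hj'o.injective.mem_set_image, hjo.injective.mem_set_image]
      obtain ⟨z, hz⟩ : a.base x ∈ Set.range k.base := (hkr _).2 (by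
        rw [← hincb]
        exact (hincm _ f).2 hfr)
      obtain ⟨v, hv⟩ : x ∈ Set.range k'.base := by
        have hqa : q₁.base (w'.base x) = w.base (a.base x) := by
          rw [← Scheme.Hom.comp_apply, ← Scheme.Hom.comp_apply]
          exact congrArg (fun t => t.base x) (pullback.condition (f := W.hom) (g := q₁)).symm
        have hzr : w.base (a.base x) ∈ Set.range i.base := by
          refine ⟨(pullback.snd w i).base z, ?_⟩
          rw [← hz, ← Scheme.Hom.comp_apply, ← Scheme.Hom.comp_apply]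
          exact congrArg (fun t => t.base z) (pullback.condition (f := w) (g := i)).symm
        rw [Scheme.Pullback.range_fst, Scheme.Pullback.range_fst]
        show q₁.base (w'.base x) ∈ Set.range i.base
        rw [hqa]
        exact hzr
      have hμ : k.base (μ.base v) = a.base x := by
        rw [← hv, ← Scheme.Hom.comp_apply, ← Scheme.Hom.comp_apply, pullback.lift_fst]
      rw [← hμ, show k.base (μ.base v) ∈ O₀ ↔ μ.base v ∈ C₀ from by rw [← hO₀C]; rfl, ← hv,
        show k'.base v ∈ G' ↔ v ∈ μ.base ⁻¹' C₀ from by rw [← hG'C]; rfl]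
      exact Iff.rfl)
  refine ⟨j.base ⁻¹' supp ε, ⟨?_, (isOpen_supp ε).preimage j.continuous⟩, ?_⟩
  · have hc : (j.base ⁻¹' supp ε)ᶜ = j.base ⁻¹' supp (1 - ε) := by
      ext x
      obtain ⟨g, hg⟩ := hjg x
      obtain ⟨P, hP⟩ := (HyperClopen.comap_mem_iff (j.base x)).1 hg
      show j.base x ∉ supp ε ↔ j.base x ∈ supp (1 - ε)
      rw [← hP, mem_supp_iff hεc g P, mem_supp_iff (sub_mem (one_mem _) hεc) g P, not_not,
        Pi.sub_apply, Pi.one_apply]
      have hmul : ε g * (1 - ε g) ∈ P.asIdeal := by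
        rw [mul_sub, mul_one, show ε g * ε g = ε g from congrFun hεi g, sub_self]
        exact zero_mem _
      refine ⟨fun h h' => P.2.ne_top ((Ideal.eq_top_iff_one _).2 ?_), fun h => (P.2.mem_or_mem hmul).resolve_right h⟩
      have := P.asIdeal.add_mem h' h
      rwa [sub_add_cancel] at this
    rw [← isOpen_compl_iff, hc]
    exact (isOpen_supp _).preimage j.continuous
  · ext z
    have hz := hεO (j.base (k.base z)) ((hkr _).1 ⟨z, rfl⟩) (hjg _)
    show j.base (k.base z) ∈ supp ε ↔ _
    rw [hz, hjo.injective.mem_set_image, ← Set.mem_preimage, hO₀C]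

end Groth.Agent.Pi1Ext.HyperDown
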