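import Groth.Agent.KFlatLib.Ring.DualizingLocalDuality
import Groth.Agent.KFlatLib.Ring.DualizingRange
import Groth.Agent.KFlatLib.Ring.InvertibleTwist
import Groth.Agent.LC.InjBasic
import Groth.Agent.LC.GorLoc
import Groth.Agent.Synt29.SmoothProps
import Groth.Agent.S0364
import Groth.Prelude.Def_CAlg

/-! Powers of an element kill the first two local cohomology groups, by local duality. -/

set_option autoImplicit false
set_option linter.style.haveILetI false
set_option backward.isDefEq.respectTransparency false
universe u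

open CategoryTheory IsLocalRing
attribute [local instance] HasDerivedCategory.standard

namespace Groth.Agent.Pi1Ext.HyperDual

variable {A : Type u} [CommRing A] [IsNoetherianRing A]

/-- A normalized dualizing complex exists as soon as a dualizing complex does. -/
theorem exists_normalized [IsLocalRing A] (ω : Dual.D A) (hω : Dual.IsDualizing A ω) :
    ∃ ω' : Dual.D A, Dual.IsDualizing A ω' ∧ Dual.IsNormalized A ω' := by
  obtain ⟨n, hn, -⟩ := Groth.Agent.S0364.result A ω hω (maximalIdeal A)
  refine ⟨ω⟦n⟧, KFlatLib.isDualizing_shift hω n, fun i hi => ?_⟩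
  haveI : Subsingleton (Dual.inD A (A ⧸ maximalIdeal A) ⟶ ω⟦n + i⟧) := hn (n + i) (by omega)
  exact ((Iso.homCongr (Iso.refl (Dual.inD A (A ⧸ maximalIdeal A)))
    ((shiftFunctorAdd' (Dual.D A) n i (n + i) rfl).app ω).symm)).subsingleton

/-- Depth and dimension of a local ring at a prime avoiding `f`, read off from `A_f`. -/
theorem min_le_depth_of_hasSk (f : A) (k : ℕ) (h : LocCoh.HasSk k (Localization.Away f) (Localization.Away f))
    (p : Ideal A) [p.IsPrime] (hfp : f ∉ p) :
    min (k : WithBot ℕ∞) (ringKrullDim (Localization.AtPrime p)) ≤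
      ((LocCoh.depth (Localization.AtPrime p) (Localization.AtPrime p) : ℕ∞) : WithBot ℕ∞) := by
  let Af := Localization.Away f
  let P : Ideal Af := p.map (algebraMap A Af)
  have hdisj : Disjoint (Submonoid.powers f : Set A) p := by
    rw [Set.disjoint_left]
    rintro _ ⟨n, rfl⟩ hn
    exact hfp (‹p.IsPrime›.mem_of_pow_mem n hn)
  haveI : P.IsPrime := IsLocalization.isPrime_of_isPrime_disjoint (Submonoid.powers f) Af p ‹_› hdisj
  have hP : P.comap (algebraMap A Af) = p :=
    IsLocalization.under_map_of_isPrime_disjoint (Submonoid.powers f) Af ‹_› hdisj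
  have h1 := h P
  haveI : IsLocalization.AtPrime (Localization.AtPrime P) (P.comap (algebraMap A Af)) :=
    IsLocalization.isLocalization_isLocalization_atPrime_isLocalization (Submonoid.powers f) (Localization.AtPrime P) P
  haveI : IsLocalization p.primeCompl (Localization.AtPrime P) := by
    convert (‹IsLocalization.AtPrime (Localization.AtPrime P) (P.comap (algebraMap A Af))› :) using 2
    exact hP.symm
  let e : Localization.AtPrime P ≃+* Localization.AtPrime p :=
    (IsLocalization.algEquiv p.primeCompl (Localization.AtPrime P) (Localization.AtPrime p)).toRingEquiv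
  haveI : IsNoetherianRing Af := IsLocalization.isNoetherianRing (Submonoid.powers f) _ inferInstance
  haveI : IsNoetherianRing (Localization.AtPrime P) := IsLocalization.isNoetherianRing P.primeCompl _ inferInstance
  haveI : Module.Finite (Localization.AtPrime P) (LocalizedModule P.primeCompl Af) :=
    Module.Finite.of_isLocalizedModule P.primeCompl (LocalizedModule.mkLinearMap _ _)
  rw [Module.supportDim_eq_of_equiv (LC.selfLoc P.primeCompl), Module.supportDim_self_eq_ringKrullDim,
    ringKrullDim_eq_of_ringEquiv e] at h1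
  rw [show LocCoh.depth (Localization.AtPrime P) (LocalizedModule P.primeCompl Af) =
    LocCoh.depth (Localization.AtPrime P) (Localization.AtPrime P) from
      LC.idealDepth_congr _ (LC.selfLoc P.primeCompl), Synt29.SmoothProps.depth_congr_ring e] at h1
  exact h1

variable [IsLocalRing A]

/-- Under either condition a power of `f` kills the first two local cohomology groups. -/
theorem exists_pow_smul_H (f : A) (hf : f ∈ maximalIdeal A) (hd : ∃ ω : Dual.D A, Dual.IsDualizing A ω)
    (hc : ((LocCoh.HasSk 2 (Localization.Away f) (Localization.Away f) ∧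
        ∀ p : Ideal A, p ∈ minimalPrimes A → f ∉ p → (3 : WithBot ℕ∞) ≤ ringKrullDim (A ⧸ p)) ∨
      (∀ p : Ideal A, ∀ _ : p.IsPrime, f ∉ p →
        (2 : WithBot ℕ∞) < (LocCoh.depth (Localization.AtPrime p) (Localization.AtPrime p) : WithBot ℕ∞) + ringKrullDim (A ⧸ p))))
    (i : ℕ) (hi : i ≤ 2) : ∃ N : ℕ, ∀ x : LocCoh.H (maximalIdeal A) i A, f ^ N • x = 0 := by
  obtain ⟨ω₀, hω₀⟩ := hd
  obtain ⟨ω, hω, hn⟩ := exists_normalized ω₀ hω₀
  obtain ⟨E, _, _, g, hg⟩ := LC.exists_injectiveHull A (ResidueField A)
  obtain ⟨e⟩ := KFlatLib.exists_localDuality_dualizing hg hω hn A i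
  let W := (Dual.inD A A ⟶ ω⟦-(i : ℤ)⟧)
  obtain ⟨a, b, -, _, _⟩ := KFlatLib.exists_bounds_of_isDualizing hω
  haveI : Module.Finite A W := KFlatLib.finite_hom_module ω a hω.finite_cohomology A (-(i : ℤ))
  suffices hrad : f ∈ (Module.annihilator A W).radical by
    obtain ⟨N, hN⟩ := hrad
    refine ⟨N, fun x => e.injective (LinearMap.ext fun w => ?_)⟩
    rw [map_smul, map_zero, LinearMap.smul_apply, ← map_smul, Module.mem_annihilator.1 hN w, map_zero]
    rfl
  rw [Ideal.radical_eq_sInf, Ideal.mem_sInf]
  rintro p ⟨hp, hpp⟩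
  by_contra hfp
  haveI := hpp
  let P : PrimeSpectrum A := ⟨p, hpp⟩
  have hP : P ∈ Module.support A W := by
    rw [Module.support_eq_zeroLocus]
    exact hp
  obtain ⟨n, hdeg, -, hmono, -, hdim⟩ := KFlatLib.exists_normalized_degree hω hn
  have hPA : P ∈ Module.support A A := by
    rw [Module.support_eq_zeroLocus, Module.annihilator_eq_bot.2 inferInstance]
    simp
  obtain ⟨δ, D, hδ, hD⟩ := KFlatLib.exists_depth_dim P A hPA
  have hP' := ((KFlatLib.localized_ext_range hω hdeg P A δ D hδ hD).1 _ hP).2
  obtain ⟨d, hdP, hd'⟩ := hdim P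
  have hδ' : LocCoh.depth (Localization.AtPrime p) (Localization.AtPrime p) = δ := by
    haveI : Module.Finite (Localization.AtPrime p) (LocalizedModule p.primeCompl A) :=
      Module.Finite.of_isLocalizedModule p.primeCompl (LocalizedModule.mkLinearMap _ _)
    haveI : IsNoetherianRing (Localization.AtPrime p) := IsLocalization.isNoetherianRing p.primeCompl _ inferInstance
    exact (LC.idealDepth_congr _ (LC.selfLoc p.primeCompl)).symm.trans hδ
  rcases hc with ⟨hS, hmin⟩ | hc
  · have hD' : ringKrullDim (Localization.AtPrime p) = D := by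
      rw [← Module.supportDim_self_eq_ringKrullDim, ← Module.supportDim_eq_of_equiv (LC.selfLoc p.primeCompl)]
      exact hD
    have h2 := min_le_depth_of_hasSk f 2 hS p hfp
    rw [hδ', hD'] at h2
    have h2' : min 2 D ≤ δ := by
      rw [show ((D : ℕ) : WithBot ℕ∞) = ((D : ℕ∞) : WithBot ℕ∞) from rfl,
        show ((2 : ℕ) : WithBot ℕ∞) = ((2 : ℕ∞) : WithBot ℕ∞) from rfl, ← WithBot.coe_min, WithBot.coe_le_coe] at h2
      exact min_le_iff.2 ((min_le_iff.1 h2).imp (fun h => by exact_mod_cast h) (fun h => by exact_mod_cast h))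
    have hne : P ≠ IsLocalRing.closedPoint A := by
      intro h
      exact hfp (by rw [show p = maximalIdeal A from congrArg PrimeSpectrum.asIdeal h]; exact hf)
    have hnP : n P < 0 := by
      obtain ⟨n', h', h0', hmono', -, -⟩ := KFlatLib.exists_normalized_degree hω hn
      have hlt : n P < n (IsLocalRing.closedPoint A) := hmono (lt_of_le_of_ne
        (show P ≤ IsLocalRing.closedPoint A from IsLocalRing.le_maximalIdeal P.isPrime.ne_top) hne)
      rwa [KFlatLib.extDegree_closedPoint hn hdeg] at hlt
    rcases le_or_gt 2 D with h | h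
    · omega
    obtain ⟨q, hq, hqp⟩ := Ideal.exists_minimalPrimes_le (show (⊥ : Ideal A) ≤ p from bot_le)
    haveI : q.IsPrime := hq.1.1
    have hq3 := hmin q hq fun hfq => hfp (hqp hfq)
    let Q : PrimeSpectrum A := ⟨q, hq.1.1⟩
    obtain ⟨dq, hdQ, hdq'⟩ := hdim Q
    rw [show ringKrullDim (A ⧸ q) = (dq : WithBot ℕ∞) from hdQ] at hq3
    have hq3' : 3 ≤ dq := by exact_mod_cast hq3
    obtain ⟨m, hm, hcov, -, -⟩ := KFlatLib.exists_extDegree hω
    have hnm : ∀ R, n R = m R := fun R => (hm R (n R)).1 ((hdeg R (n R)).2 rfl)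
    have hht : p.height = (D : ℕ∞) := by
      have := IsLocalization.AtPrime.ringKrullDim_eq_height p (Localization.AtPrime p)
      rw [hD'] at this
      exact_mod_cast this.symm
    rcases (show Q ≤ P from hqp).eq_or_lt with heq | hlt
    · have hqp' : q = p := congrArg PrimeSpectrum.asIdeal heq
      subst hqp'
      have : D = 0 := by
        have h0 : q.height = 0 := Ideal.height_eq_zero_iff.2 hq
        rw [hht] at h0
        exact_mod_cast h0
      have : n P = n Q := rfl
      omega
    · have hPQ : n P = n Q + 1 := by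
        rw [hnm, hnm]
        refine hcov Q P ⟨hlt, fun R hQR hRP => ?_⟩
        have e1 := Ideal.height_strict_mono_of_isPrime (I := q) (J := R.asIdeal) hQR
        haveI := R.isPrime
        have e2 := Ideal.height_strict_mono_of_isPrime (I := R.asIdeal) (J := p) hRP
        rw [hht] at e2
        have e3 : R.asIdeal.height ≤ 0 := by
          have : R.asIdeal.height < ((0 + 1 : ℕ) : ℕ∞) := lt_of_lt_of_le e2 (by exact_mod_cast (show D ≤ 0 + 1 by omega))
          exact Order.le_of_lt_add_one (by simpa using this)
        exact not_lt_of_ge (zero_le) (lt_of_lt_of_le e1 e3)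
      have hD0 : D ≠ 0 := fun h0 => by
        have e1 := Ideal.height_strict_mono_of_isPrime (I := q) (J := p) hlt
        rw [hht, h0] at e1
        exact not_lt_of_ge (zero_le) e1
      omega
  · have h2 := hc p hpp hfp
    rw [hδ', show ringKrullDim (A ⧸ p) = (d : WithBot ℕ∞) from hdP] at h2
    have h2' : 2 < δ + d := by
      have h3 : ((2 : ℕ∞) : WithBot ℕ∞) < ((δ + d : ℕ∞) : WithBot ℕ∞) := by rw [WithBot.coe_add]; exact h2
      rw [WithBot.coe_lt_coe] at h3
      exact_mod_cast h3
    omega

end Groth.Agent.Pi1Ext.HyperDual
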