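import Groth.Agent.Pi1Ext.CechTors
import Mathlib.RingTheory.Flat.EquationalCriterion

/-! The Čech annihilators pass to flat algebras. -/

set_option autoImplicit false
set_option linter.style.haveILetI false
universe u

noncomputable section

namespace Groth.Agent.Pi1Ext.CechTors

variable {A : Type u} [CommRing A] (A' : Type u) [CommRing A'] [Algebra A A'] [Module.Flat A A'] {G : Finset A}
  {G' : Finset A'}

/-- Solutions of linear equations in a flat algebra are combinations of solutions in the ring. -/
theorem exists_solutions {ι κ : Type u} [Finite ι] [Finite κ] (rel : κ → ι →₀ A) (x : ι → A')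
    (hx : ∀ k, Finsupp.linearCombination A x (rel k) = 0) :
    ∃ (n : ℕ) (z : Fin n → ι → A) (w : Fin n → A'), (∀ j k, Finsupp.linearCombination A (z j) (rel k) = 0) ∧
      ∀ i, x i = ∑ j, z j i • w j := by
  obtain ⟨n, a, y, hya, ha⟩ := Module.Flat.exists_factorization_of_comp_eq_zero_of_free
    (f := Finsupp.linearCombination A rel) (x := Finsupp.linearCombination A x) (by
      refine Finsupp.lhom_ext fun k c => ?_
      simp only [LinearMap.comp_apply, Finsupp.linearCombination_single, map_smul, hx k, smul_zero,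
        LinearMap.zero_apply])
  refine ⟨n, fun j i => a (Finsupp.single i 1) j, fun j => y (Finsupp.single j 1), fun j k => ?_, fun i => ?_⟩
  · have h0 : a (rel k) = 0 := by
      have := LinearMap.congr_fun ha (Finsupp.single k 1)
      simpa using this
    have e : Finsupp.linearCombination A (fun i => a (Finsupp.single i 1) j) = (Finsupp.lapply j).comp a := by
      refine Finsupp.lhom_ext fun i c => ?_
      rw [Finsupp.linearCombination_single, LinearMap.comp_apply, Finsupp.lapply_apply,
        show Finsupp.single i c = c • Finsupp.single i (1 : A) by rw [Finsupp.smul_single, smul_eq_mul, mul_one],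
        map_smul, Finsupp.smul_apply]
    rw [e, LinearMap.comp_apply, h0, map_zero]
  · have h := LinearMap.congr_fun hya (Finsupp.single i 1)
    rw [Finsupp.linearCombination_single, one_smul, LinearMap.comp_apply] at h
    rw [h]
    conv_lhs => rw [← Finsupp.univ_sum_single (a (Finsupp.single i 1)), map_sum]
    refine Finset.sum_congr rfl fun j _ => ?_
    rw [← map_smul, Finsupp.smul_single, smul_eq_mul, mul_one]

theorem T0.of_flat (hG : ∀ g' ∈ G', ∃ g ∈ G, algebraMap A A' g = g')
    (hG' : ∀ g ∈ G, algebraMap A A' g ∈ G') {c : A} (h : T0 G A c) : T0 G' A' (algebraMap A A' c) := by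
  intro k m hm
  let φ : G → G' := fun g => ⟨algebraMap A A' g, hG' g g.2⟩
  let rel : G × G → G →₀ A := fun p => Finsupp.single p.1 (p.2.1 ^ k) - Finsupp.single p.2 (p.1.1 ^ k)
  obtain ⟨n, z, w, hz, hw⟩ := exists_solutions A' rel (fun g => m (φ g)) fun p => by
    simp only [rel, map_sub, Finsupp.linearCombination_single, Algebra.smul_def, map_pow]
    exact sub_eq_zero.2 (hm (φ p.1) (φ p.2))
  choose x l hx using fun j => h k (z j) fun g g' => by
    have := hz j (g, g')
    simp only [rel, map_sub, Finsupp.linearCombination_single] at this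
    exact sub_eq_zero.1 this
  refine ⟨∑ j, x j • w j, Finset.univ.sup l, fun g' => ?_⟩
  obtain ⟨g, hgG, hg⟩ := hG g'.1 g'.2
  have hg' : g' = φ ⟨g, hgG⟩ := Subtype.ext hg.symm
  rw [hg', show m (φ ⟨g, hgG⟩) = ∑ j, z j ⟨g, hgG⟩ • w j from hw ⟨g, hgG⟩]
  simp only [Finset.smul_sum, φ, ← map_pow, algebraMap_smul, smul_smul]
  refine Finset.sum_congr rfl fun j _ => ?_
  congr 1
  obtain ⟨e, he⟩ := Nat.exists_eq_add_of_le (Finset.le_sup (f := l) (Finset.mem_univ j))
  have := hx j ⟨g, hgG⟩
  simp only [smul_eq_mul] at this ⊢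
  rw [he, pow_add g, pow_add g]
  linear_combination (norm := (rw [pow_add]; ring)) g ^ e * this

theorem T1.of_flat (hG : ∀ g' ∈ G', ∃ g ∈ G, algebraMap A A' g = g')
    (hG' : ∀ g ∈ G, algebraMap A A' g ∈ G') {c : A} (h : T1 G A c) : T1 G' A' (algebraMap A A' c) := by
  intro k d hd
  let φ : G → G' := fun g => ⟨algebraMap A A' g, hG' g g.2⟩
  let rel : G × G × G → G × G →₀ A := fun p => Finsupp.single (p.1, p.2.1) (p.2.2.1 ^ k) -
    Finsupp.single (p.1, p.2.2) (p.2.1.1 ^ k) + Finsupp.single (p.2.1, p.2.2) (p.1.1 ^ k)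
  obtain ⟨n, z, w, hz, hw⟩ := exists_solutions A' rel (fun p => d (φ p.1) (φ p.2)) fun p => by
    have := hd (φ p.1) (φ p.2.1) (φ p.2.2)
    simp only [φ, ← map_pow, algebraMap_smul] at this
    simp only [rel, map_sub, map_add, Finsupp.linearCombination_single, φ]
    exact this
  choose K b hb using fun j => h k (fun g g' => z j (g, g')) fun g g' l => by
    have := hz j (g, g', l)
    simp only [rel, map_sub, map_add, Finsupp.linearCombination_single] at this
    exact this
  let K₀ := Finset.univ.sup K
  let b₀ : G → A' := fun g => ∑ j, (g.1 ^ (K₀ - K j) * b j g) • w j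
  choose sel hsel hsel' using fun g' : G' => hG g'.1 g'.2
  refine ⟨K₀, fun g' => b₀ ⟨sel g', hsel g'⟩, fun g' h' => ?_⟩
  have hg' : g' = φ ⟨sel g', hsel g'⟩ := Subtype.ext (hsel' g').symm
  have hh' : h' = φ ⟨sel h', hsel h'⟩ := Subtype.ext (hsel' h').symm
  beta_reduce
  generalize (⟨sel g', hsel g'⟩ : G) = g at hg' ⊢
  generalize (⟨sel h', hsel h'⟩ : G) = h at hh' ⊢
  subst hg' hh'
  rw [show d (φ g) (φ h) = ∑ j, z j (g, h) • w j from hw (g, h)]
  simp only [b₀, φ, Finset.smul_sum, ← map_mul, ← map_pow, algebraMap_smul, smul_smul, ← Finset.sum_sub_distrib,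
    ← sub_smul]
  refine Finset.sum_congr rfl fun j _ => ?_
  congr 1
  obtain ⟨e, he⟩ := Nat.exists_eq_add_of_le (Finset.le_sup (f := K) (Finset.mem_univ j))
  have := hb j g h
  simp only [smul_eq_mul] at this
  rw [show K₀ = K j + e from he, show K j + e - K j = e by omega]
  linear_combination (norm := (simp only [pow_add, mul_pow]; ring)) (g.1 * h.1) ^ e * this

end Groth.Agent.Pi1Ext.CechTors
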