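import Groth.Agent.Pi1Ext.PuritySch

/-! An isomorphism of covers of the punctured spectrum is a zigzag of algebra maps. -/

set_option autoImplicit false
set_option linter.style.haveILetI false
universe u

open CategoryTheory CategoryTheory.Limits AlgebraicGeometry IsLocalRing

noncomputable section

namespace Groth.Agent.Pi1Ext.Zigzag

open RegPurity PuritySch

set_option backward.isDefEq.respectTransparency false
set_option backward.isDefEq.respectTransparency.types false

/-- Sections of an open subscheme containing a basic open, away from that function. -/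
theorem sections_away {P X : Scheme.{u}} [IsAffine X] (j : P ⟶ X) [IsOpenImmersion j] [CompactSpace P]
    [QuasiSeparatedSpace P] (a : Γ(X, ⊤)) (ha : X.basicOpen a ≤ j.opensRange) :
    (∀ w : Γ(P, ⊤), ∃ (n : ℕ) (b : Γ(X, ⊤)), (j.appTop.hom a) ^ n * w = j.appTop.hom b) ∧
      ∀ b : Γ(X, ⊤), j.appTop.hom b = 0 → ∃ n : ℕ, a ^ n * b = 0 := by
  let D := X.basicOpen a
  haveI := j.isIso_app D ha
  haveI hloc : IsLocalization.Away a Γ(X, D) := (isAffineOpen_top X).isLocalization_basicOpen a
  let r : Γ(X, ⊤) ⟶ Γ(X, D) := X.presheaf.map (homOfLE le_top).op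
  let r' : Γ(P, ⊤) ⟶ Γ(P, j ⁻¹ᵁ D) := P.presheaf.map (homOfLE le_top).op
  have hnat : ∀ x, (j.app D).hom (r.hom x) = r'.hom (j.appTop.hom x) := fun x =>
    ConcreteCategory.congr_hom (j.naturality (homOfLE (le_top : D ≤ ⊤)).op) x
  have hbij := ConcreteCategory.bijective_of_isIso (j.app D)
  have halg : ∀ x, algebraMap Γ(X, ⊤) Γ(X, D) x = r.hom x := fun _ => rfl
  have hkill : ∀ (O : P.Opens) (_ : O = P.basicOpen (j.appTop.hom a)) (w : Γ(P, ⊤)),
      (P.presheaf.map (homOfLE (le_top : O ≤ ⊤)).op).hom w = 0 → ∃ n : ℕ, (j.appTop.hom a) ^ n * w = 0 := by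
    rintro O rfl w hw
    exact exists_pow_mul_eq_zero_of_res_basicOpen_eq_zero_of_isCompact P (U := ⊤) isCompact_univ w _ hw
  have hD : j ⁻¹ᵁ D = P.basicOpen (j.appTop.hom a) := Scheme.preimage_basicOpen_top j a
  constructor
  · intro w
    obtain ⟨s, hs⟩ := hbij.2 (r'.hom w)
    obtain ⟨⟨b, _, n, rfl⟩, hb⟩ := IsLocalization.surj (Submonoid.powers a) s
    have h1 : r'.hom (w * (j.appTop.hom a) ^ n - j.appTop.hom b) = 0 := by
      rw [_root_.map_sub, map_mul, ← hs, ← map_pow, ← hnat, ← hnat, ← map_mul, sub_eq_zero]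
      exact congrArg (j.app D).hom hb
    obtain ⟨m, hm⟩ := hkill _ hD _ h1
    refine ⟨m + n, a ^ m * b, ?_⟩
    rw [map_mul, map_pow, pow_add]
    linear_combination hm
  · intro b hb
    have h1 : r.hom b = 0 := hbij.1 (by
      show (j.app D).hom (r.hom b) = (j.app D).hom 0
      rw [hnat, hb, map_zero, map_zero])
    obtain ⟨⟨_, n, rfl⟩, hn⟩ := (IsLocalization.map_eq_zero_iff (Submonoid.powers a) Γ(X, D) b).1 ((halg b).trans h1)
    exact ⟨n, hn⟩

variable {A : Type u} [CommRing A] [IsLocalRing A] [IsNoetherianRing A]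

theorem exists_zigzag {C B : Type u} [CommRing C] [CommRing B] [Algebra A C] [Algebra A B]
    [Module.Finite A C] [Module.Finite A B] (hC : FEt.prop (rest A C)) (hB : FEt.prop (rest A B))
    (e : obj B hB ≅ obj C hC) :
    ∃ (R : Type u) (_ : CommRing R) (_ : Algebra A R) (_ : Module.Finite A R) (u : C →ₐ[A] R) (v : B →ₐ[A] R),
      (∀ g ∈ maximalIdeal A, IsoAway u g) ∧ ∀ g ∈ maximalIdeal A, IsoAway v g := by
  let P := pullback (sp A B) (FEt.puncturedSpec A).ι
  let jB : P ⟶ Spec (CommRingCat.of B) := pullback.fst _ _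
  let el : P ⟶ pullback (sp A C) (FEt.puncturedSpec A).ι := e.hom.left
  let el' : pullback (sp A C) (FEt.puncturedSpec A).ι ⟶ P := e.inv.left
  haveI : IsIso el := ⟨el', by
    show e.hom.left ≫ e.inv.left = _
    rw [← MorphismProperty.Comma.comp_left, Iso.hom_inv_id]; rfl, by
    show e.inv.left ≫ e.hom.left = _
    rw [← MorphismProperty.Comma.comp_left, Iso.inv_hom_id]; rfl⟩
  have hel : el ≫ rest A C = rest A B := MorphismProperty.Over.w e.hom
  let jC : P ⟶ Spec (CommRingCat.of C) := el ≫ pullback.fst _ _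
  haveI : IsFinite (rest A B) := hB.1
  haveI : CompactSpace P := QuasiCompact.compactSpace_of_compactSpace (rest A B)
  haveI : QuasiSeparatedSpace P := quasiSeparatedSpace_of_quasiSeparated jB
  have hjB : jB ≫ sp A B = rest A B ≫ (FEt.puncturedSpec A).ι := pullback.condition
  have hjC : jC ≫ sp A C = rest A B ≫ (FEt.puncturedSpec A).ι := by
    rw [Category.assoc, pullback.condition, ← Category.assoc, hel]
  let sA := (Scheme.ΓSpecIso (CommRingCat.of A)).inv
  let jA : P ⟶ Spec (CommRingCat.of A) := rest A B ≫ (FEt.puncturedSpec A).ι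
  let W : Type u := Γ(P, ⊤)
  letI : Algebra A W := (sA ≫ jA.appTop).hom.toAlgebra
  have mk : ∀ (K : Type u) [CommRing K] [Algebra A K] (j : P ⟶ Spec (CommRingCat.of K)), j ≫ sp A K = jA →
      ∀ a : A, ((Scheme.ΓSpecIso (CommRingCat.of K)).inv ≫ j.appTop).hom (algebraMap A K a) = algebraMap A W a := by
    intro K _ _ j hj a
    have h1 : CommRingCat.ofHom (algebraMap A K) ≫ (Scheme.ΓSpecIso (CommRingCat.of K)).inv ≫ j.appTop =
        sA ≫ jA.appTop := by
      rw [← hj, Scheme.Hom.comp_appTop, ← Category.assoc, Scheme.ΓSpecIso_inv_naturality, Category.assoc]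
    exact ConcreteCategory.congr_hom h1 a
  let b : B →ₐ[A] W := { ((Scheme.ΓSpecIso (CommRingCat.of B)).inv ≫ jB.appTop).hom with commutes' := mk B jB hjB }
  let c : C →ₐ[A] W := { ((Scheme.ΓSpecIso (CommRingCat.of C)).inv ≫ jC.appTop).hom with commutes' := mk C jC hjC }
  have key : ∀ (K : Type u) [CommRing K] [Algebra A K] (j : P ⟶ Spec (CommRingCat.of K)) [IsOpenImmersion j]
      (_ : ∀ g ∈ maximalIdeal A, PrimeSpectrum.basicOpen (algebraMap A K g) ≤ j.opensRange)
      (k : K →ₐ[A] W) (_ : ∀ x, k x = j.appTop.hom ((Scheme.ΓSpecIso (CommRingCat.of K)).inv.hom x)),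
      ∀ g ∈ maximalIdeal A, IsoAway k g := by
    intro K _ _ j _ hr k hk g hg
    let a := (Scheme.ΓSpecIso (CommRingCat.of K)).inv.hom (algebraMap A K g)
    have hbo : (Spec (CommRingCat.of K)).basicOpen a ≤ j.opensRange := by
      rw [show (Spec (CommRingCat.of K)).basicOpen a = PrimeSpectrum.basicOpen (algebraMap A K g) from
        basicOpen_eq_of_affine (R := CommRingCat.of K) (algebraMap A K g)]
      exact hr g hg
    have hja : j.appTop.hom a = algebraMap A W g := (hk _).symm.trans (k.commutes g)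
    have hbij := ConcreteCategory.bijective_of_isIso (Scheme.ΓSpecIso (CommRingCat.of K)).inv
    obtain ⟨h1, h2⟩ := sections_away j a hbo
    refine ⟨fun w => ?_, fun x hx => ?_⟩
    · obtain ⟨n, y, hy⟩ := h1 w
      obtain ⟨y', hy'⟩ := hbij.2 y
      refine ⟨n, y', ?_⟩
      rw [hk]
      show g ^ n • w = j.appTop.hom ((Scheme.ΓSpecIso (CommRingCat.of K)).inv.hom y')
      rw [show (Scheme.ΓSpecIso (CommRingCat.of K)).inv.hom y' = y from hy', ← hy, hja, Algebra.smul_def, map_pow]
    · obtain ⟨n, hn⟩ := h2 ((Scheme.ΓSpecIso (CommRingCat.of K)).inv.hom x) ((hk x).symm.trans hx)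
      refine ⟨n, hbij.1 ?_⟩
      show (Scheme.ΓSpecIso (CommRingCat.of K)).inv.hom (g ^ n • x) = (Scheme.ΓSpecIso (CommRingCat.of K)).inv.hom 0
      rw [Algebra.smul_def, map_mul, map_pow, map_pow, hn, map_zero]
  have range_fst : ∀ (K : Type u) [CommRing K] [Algebra A K], ∀ g ∈ maximalIdeal A,
      (PrimeSpectrum.basicOpen (algebraMap A K g) : Set (PrimeSpectrum K)) ⊆
        Set.range (pullback.fst (sp A K) (FEt.puncturedSpec A).ι).base := by
    intro K _ _ g hg q hq
    rw [Scheme.Pullback.range_fst, Scheme.Opens.range_ι]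
    intro h
    have h' : PrimeSpectrum.comap (algebraMap A K) q = IsLocalRing.closedPoint A := h
    exact hq (show g ∈ (PrimeSpectrum.comap (algebraMap A K) q).asIdeal by rw [h']; exact hg)
  have hb := key B jB (fun g hg => range_fst B g hg) b (fun _ => rfl)
  have hc := key C jC (fun g hg => by
    intro q hq
    obtain ⟨z, hz⟩ := range_fst C g hg hq
    obtain ⟨z', rfl⟩ := el.surjective z
    exact ⟨z', hz⟩) c (fun _ => rfl)
  haveI : Module.Finite A b.range := Module.Finite.range b.toLinearMap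
  haveI : Module.Finite A c.range := Module.Finite.range c.toLinearMap
  haveI : Module.Finite A ↥(c.range ⊔ b.range) := Subalgebra.finite_sup _ _
  let R := c.range ⊔ b.range
  refine ⟨R, inferInstance, inferInstance, inferInstance, c.codRestrict R (fun x => le_sup_left (a := c.range) ⟨x, rfl⟩),
    b.codRestrict R (fun x => le_sup_right (a := c.range) ⟨x, rfl⟩), fun g hg => ⟨fun x => ?_, fun x hx => ?_⟩,
    fun g hg => ⟨fun x => ?_, fun x hx => ?_⟩⟩
  · obtain ⟨n, y, hy⟩ := (hc g hg).1 x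
    exact ⟨n, y, Subtype.ext hy⟩
  · exact (hc g hg).2 x (congrArg Subtype.val hx)
  · obtain ⟨n, y, hy⟩ := (hb g hg).1 x
    exact ⟨n, y, Subtype.ext hy⟩
  · exact (hb g hg).2 x (congrArg Subtype.val hx)

end Groth.Agent.Pi1Ext.Zigzag
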