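import Groth.Agent.Pi1Ext.HyperFF
import Groth.Agent.Pi1Ext.T01Flat
import Groth.Agent.Pi1Ext.Spread
import Groth.Agent.Hensel.PairBasic
import Groth.Agent.BrnchLib.Compl
import Groth.Agent.S0239
import Groth.Agent.S0262

/-! Covers of the punctured spectrum that extend on a hypersurface section extend. -/

set_option autoImplicit false
set_option linter.style.haveILetI false
universe u

open CategoryTheory CategoryTheory.Limits AlgebraicGeometry IsLocalRing

noncomputable section

namespace Groth.Agent.Pi1Ext.HyperExt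

open CechTors Spread

set_option backward.isDefEq.respectTransparency false
set_option backward.isDefEq.respectTransparency.types false

theorem exists_extension {A : Type u} [CommRing A] [IsNoetherianRing A] [IsLocalRing A] {G : Finset A}
    (hG : Ideal.span (G : Set A) = maximalIdeal A) (f : A) (hf : f ∈ maximalIdeal A) {n : ℕ}
    (h0 : T0 G A (f ^ n)) (h1 : T1 G A (f ^ n)) (V : FEt.Cat (FEt.puncturedSpec A : Scheme.{u}))
    (Y₀ : FEt.Cat (Spec (CommRingCat.of (A ⧸ Ideal.span {f}))))
    (e₀ : (FEt.restrict (pullback.snd (FEt.puncturedSpec A).ι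
        (Spec.map (CommRingCat.ofHom (Ideal.Quotient.mk (Ideal.span {f})))))).obj Y₀ ≅
      (FEt.restrict (pullback.fst (FEt.puncturedSpec A).ι
        (Spec.map (CommRingCat.ofHom (Ideal.Quotient.mk (Ideal.span {f})))))).obj V) :
    ∃ Y : FEt.Cat (Spec (CommRingCat.of A)), Nonempty ((FEt.restrict (FEt.puncturedSpec A).ι).obj Y ≅ V) := by
  refine (Groth.Agent.S0262.result A V).2 ?_
  haveI := Groth.Agent.LC.Canon.isNoetherianRing_completion (R := A)
  haveI : Module.Flat A (AdicCompletion (maximalIdeal A) A) := AdicCompletion.flat_of_isNoetherian _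
  let A' := AdicCompletion (maximalIdeal A) A
  let φ := algebraMap A A'
  let s : Spec (CommRingCat.of A') ⟶ Spec (CommRingCat.of A) := Spec.map (CommRingCat.ofHom φ)
  have hm : maximalIdeal A' = (maximalIdeal A).map φ := AdicCompletion.maximalIdeal_eq_map
  let ι := (FEt.puncturedSpec A).ι
  let ι' := (FEt.puncturedSpec A').ι
  let q₁ := pullback.fst ι s
  let q₂ := pullback.snd ι s
  have he : Set.range q₂.base = Set.range ι'.base := by
    rw [Scheme.Pullback.range_snd, Scheme.Opens.range_ι, Scheme.Opens.range_ι]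
    ext P
    exact not_congr (Groth.Agent.S0262.range_comap_punctured A A' hm P)
  let κ := IsOpenImmersion.isoOfRangeEq q₂ ι' he
  have hκ : κ.inv ≫ q₂ = ι' := IsOpenImmersion.isoOfRangeEq_inv_fac _ _ he
  let k := κ.inv ≫ q₁
  have hk : k ≫ ι = ι' ≫ s := by rw [Category.assoc, pullback.condition, ← Category.assoc, hκ]
  -- the completion
  let f' := φ f
  have hf' : f' ∈ maximalIdeal A' := hm ▸ Ideal.mem_map_of_mem φ hf
  haveI : HenselianLocalRing A' := Groth.Agent.BrnchLib.henselianLocalRing_completion A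
  haveI : HenselianRing A' (Ideal.span {f'}) := Groth.Agent.Hensel.henselianRing_of_le
    (J := maximalIdeal A') ((Ideal.span_singleton_le_iff_mem _).2 hf')
  classical
  let G' := G.image φ
  have hG' : Ideal.span (G' : Set A') = maximalIdeal A' := by
    refine Eq.trans ?_ (hm.trans (congrArg (Ideal.map φ) hG.symm)).symm
    rw [Ideal.map_span, Finset.coe_image]
  have hG1 : ∀ g' ∈ G', ∃ g ∈ G, φ g = g' := fun g' h => Finset.mem_image.1 h
  have hG2 : ∀ g ∈ G, φ g ∈ G' := fun g h => Finset.mem_image_of_mem φ h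
  have h0' : T0 G' A' (f' ^ n) := map_pow φ f n ▸ h0.of_flat A' hG1 hG2
  have h1' : T1 G' A' (f' ^ n) := map_pow φ f n ▸ h1.of_flat A' hG1 hG2
  -- the hypersurface sections
  let mk := Spec.map (CommRingCat.ofHom (Ideal.Quotient.mk (Ideal.span {f})))
  let mk' := Spec.map (CommRingCat.ofHom (Ideal.Quotient.mk (Ideal.span {f'})))
  let q : A ⧸ Ideal.span {f} →+* A' ⧸ Ideal.span {f'} := Ideal.quotientMap _ φ
    ((Ideal.span_singleton_le_iff_mem _).2 (Ideal.mem_span_singleton_self f'))
  let t := Spec.map (CommRingCat.ofHom q)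
  have ht : t ≫ mk = mk' ≫ s := by
    rw [← Spec.map_comp, ← Spec.map_comp]
    congr 1
  let i := pullback.fst ι mk
  let j := pullback.snd ι mk
  let i' := pullback.fst ι' mk'
  let j' := pullback.snd ι' mk'
  let τ : pullback ι' mk' ⟶ pullback ι mk := pullback.lift (i' ≫ k) (j' ≫ t) (by
    rw [Category.assoc i' k, hk, Category.assoc j' t, ht, ← Category.assoc i' ι', ← Category.assoc j' mk', pullback.condition])
  haveI := Groth.Agent.S0239.result A' (Ideal.span {f'})
  let Y := (FEt.restrict mk').objPreimage ((FEt.restrict t).obj Y₀)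
  let eY : (FEt.restrict mk').obj Y ≅ (FEt.restrict t).obj Y₀ := (FEt.restrict mk').objObjPreimageIso _
  obtain ⟨hfull, hfaith⟩ := HyperFF.full_faithful hG' f' hf' h0' h1'
  haveI : (FEt.restrict i').Full := hfull
  haveI : (FEt.restrict i').Faithful := hfaith
  let e₁ : (FEt.restrict i').obj ((FEt.restrict ι').obj Y) ≅ (FEt.restrict i').obj ((FEt.restrict k).obj V) :=
    restrictSquare i' ι' j' mk' pullback.condition Y ≪≫ (FEt.restrict j').mapIso eY ≪≫
      restrictSquare j' t τ j (pullback.lift_snd _ _ _).symm Y₀ ≪≫ (FEt.restrict τ).mapIso e₀ ≪≫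
      restrictSquare τ i i' k (pullback.lift_fst _ _ _) V
  let e₂ := (FEt.restrict i').preimageIso e₁
  refine ⟨Y, ⟨restrictComp κ.hom ι' q₂ (by rw [← hκ, Iso.hom_inv_id_assoc]) Y ≪≫
    (FEt.restrict κ.hom).mapIso e₂ ≪≫ (restrictComp κ.hom k q₁ (Iso.hom_inv_id_assoc κ _).symm V).symm⟩⟩

end Groth.Agent.Pi1Ext.HyperExt
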