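import Groth.Agent.Pi1Ext.HyperClopen
import Groth.Agent.Pi1Ext.FiniteModel
import Groth.Agent.Pi1X.FEtFull
import Mathlib.RingTheory.Smooth.Flat
import Mathlib.RingTheory.Flat.Localization
import Mathlib.RingTheory.Localization.Finiteness

/-! Restriction from the punctured spectrum to a hypersurface section is fully faithful. -/

set_option autoImplicit false
set_option linter.style.haveILetI false
universe u

open CategoryTheory CategoryTheory.Limits AlgebraicGeometry IsLocalRing

noncomputable section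

namespace Groth.Agent.Pi1Ext.HyperFF

open RegPurity PuritySch CechTors HyperClopen

set_option backward.isDefEq.respectTransparency false
set_option backward.isDefEq.respectTransparency.types false

variable {A : Type u} [CommRing A]

/-- A finite algebra that is étale away from `g` is a direct factor of a free module up to powers of `g`. -/
theorem exists_factor [IsNoetherianRing A] {C : Type u} [CommRing C] [Algebra A C] [Module.Finite A C] {g : A}
    (hg : EtAway A C g) :
    ∃ (r M : ℕ) (u : C →ₗ[A] Fin r → A) (v : (Fin r → A) →ₗ[A] C), ∀ x, v (u x) = g ^ M • x := by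
  let S := Submonoid.powers g
  haveI : Algebra.Etale A (Localization.Away (algebraMap A C g)) := hg
  haveI : IsLocalization (Algebra.algebraMapSubmonoid C S) (Localization.Away (algebraMap A C g)) := by
    rw [show Algebra.algebraMapSubmonoid C S = Submonoid.powers (algebraMap A C g) from Submonoid.map_powers _ _]
    infer_instance
  let j := (IsScalarTower.toAlgHom A C (Localization.Away (algebraMap A C g))).toLinearMap
  haveI : IsLocalizedModule S j := isLocalizedModule_iff_isLocalization.2 ‹_›
  haveI : Module.Flat A (LocalizedModule S C) := Module.Flat.of_linearEquiv (IsLocalizedModule.iso S j)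
  haveI : Module.Flat (Localization S) (LocalizedModule S C) :=
    (Module.flat_iff_of_isLocalization (Localization S) S (LocalizedModule S C)).2 ‹_›
  haveI : Module.Finite (Localization S) (LocalizedModule S C) :=
    Module.Finite.of_isLocalizedModule S (Rₚ := Localization S) (LocalizedModule.mkLinearMap S C)
  haveI : IsNoetherianRing (Localization S) := IsLocalization.isNoetherianRing S _ inferInstance
  haveI : Module.FinitePresentation (Localization S) (LocalizedModule S C) := Module.finitePresentation_of_finite _ _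
  haveI : Module.Projective (Localization S) (LocalizedModule S C) := Module.Flat.projective_of_finitePresentation
  obtain ⟨r, π, hπ⟩ := Module.Finite.exists_fin' A C
  obtain ⟨s, hs⟩ := Module.projective_lifting_property (LocalizedModule.map S π) LinearMap.id
    (LocalizedModule.map_surjective S π hπ)
  haveI : Module.FinitePresentation A C := Module.finitePresentation_of_finite A C
  obtain ⟨u, ⟨_, M, rfl⟩, hu⟩ := Module.FinitePresentation.exists_lift_of_isLocalizedModule S
    (LocalizedModule.mkLinearMap S (Fin r → A)) ((s.restrictScalars A).comp (LocalizedModule.mkLinearMap S C))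
  have h2 : (LocalizedModule.mkLinearMap S C).comp (π.comp u) =
      (LocalizedModule.mkLinearMap S C).comp (g ^ M • LinearMap.id) := LinearMap.ext fun x => by
    have h3 : LocalizedModule.mkLinearMap S (Fin r → A) (u x) = g ^ M • s (LocalizedModule.mkLinearMap S C x) :=
      LinearMap.congr_fun hu x
    have h4 := congrArg ((LocalizedModule.map S π).restrictScalars A) h3
    rw [map_smul, LinearMap.restrictScalars_apply, LinearMap.restrictScalars_apply,
      show LocalizedModule.map S π (s (LocalizedModule.mkLinearMap S C x)) = LocalizedModule.mkLinearMap S C x from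
        LinearMap.congr_fun hs _] at h4
    rw [LinearMap.comp_apply, LinearMap.comp_apply, LinearMap.comp_apply, LinearMap.smul_apply, LinearMap.id_apply,
      map_smul, ← h4, LocalizedModule.mkLinearMap_apply, LocalizedModule.mkLinearMap_apply, LocalizedModule.map_mk]
  obtain ⟨⟨_, M', rfl⟩, h'⟩ := Module.Finite.exists_smul_of_comp_eq_of_isLocalizedModule S
    (LocalizedModule.mkLinearMap S C) _ _ h2
  refine ⟨r, M' + M, g ^ M' • u, π, fun x => ?_⟩
  rw [LinearMap.smul_apply, map_smul, pow_add, mul_smul]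
  exact LinearMap.congr_fun h' x

variable [IsLocalRing A]

theorem etOff_of_prop_rest (C : Type u) [CommRing C] [Algebra A C] (h : FEt.prop (rest A C)) : EtOff A C :=
  fun g hg => by
    haveI := ((prop_tensor_iff C hg).1 (MorphismProperty.pullback_snd _ _ h)).2
    exact etAway_of_etale g

variable [IsNoetherianRing A]

/-- The annihilators pass to finite algebras étale off the closed point. -/
theorem exists_t01 {G : Finset A} (hG : Ideal.span (G : Set A) = maximalIdeal A) (C : Type u) [CommRing C]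
    [Algebra A C] [Module.Finite A C] (hC : EtOff A C) {f : A} (hf : f ∈ maximalIdeal A) {n : ℕ}
    (h0 : T0 G A (f ^ n)) (h1 : T1 G A (f ^ n)) : ∃ N : ℕ, T0 G C (f ^ N) ∧ T1 G C (f ^ N) := by
  choose r M u v huv using fun g : G => exists_factor (hC g.1 (hG ▸ Ideal.subset_span g.2))
  obtain ⟨M', hM'⟩ : f ∈ (Ideal.span (Set.range fun g : G => g.1 ^ M g)).radical := by
    refine (?_ : maximalIdeal A ≤ _) hf
    rw [← hG]
    exact Ideal.span_le.2 fun g hg => ⟨M ⟨g, hg⟩, Ideal.subset_span ⟨⟨g, hg⟩, rfl⟩⟩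
  refine ⟨n + M', ?_⟩
  rw [pow_add]
  generalize f ^ M' = c at hM'
  induction hM' using Submodule.span_induction with
  | mem c hc =>
    obtain ⟨g, rfl⟩ := hc
    exact ⟨h0.of_factor (u g) (v g) (huv g), h1.of_factor (u g) (v g) (huv g)⟩
  | zero => rw [mul_zero]; exact ⟨T0.zero, T1.zero⟩
  | add _ _ _ _ h h' => rw [mul_add]; exact ⟨h.1.add h'.1, h.2.add h'.2⟩
  | smul a _ _ h => rw [smul_eq_mul, mul_left_comm]; exact ⟨h.1.smul a, h.2.smul a⟩

theorem exists_gen_notMem {G : Finset A} (hG : Ideal.span (G : Set A) = maximalIdeal A)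
    (q : PrimeSpectrum A) (hq : q ∈ FEt.puncturedSpec A) : ∃ g : G, g.1 ∉ q.asIdeal := by
  by_contra! hall
  refine hq (PrimeSpectrum.ext ?_)
  refine le_antisymm (IsLocalRing.le_maximalIdeal q.2.ne_top) ?_
  show maximalIdeal A ≤ _
  rw [← hG]
  exact Ideal.span_le.2 fun g hg => hall ⟨g, hg⟩

theorem mem_punctured {g : A} (hg : g ∈ maximalIdeal A) (q : PrimeSpectrum A) (hq : g ∉ q.asIdeal) :
    q ∈ FEt.puncturedSpec A := by
  intro h
  have h' : q = IsLocalRing.closedPoint A := h
  rw [h'] at hq
  exact hq hg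

theorem range_hyper (f : A) :
    Set.range (pullback.fst (FEt.puncturedSpec A).ι
      (Spec.map (CommRingCat.ofHom (Ideal.Quotient.mk (Ideal.span {f}))))).base =
      {x | f ∈ ((FEt.puncturedSpec A).ι.base x : PrimeSpectrum A).asIdeal} := by
  rw [Scheme.Pullback.range_fst]
  ext x
  show (FEt.puncturedSpec A).ι.base x ∈ Set.range (PrimeSpectrum.comap (Ideal.Quotient.mk (Ideal.span {f}))) ↔ _
  rw [range_comap_of_surjective _ _ Ideal.Quotient.mk_surjective, Ideal.mk_ker, PrimeSpectrum.zeroLocus_span]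
  exact Set.singleton_subset_iff

/-- Restriction to the hypersurface section is fully faithful. -/
theorem full_faithful {G : Finset A} (hG : Ideal.span (G : Set A) = maximalIdeal A) (f : A)
    (hf : f ∈ maximalIdeal A) [HenselianRing A (Ideal.span {f})] {n : ℕ} (h0 : T0 G A (f ^ n))
    (h1 : T1 G A (f ^ n)) :
    (FEt.restrict (pullback.fst (FEt.puncturedSpec A).ι
      (Spec.map (CommRingCat.ofHom (Ideal.Quotient.mk (Ideal.span {f})))))).Full ∧
    (FEt.restrict (pullback.fst (FEt.puncturedSpec A).ι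
      (Spec.map (CommRingCat.ofHom (Ideal.Quotient.mk (Ideal.span {f})))))).Faithful := by
  let ι := (FEt.puncturedSpec A).ι
  let i := pullback.fst ι (Spec.map (CommRingCat.ofHom (Ideal.Quotient.mk (Ideal.span {f}))))
  have hgm : ∀ g : G, g.1 ∈ maximalIdeal A := fun g => hG ▸ Ideal.subset_span g.2
  have hinj : Function.Injective ι.base := ι.isOpenEmbedding.injective
  have hC : ∀ C : Set (FEt.puncturedSpec A : Scheme.{u}), IsClopen C → C.Nonempty →
      (C ∩ Set.range i.base).Nonempty := by
    rintro C hC ⟨y, hy⟩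
    by_contra hne
    obtain ⟨g, hg⟩ := exists_gen_notMem hG (ι.base y) (by
      show ι.base y ∈ ((FEt.puncturedSpec A : (Spec (CommRingCat.of A)).Opens) : Set _)
      rw [← Scheme.Opens.range_ι]
      exact ⟨y, rfl⟩)
    have hex : ∀ (g : G) (q : PrimeSpectrum A), g.1 ∉ q.asIdeal → ∃ z, ι.base z = q := fun g q hq => by
      have : q ∈ Set.range ι.base := by
        rw [Scheme.Opens.range_ι]
        exact mem_punctured (hgm g) q hq
      exact this
    refine empty_of_disjoint hf h0 (ι.base '' C) (ι.base '' Cᶜ) (ι.isOpenEmbedding.isOpenMap _ hC.2)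
      (ι.isOpenEmbedding.isOpenMap _ hC.compl.2) (fun g q hq => ?_) (fun g q hq => ?_) (fun g q hq hfq => ?_)
      g _ hg ⟨y, hy, rfl⟩
    · obtain ⟨z, rfl⟩ := hex g q hq
      by_cases hz : z ∈ C
      · exact Or.inl ⟨z, hz, rfl⟩
      · exact Or.inr ⟨z, hz, rfl⟩
    · rintro ⟨z, hz, rfl⟩ ⟨z', hz', he⟩
      exact hz' (hinj he ▸ hz)
    · rintro ⟨z, hz, rfl⟩
      refine hne ⟨z, hz, ?_⟩
      rw [range_hyper]
      exact hfq
  refine ⟨Pi1X.restrict_full i hC ?_, Pi1X.restrict_faithful i hC⟩
  intro W C' hC'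
  let w : W.left ⟶ (FEt.puncturedSpec A : Scheme.{u}) := W.hom
  haveI : IsFinite w := W.prop.1
  obtain ⟨C, _, _, _, q, hq⟩ := FiniteModel.exists_finite_model w
  haveI : IsNoetherianRing C := IsNoetherianRing.of_finite A C
  have hrest : FEt.prop (rest A C) := by
    rw [← MorphismProperty.cancel_left_of_respectsIso (P := FEt.prop) q.hom, hq]
    exact W.prop
  obtain ⟨N, hN0, hN1⟩ := exists_t01 hG C (etOff_of_prop_rest C hrest) hf h0 h1
  let j : W.left ⟶ Spec (CommRingCat.of C) := q.hom ≫ pullback.fst (sp A C) ι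
  have hjs : j ≫ sp A C = w ≫ ι := by
    rw [← hq, Category.assoc, Category.assoc, pullback.condition]
  have hjcomap : ∀ x, PrimeSpectrum.comap (algebraMap A C) (j.base x) = ι.base (w.base x) := fun x => by
    have := congrArg (fun t => t.base x) hjs
    simp only [Scheme.Hom.comp_apply] at this
    exact this
  have hjr : ∀ p : PrimeSpectrum C, (∃ g : G, algebraMap A C g.1 ∉ p.asIdeal) → ∃ x, j.base x = p := by
    rintro p ⟨g, hg⟩
    have hp : p ∈ Set.range (pullback.fst (sp A C) ι).base := by
      rw [Scheme.Pullback.range_fst, Scheme.Opens.range_ι]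
      exact mem_punctured (hgm g) (PrimeSpectrum.comap (algebraMap A C) p) hg
    obtain ⟨z, hz⟩ := hp
    obtain ⟨x, rfl⟩ := q.hom.surjective z
    exact ⟨x, hz⟩
  have hjg : ∀ x, ∃ g : G, algebraMap A C g.1 ∉ (j.base x).asIdeal := fun x => by
    obtain ⟨g, hg⟩ := exists_gen_notMem hG (ι.base (w.base x)) (by
      show ι.base (w.base x) ∈ ((FEt.puncturedSpec A : (Spec (CommRingCat.of A)).Opens) : Set _)
      rw [← Scheme.Opens.range_ι]
      exact ⟨_, rfl⟩)
    rw [← hjcomap] at hg
    exact ⟨g, hg⟩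
  haveI : IsOpenImmersion j := inferInstance
  have hjo := j.isOpenEmbedding
  let k := pullback.fst w i
  haveI : IsClosedImmersion i := MorphismProperty.pullback_fst _ _
    (IsClosedImmersion.spec_of_surjective _ Ideal.Quotient.mk_surjective)
  haveI : IsClosedImmersion k := MorphismProperty.pullback_fst _ _ inferInstance
  have hk : Topology.IsClosedEmbedding k.base := k.isClosedEmbedding
  have hkr : ∀ x, x ∈ Set.range k.base ↔ algebraMap A C f ∈ (j.base x).asIdeal := fun x => by
    rw [Scheme.Pullback.range_fst, range_hyper]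
    show f ∈ (ι.base (w.base x) : PrimeSpectrum A).asIdeal ↔ _
    rw [← hjcomap]
    exact Iff.rfl
  obtain ⟨O₀, hO₀, hO₀C⟩ := hk.toIsInducing.isOpen_iff.1 hC'.2
  obtain ⟨O₁, hO₁, hO₁C⟩ := hk.toIsInducing.isOpen_iff.1 hC'.compl.2
  obtain ⟨ε, hεc, hεi, hεO⟩ := exists_idempotent_family hN0 hN1 (j.base '' O₀) (j.base '' O₁)
    (hjo.isOpenMap _ hO₀) (hjo.isOpenMap _ hO₁) (fun g p hfp hgp => by
      obtain ⟨x, rfl⟩ := hjr p ⟨g, hgp⟩
      obtain ⟨z, rfl⟩ := (hkr x).2 hfp
      by_cases hz : z ∈ C'
      · exact Or.inl ⟨_, (show z ∈ k.base ⁻¹' O₀ from hO₀C.symm ▸ hz), rfl⟩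
      · exact Or.inr ⟨_, (show z ∈ k.base ⁻¹' O₁ from hO₁C.symm ▸ hz), rfl⟩)
    (fun g p hfp hgp => by
      obtain ⟨x, rfl⟩ := hjr p ⟨g, hgp⟩
      obtain ⟨z, rfl⟩ := (hkr x).2 hfp
      rw [hjo.injective.mem_set_image, hjo.injective.mem_set_image]
      intro ha hb
      have ha' : z ∈ C' := hO₀C ▸ ha
      have hb' : z ∈ C'ᶜ := hO₁C ▸ hb
      exact hb' ha')
  refine ⟨j.base ⁻¹' supp ε, ⟨?_, (isOpen_supp ε).preimage j.continuous⟩, ?_⟩
  · have hc : (j.base ⁻¹' supp ε)ᶜ = j.base ⁻¹' supp (1 - ε) := by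
      ext x
      obtain ⟨g, hg⟩ := hjg x
      obtain ⟨P, hP⟩ := (HyperClopen.comap_mem_iff (j.base x)).1 hg
      show j.base x ∉ supp ε ↔ j.base x ∈ supp (1 - ε)
      rw [← hP, mem_supp_iff hεc g P, mem_supp_iff (sub_mem (one_mem _) hεc) g P, not_not,
        Pi.sub_apply, Pi.one_apply]
      have hmul : ε g * (1 - ε g) ∈ P.asIdeal := by
        rw [mul_sub, mul_one, show ε g * ε g = ε g from congrFun hεi g, sub_self]
        exact zero_mem _
      refine ⟨fun h h' => P.2.ne_top ((Ideal.eq_top_iff_one _).2 ?_), fun h => (P.2.mem_or_mem hmul).resolve_right h⟩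
      have := P.asIdeal.add_mem h' h
      rwa [sub_add_cancel] at this
    rw [← isOpen_compl_iff, hc]
    exact (isOpen_supp _).preimage j.continuous
  · ext z
    have hz := hεO (j.base (k.base z)) ((hkr _).1 ⟨z, rfl⟩) (hjg _)
    show j.base (k.base z) ∈ supp ε ↔ _
    rw [hz, hjo.injective.mem_set_image, ← Set.mem_preimage, hO₀C]

end Groth.Agent.Pi1Ext.HyperFF

namespace Groth.Agent.Pi1Ext.HyperFF

open CechTors

variable (A : Type u) [CommRing A] [IsLocalRing A] [IsNoetherianRing A]

/-- The local cohomology hypotheses in Čech form. -/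
theorem exists_t01_base (f : A)
    (h1 : ∃ n : ℕ, ∀ x : (localCohomology (maximalIdeal A) 1).obj (ModuleCat.of A A), (f ^ n) • x = 0)
    (h2 : ∃ n : ℕ, ∀ x : (localCohomology (maximalIdeal A) 2).obj (ModuleCat.of A A), (f ^ n) • x = 0) :
    ∃ (G : Finset A) (n : ℕ), Ideal.span (G : Set A) = maximalIdeal A ∧ T0 G A (f ^ n) ∧ T1 G A (f ^ n) := by
  obtain ⟨G, hG⟩ := IsNoetherian.noetherian (maximalIdeal A)
  obtain ⟨n₁, hn₁⟩ := h1
  obtain ⟨n₂, hn₂⟩ := h2
  refine ⟨G, n₁ + n₂, hG, ?_, ?_⟩
  · rw [pow_add, mul_comm]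
    exact (t0_of_smul_H G (maximalIdeal A) hG hn₁).smul _
  · rw [pow_add]
    exact (t1_of_smul_H G (maximalIdeal A) hG hn₂).smul _

end Groth.Agent.Pi1Ext.HyperFF
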