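import Groth.Agent.Pi1Ext.LefStep

/-!
The Lefschetz step for purity: the trace dual is free.
-/

set_option autoImplicit false
universe u

open TensorProduct IsLocalRing

namespace Groth.Agent.Pi1Ext.RegPurity

noncomputable section

variable {A : Type u} [CommRing A] [IsDomain A] {C : Type u} [CommRing C] [Algebra A C] [Module.Finite A C]
  {K : Type u} [Field K] [Algebra A K] [IsFractionRing A K]

theorem smul_cancel {a : A} (ha : a ≠ 0) {y : K ⊗[A] C} (h : a • y = 0) : y = 0 := by
  rw [← algebraMap_smul K a y] at h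
  exact (smul_eq_zero.1 h).resolve_left ((map_ne_zero_iff _ (IsFractionRing.injective A K)).2 ha)

theorem inXLoc_trPair {x g : A} (hg : EtAway A C g) {n : ℕ} {y : K ⊗[A] C}
    (hy : y ∈ xS x (away C K g) n) (c : C) : InXLoc x g n (trPair C K y c) := by
  obtain ⟨w, hw, rfl⟩ := hy
  exact ⟨trPair C K w c, trace_away hg (mul_mem hw (image_mem_away K g c)), by
    rw [LinearMap.lsmul_apply, map_smul, LinearMap.smul_apply]⟩

theorem smul_mem_away {g : A} {z : K} (hz : InLoc g z) {β : K ⊗[A] C} (hβ : β ∈ away C K g) :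
    z • β ∈ away C K g := by
  obtain ⟨m, a, ha⟩ := hz
  refine away_saturated (n := m) ?_
  rw [← smul_assoc, ← ha, Algebra.linearMap_apply, algebraMap_smul]
  exact (away C K g).smul_mem hβ a

/-- An element congruent to everything is determined. -/
theorem eq_zero_of_forall_xS [IsLocalRing A] [IsNoetherianRing A] {x g : A} (hxm : x ∈ maximalIdeal A)
    (eg : EtAway A C g) (hg0 : g ≠ 0) (hnzd : ∀ (n : ℕ) (z : A), x ^ n ∣ g * z → x ^ n ∣ z)
    {y : K ⊗[A] C} (hy : y ∈ lat C K) (h : ∀ n, y ∈ xS x (away C K g) n) : y = 0 := by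
  refine eq_zero_of_trPair eg hg0 fun c => ?_
  obtain ⟨a, ha⟩ := hy c
  rw [Algebra.linearMap_apply] at ha
  have h0 : a = 0 := eq_zero_of_forall_dvd hxm fun n => InXLoc.dvd_of_algebraMap hg0 hnzd (K := K)
    (by rw [ha]; exact inXLoc_trPair eg (h n) c)
  rw [← ha, h0, map_zero]

variable [IsLocalRing A] [IsNoetherianRing A] [IsAdicComplete (maximalIdeal A) A] {x h k : A}
  {Bt : Type u} [CommRing Bt] [Algebra A Bt] [Module.Finite A Bt] [Algebra.Etale A Bt]

/-- The lifted homomorphism from a finite étale algebra into the trace dual. -/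
theorem exists_algHom (hxm : x ∈ maximalIdeal A) (t : Triple x h k) (ex : EtAway A C x)
    (eh : EtAway A C h) (ek : EtAway A C k) {fh fk : ℕ → Bt → K ⊗[A] C}
    (hfh : IsSys x (away C K h) fh) (hfk : IsSys x (away C K k) fk)
    (h0 : ∀ b, fh 0 b - fk 0 b ∈ xS x (away C K (h * k)) 1) :
    ∃ φ : Bt →ₐ[A] K ⊗[A] C, (∀ b, φ b ∈ lat C K) ∧ ∀ b, φ b - fh 0 b ∈ xS x (away C K h) 1 := by
  have hh0 : h ≠ 0 := t.pair.1
  have hhk := etAway_mul eh k
  have hcomp := fun n b => (hfh.mono away_mono).unique (hfk.mono away_mono') h0 n b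
  obtain ⟨r, c, β, M, -, hβ, hid⟩ := exists_dual_family (K := K) ex t.x_ne
  have hu : ∀ n b i, ∃ a : A, InXLoc x h (n + 1) (trPair C K (fh n b) (c i) - algebraMap A K a) ∧
      InXLoc x k (n + 1) (trPair C K (fk n b) (c i) - algebraMap A K a) := fun n b i => by
    refine exists_scalar t (trace_away eh (mul_mem (hfh.mem n b) (image_mem_away K h (c i))))
      (trace_away ek (mul_mem (hfk.mem n b) (image_mem_away K k (c i)))) ?_
    have := inXLoc_trPair hhk (hcomp n b) (c i)
    simpa [_root_.map_sub, trPair_apply] using this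
  choose a ha ha' using hu
  have hcauchy : ∀ n b i, x ^ (n + 1) ∣ a (n + 1) b i - a n b i := fun n b i => by
    refine InXLoc.dvd_of_algebraMap hh0 t.h_nzd (K := K) ?_
    have := ((ha n b i).sub ((ha (n + 1) b i).mono (by omega))).add
      (inXLoc_trPair eh (hfh.cauchy (Nat.le_succ n) b) (c i))
    convert this using 1
    simp only [_root_.map_sub, LinearMap.sub_apply]
    ring
  choose L hL using fun b i => exists_limit hxm (fun n => a n b i) fun n => hcauchy n b i
  have hxK : algebraMap A K (x ^ M) ≠ 0 :=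
    (map_ne_zero_iff _ (IsFractionRing.injective A K)).2 (pow_ne_zero M t.x_ne)
  let φ : Bt → K ⊗[A] C := fun b =>
    (algebraMap A K (x ^ M))⁻¹ • ∑ i, algebraMap A K (L b i) • β i
  have key : ∀ (g : A) (fg : ℕ → Bt → K ⊗[A] C), EtAway A C g → IsSys x (away C K g) fg →
      (∀ n b i, InXLoc x g (n + 1) (trPair C K (fg n b) (c i) - algebraMap A K (a n b i))) →
      ∀ n b, φ b - fg n b ∈ xS x (away C K g) (n + 1) := fun g fg eg hfg hag n b => by
    have hterm : ∀ i, ∃ w ∈ away C K g,
        x ^ (M + (n + 1)) • w = (algebraMap A K (L b i) - trPair C K (fg (n + M) b) (c i)) • β i := fun i => by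
      have h1 : InXLoc x g (M + (n + 1)) (algebraMap A K (L b i - a (n + M) b i)) :=
        inXLoc_of_dvd ((pow_dvd_pow x (by omega)).trans (hL b i (n + M)))
      obtain ⟨w, hw, hw'⟩ := h1.sub ((hag (n + M) b i).mono (by omega))
      refine ⟨w • β i, smul_mem_away hw (mem_away_of_mem_lat eg (hβ i)), ?_⟩
      rw [← smul_assoc, hw', _root_.map_sub]
      congr 1
      ring
    choose w hw hw' using hterm
    have hN : φ b - fg (n + M) b ∈ xS x (away C K g) (n + 1) := by
      refine ⟨∑ i, w i, sum_mem fun i _ => hw i, sub_eq_zero.1 (smul_cancel (pow_ne_zero M t.x_ne) ?_)⟩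
      rw [smul_sub (x ^ M) (LinearMap.lsmul A _ _ _), sub_eq_zero, LinearMap.lsmul_apply, smul_smul, ← pow_add,
        Finset.smul_sum, Finset.sum_congr rfl fun i _ => hw' i, smul_sub, hid (fg (n + M) b),
        ← algebraMap_smul K (x ^ M) (φ b)]
      simp only [φ, smul_inv_smul₀ hxK, sub_smul, Finset.sum_sub_distrib]
    simpa using add_mem hN (hfg.cauchy (Nat.le_add_right n M) b)
  have kh := key h fh eh hfh ha
  have kk := key k fk ek hfk ha'
  have hlat : ∀ b, φ b ∈ lat (A := A) C K := fun b => by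
    refine mem_lat_of_away t.pair eh ek ?_ ?_
    · simpa using add_mem (xS_le _ (kh 0 b)) (hfh.mem 0 b)
    · simpa using add_mem (xS_le _ (kk 0 b)) (hfk.mem 0 b)
  have hawh : ∀ b, φ b ∈ away C K h := fun b => mem_away_of_mem_lat eh (hlat b)
  have hsep : ∀ y : K ⊗[A] C, y ∈ lat C K → (∀ n, y ∈ xS x (away C K h) (n + 1)) → y = 0 := fun y hy hn =>
    eq_zero_of_forall_xS hxm eh hh0 t.h_nzd hy fun n => xS_mono (Nat.le_succ n) (hn n)
  have hone_lat : (1 : K ⊗[A] C) ∈ lat C K :=
    mem_lat_of_away t.pair eh ek (one_mem _) (one_mem _)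
  have hmul_lat : ∀ y y' : K ⊗[A] C, y ∈ lat C K → y' ∈ lat C K → y * y' ∈ lat C K := fun y y' hy hy' =>
    mem_lat_of_away t.pair eh ek (mul_mem (mem_away_of_mem_lat eh hy) (mem_away_of_mem_lat eh hy'))
      (mul_mem (mem_away_of_mem_lat ek hy) (mem_away_of_mem_lat ek hy'))
  refine ⟨AlgHom.mk'
    { toFun := φ
      map_one' := sub_eq_zero.1 (hsep _ (sub_mem (hlat 1) hone_lat) fun n => ?_)
      map_mul' := fun b b' => sub_eq_zero.1 (hsep _ (sub_mem (hlat _) (hmul_lat _ _ (hlat b) (hlat b')))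
        fun n => ?_)
      map_zero' := hsep _ (hlat 0) fun n => ?_
      map_add' := fun b b' => sub_eq_zero.1 (hsep _ (sub_mem (hlat _) (add_mem (hlat b) (hlat b')))
        fun n => ?_) } (fun r b => sub_eq_zero.1 (hsep _ (sub_mem (hlat _) (Submodule.smul_mem _ r (hlat b)))
          fun n => ?_)), hlat, kh 0⟩
  · rw [← sub_add_sub_cancel (φ 1) (fh n 1) 1]
    exact add_mem (kh n 1) (hfh.one n)
  · have h1 := mul_mem_xS (kh n b) (hawh b')
    have h2 := mul_mem_xS (kh n b') (hfh.mem n b)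
    have h3 := hfh.map_mul n b b'
    have := sub_mem (add_mem (kh n (b * b')) h3) (add_mem h1 h2)
    convert this using 1
    ring
  · have := sub_mem (add_mem (kh n 0) (kh n 0)) (kh n 0)
    have h3 := hfh.map_add n 0 0
    rw [add_zero] at h3
    convert sub_mem this h3 using 1
    abel
  · have := sub_mem (add_mem (kh n (b + b')) (hfh.map_add n b b')) (add_mem (kh n b) (kh n b'))
    convert this using 1
    abel
  · have := sub_mem (add_mem (kh n (r • b)) (hfh.map_smul n r b)) (Submodule.smul_mem _ r (kh n b))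
    convert this using 1
    rw [smul_sub]
    abel

/-- The Lefschetz step. -/
theorem free_dual_step (hxm : x ∈ maximalIdeal A) (hhm : h ∈ maximalIdeal A) (t : Triple x h k)
    (ex : EtAway A C x) (eh : EtAway A C h) (ek : EtAway A C k)
    (βh : Bt →ₐ[A] ↥(away C K h) ⧸ xI x (away C K h) 1)
    (βk : Bt →ₐ[A] ↥(away C K k) ⧸ xI x (away C K k) 1)
    (hcompat : ∀ b (yh : ↥(away C K h)) (yk : ↥(away C K k)), Ideal.Quotient.mk _ yh = βh b →
      Ideal.Quotient.mk _ yk = βk b → (yh : K ⊗[A] C) - yk ∈ xS x (away C K (h * k)) 1)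
    (hsurj : ∀ c : C, ∃ (n : ℕ) (b : Bt),
      βh b = Ideal.Quotient.mk _ (h ^ n • (⟨(1 : K) ⊗ₜ[A] c, image_mem_away K h c⟩ : ↥(away C K h))))
    (hinj : ∀ b : Bt, βh b = 0 → ∃ (n : ℕ) (b' : Bt), h ^ n • b = x • b') :
    Module.Free A (Module.Dual A C) := by
  classical
  have hh0 : h ≠ 0 := t.pair.1
  obtain ⟨fh, hfh, hfh0⟩ := exists_sys βh
  obtain ⟨fk, hfk, hfk0⟩ := exists_sys βk
  obtain ⟨φ, hlat, hφ0⟩ := exists_algHom hxm t ex eh ek hfh hfk fun b =>
    hcompat b _ _ (hfh0 b) (hfk0 b)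
  have hawh : ∀ b, φ b ∈ away C K h := fun b => mem_away_of_mem_lat eh (hlat b)
  have hφβ : ∀ b, Ideal.Quotient.mk (xI x (away C K h) 1) ⟨φ b, hawh b⟩ = βh b := fun b =>
    ((mk_eq_mk_iff _ _).2 (hφ0 b)).trans (hfh0 b)
  haveI : Module.Free A Bt := Module.free_of_flat_of_isLocalRing
  haveI hEK : Algebra.Etale K (K ⊗[A] C) := etale_fraction K eh hh0
  let Φ : K ⊗[A] Bt →ₐ[K] K ⊗[A] C :=
    Algebra.TensorProduct.lift (Algebra.ofId K _) φ fun _ _ => Commute.all _ _
  have hΦ : ∀ r b, Φ (r ⊗ₜ[A] b) = r • φ b := fun r b => by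
    simp [Φ, Algebra.smul_def]
  obtain ⟨m, g, hg⟩ := Module.Finite.exists_fin (R := A) (M := C)
  -- surjectivity
  have hsurjΦ : Function.Surjective Φ := by
    choose N b hb using fun i => hsurj (g i)
    let v : Fin m → K ⊗[A] C := fun i => (1 : K) ⊗ₜ[A] g i
    have hrel : ∀ i, ∃ (l : ℕ) (p : Fin m → A) (s : ℕ),
        h ^ s • φ (b i) = h ^ (l + N i) • v i + x • ∑ j, p j • v j := fun i => by
      obtain ⟨w, ⟨l, c', hc'⟩, hw'⟩ := (mk_eq_mk_iff (⟨φ (b i), hawh (b i)⟩ : ↥(away C K h))
        (h ^ N i • (⟨v i, image_mem_away K h (g i)⟩ : ↥(away C K h)))).1 ((hφβ _).trans (hb i))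
      obtain ⟨p, hp⟩ := (Submodule.mem_span_range_iff_exists_fun A).1
        (hg.symm ▸ Submodule.mem_top : c' ∈ Submodule.span A (Set.range g))
      refine ⟨l, p, l, ?_⟩
      have he : φ (b i) = h ^ N i • v i + x • w := by
        rw [← sub_eq_iff_eq_add']
        exact hw'.symm.trans (show x ^ 1 • w = x • w by rw [pow_one])
      rw [he, smul_add, smul_smul, ← pow_add, smul_comm (h ^ l) x w, hc', ← hp, TensorProduct.tmul_sum]
      simp [v, TensorProduct.tmul_smul]
    choose l p s hrel using hrel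
    let Mx : Matrix (Fin m) (Fin m) A := Matrix.of fun i j =>
      (if i = j then h ^ (l i + N i) else 0) + x * p i j
    let V : Submodule A (K ⊗[A] C) := (LinearMap.range Φ.toLinearMap).restrictScalars A
    have hV : ∀ i, ∑ j, Mx i j • v j ∈ V := fun i => by
      refine ⟨h ^ s i • ((1 : K) ⊗ₜ[A] b i), ?_⟩
      show Φ (h ^ s i • ((1 : K) ⊗ₜ[A] b i)) = _
      rw [← algebraMap_smul K (h ^ s i) ((1 : K) ⊗ₜ[A] b i), map_smul, hΦ, one_smul, algebraMap_smul, hrel]
      simp [Mx, add_smul, Finset.sum_add_distrib, Finset.smul_sum, smul_smul]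
    have hdet : Mx.det ≠ 0 := fun h0 => by
      have h1 : Ideal.Quotient.mk (Ideal.span {x}) Mx.det =
          ∏ i, Ideal.Quotient.mk (Ideal.span {x}) h ^ (l i + N i) := by
        rw [RingHom.map_det, ← Matrix.det_diagonal]
        congr 1
        ext i j
        have hx0 : Ideal.Quotient.mk (Ideal.span {x}) x = 0 :=
          Ideal.Quotient.eq_zero_iff_mem.2 (Ideal.mem_span_singleton_self x)
        by_cases hij : i = j
        · subst hij; simp [Mx, hx0]
        · simp [Mx, hx0, hij]
      rw [h0, map_zero, Finset.prod_pow_eq_pow_sum, ← map_pow, eq_comm, Ideal.Quotient.eq_zero_iff_mem,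
        Ideal.mem_span_singleton] at h1
      have h2 := dvd_of_dvd_pow_mul t.h_nzd 1 _ 1 (by simpa using h1)
      exact (IsLocalRing.mem_maximalIdeal x).1 hxm (isUnit_of_dvd_one (by simpa using h2))
    have hdv : ∀ i, Mx.det • v i ∈ V := fun i => by
      have h1 : ∀ j, (Matrix.adjugate Mx * Mx) i j = if i = j then Mx.det else 0 := fun j => by
        rw [Matrix.adjugate_mul, Matrix.smul_apply, Matrix.one_apply]
        split <;> simp
      have h2 : ∑ a, Matrix.adjugate Mx i a • ∑ j, Mx a j • v j = Mx.det • v i := by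
        simp only [Finset.smul_sum, smul_smul]
        rw [Finset.sum_comm]
        simp only [← Finset.sum_smul, ← Matrix.mul_apply, h1]
        simp [ite_smul]
      rw [← h2]
      exact sum_mem fun a _ => V.smul_mem _ (hV a)
    intro y
    suffices hy : y ∈ LinearMap.range Φ.toLinearMap from hy
    induction y using TensorProduct.induction_on with
    | zero => exact zero_mem _
    | tmul r c =>
      have hc : ((1 : K) ⊗ₜ[A] c) ∈ LinearMap.range Φ.toLinearMap := by
        obtain ⟨q, rfl⟩ := (Submodule.mem_span_range_iff_exists_fun A).1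
          (hg.symm ▸ Submodule.mem_top : c ∈ Submodule.span A (Set.range g))
        rw [TensorProduct.tmul_sum]
        refine sum_mem fun i _ => ?_
        rw [TensorProduct.tmul_smul, ← algebraMap_smul K (q i) ((1 : K) ⊗ₜ[A] g i)]
        refine Submodule.smul_mem _ _ ?_
        have hd := (map_ne_zero_iff _ (IsFractionRing.injective A K)).2 hdet
        rw [← inv_smul_smul₀ hd ((1 : K) ⊗ₜ[A] g i), algebraMap_smul]
        exact Submodule.smul_mem _ _ (hdv i)
      rw [show (r ⊗ₜ[A] c : K ⊗[A] C) = r • ((1 : K) ⊗ₜ[A] c) by simp [TensorProduct.smul_tmul']]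
      exact Submodule.smul_mem _ r hc
    | add y y' hy hy' => exact add_mem hy hy'
  -- injectivity
  let bb := Module.Free.chooseBasis A Bt
  have hnd : ∀ b : Bt, φ b = 0 → ∃ b', b = x • b' ∧ φ b' = 0 := fun b hb => by
    have h1 : βh b = 0 := by
      rw [← hφβ b, Ideal.Quotient.eq_zero_iff_mem,
        show (⟨φ b, hawh b⟩ : ↥(away C K h)) = 0 from Subtype.ext hb]
      exact zero_mem _
    obtain ⟨n, b', hb'⟩ := hinj b h1
    have hdiv : ∀ i, x ∣ bb.repr b i := fun i => by
      have h2 := DFunLike.congr_fun (congrArg bb.repr hb') i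
      simp only [map_smul, Finsupp.smul_apply, smul_eq_mul] at h2
      simpa using dvd_of_dvd_pow_mul t.h_nzd 1 n (bb.repr b i) ⟨bb.repr b' i, by rw [pow_one, h2]⟩
    choose q hq using hdiv
    let b'' := ∑ i, q i • bb i
    have hb'' : b = x • b'' := by
      conv_lhs => rw [← bb.sum_repr b]
      simp only [b'', Finset.smul_sum, smul_smul, hq]
    exact ⟨b'', hb'', smul_cancel t.x_ne (by rw [← map_smul, ← hb'', hb])⟩
  have hinjφ : Function.Injective φ := by
    refine (injective_iff_map_eq_zero φ).2 fun b hb => ?_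
    have hpow : ∀ j : ℕ, ∃ b', b = x ^ j • b' ∧ φ b' = 0 := fun j => by
      induction j with
      | zero => exact ⟨b, by simp, hb⟩
      | succ j ih =>
        obtain ⟨b', rfl, hb'⟩ := ih
        obtain ⟨b'', rfl, hb''⟩ := hnd b' hb'
        exact ⟨b'', by rw [smul_smul, pow_succ], hb''⟩
    haveI : IsHausdorff (maximalIdeal A) Bt :=
      IsHausdorff.of_le_jacobson _ _ (IsLocalRing.maximalIdeal_le_jacobson _)
    refine IsHausdorff.haus (I := maximalIdeal A) inferInstance b fun j => ?_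
    rw [SModEq.zero]
    obtain ⟨b', rfl, -⟩ := hpow j
    exact Submodule.smul_mem_smul (Ideal.pow_mem_pow hxm j) Submodule.mem_top
  have hinjΦ : Function.Injective Φ := by
    refine (injective_iff_map_eq_zero Φ).2 fun z hz => ?_
    haveI : IsLocalizedModule (nonZeroDivisors A) (TensorProduct.mk A K Bt 1) :=
      (isLocalizedModule_iff_isBaseChange (nonZeroDivisors A) K _).2 (TensorProduct.isBaseChange A Bt K)
    obtain ⟨⟨b, s⟩, hbs⟩ := IsLocalizedModule.surj (nonZeroDivisors A) (TensorProduct.mk A K Bt 1) z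
    rw [Submonoid.smul_def, TensorProduct.mk_apply] at hbs
    have h1 : φ b = 0 := by
      have := congrArg Φ hbs
      rwa [← algebraMap_smul K (s : A) z, map_smul, hz, smul_zero, hΦ, one_smul, eq_comm] at this
    rw [hinjφ (h1.trans (map_zero φ).symm), TensorProduct.tmul_zero] at hbs
    rw [← algebraMap_smul K (s : A) z] at hbs
    exact (smul_eq_zero.1 hbs).resolve_left
      ((map_ne_zero_iff _ (IsFractionRing.injective A K)).2 (nonZeroDivisors.coe_ne_zero s))
  let E := AlgEquiv.ofBijective Φ ⟨hinjΦ, hsurjΦ⟩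
  let bK := bb.baseChange K
  have htr : ∀ b, Algebra.trace K (K ⊗[A] C) (φ b) = algebraMap A K (Algebra.trace A Bt b) := fun b => by
    have h1 : φ b = E ((1 : K) ⊗ₜ[A] b) := by simp [E, hΦ]
    rw [h1, Algebra.trace_eq_of_algEquiv E, Algebra.trace_apply, Algebra.trace_apply,
      ← LinearMap.trace_baseChange]
    congr 1
    ext z
    simp
  have hrange : ∀ y ∈ lat (A := A) C K, ∃ b, φ b = y := fun y hy => by
    have hint : ∀ b, ∃ a : A, algebraMap A K a = Algebra.trace K (K ⊗[A] C) (y * φ b) := fun b => by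
      have hm := mem_lat_of_away t.pair eh ek
        (mul_mem (mem_away_of_mem_lat eh hy) (mem_away_of_mem_lat eh (hlat b)))
        (mul_mem (mem_away_of_mem_lat ek hy) (mem_away_of_mem_lat ek (hlat b)))
      obtain ⟨a, ha⟩ := hm 1
      refine ⟨a, ?_⟩
      rw [← Algebra.linearMap_apply, ha, trPair_apply, ← Algebra.TensorProduct.one_def, mul_one]
    choose a ha using hint
    obtain ⟨b₀, hb₀⟩ := ((TraceEtale.etale_iff_bijective_traceForm A Bt).1 inferInstance).2
      (bb.constr A fun i => a (bb i))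
    refine ⟨b₀, (sub_eq_zero.1 (((TraceEtale.etale_iff_bijective_traceForm K (K ⊗[A] C)).1 hEK).1 ?_)).symm⟩
    refine LinearMap.ext fun w => ?_
    obtain ⟨z, rfl⟩ := hsurjΦ w
    rw [map_zero, LinearMap.zero_apply, Algebra.traceForm_apply]
    suffices hz : z ∈ LinearMap.ker ((Algebra.traceForm K (K ⊗[A] C) (y - φ b₀)).comp Φ.toLinearMap) from hz
    have : z ∈ Submodule.span K (Set.range bK) := bK.span_eq.symm ▸ Submodule.mem_top
    refine Submodule.span_le.2 ?_ this
    rintro _ ⟨i, rfl⟩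
    show Algebra.trace K (K ⊗[A] C) ((y - φ b₀) * Φ (bK i)) = 0
    rw [Module.Basis.baseChange_apply, hΦ, one_smul, sub_mul, _root_.map_sub, ← ha, ← _root_.map_mul φ, htr, sub_eq_zero]
    congr 1
    have := LinearMap.congr_fun hb₀ (bb i)
    rw [Module.Basis.constr_basis, Algebra.traceForm_apply] at this
    exact this.symm
  obtain ⟨e⟩ := lat_equiv_dual C K eh hh0
  let e' : Bt ≃ₗ[A] lat (A := A) C K := LinearEquiv.ofBijective (φ.toLinearMap.codRestrict _ hlat)
    ⟨fun b b' hbb => hinjφ (congrArg Subtype.val hbb), fun y => by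
      obtain ⟨b, hb⟩ := hrange y.1 y.2
      exact ⟨b, Subtype.ext hb⟩⟩
  exact Module.Free.of_equiv (e'.trans e)

end

end Groth.Agent.Pi1Ext.RegPurity
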