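import Groth.Agent.Pi1Ext.TraceDual
import Mathlib.RingTheory.Etale.Basic
import Mathlib.RingTheory.Flat.EquationalCriterion
import Mathlib.RingTheory.Localization.Integer
import Mathlib.RingTheory.Filtration
import Mathlib.LinearAlgebra.Matrix.Adjugate
import Mathlib.RingTheory.AdicCompletion.Basic

/-!
Lifting finite étale extensions from a hyperplane section: the trace dual is free.
-/

set_option autoImplicit false
universe u

open TensorProduct IsLocalRing

namespace Groth.Agent.Pi1Ext.RegPurity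

noncomputable section

variable {A : Type u} [CommRing A] {C : Type u} [CommRing C] [Algebra A C] {K : Type u} [Field K] [Algebra A K]

/-- `x ^ n` times `S`. -/
def xS (x : A) (S : Subalgebra A (K ⊗[A] C)) (n : ℕ) : Submodule A (K ⊗[A] C) :=
  (Subalgebra.toSubmodule S).map (LinearMap.lsmul A (K ⊗[A] C) (x ^ n))

variable {x : A} {S : Subalgebra A (K ⊗[A] C)}

theorem mem_xS {n : ℕ} {y : K ⊗[A] C} : y ∈ xS x S n ↔ ∃ w ∈ S, x ^ n • w = y := Iff.rfl

theorem xS_le {n : ℕ} : ∀ y ∈ xS x S n, y ∈ S := fun _ ⟨w, hw, h⟩ => h ▸ S.smul_mem hw _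

theorem xS_mono {m n : ℕ} (h : m ≤ n) {y : K ⊗[A] C} (hy : y ∈ xS x S n) : y ∈ xS x S m := by
  obtain ⟨w, hw, rfl⟩ := hy
  exact ⟨x ^ (n - m) • w, S.smul_mem hw _, by
    rw [LinearMap.lsmul_apply, LinearMap.lsmul_apply, smul_smul, ← pow_add, Nat.add_sub_cancel' h]⟩

theorem mul_mem_xS {n : ℕ} {y z : K ⊗[A] C} (hy : y ∈ xS x S n) (hz : z ∈ S) : y * z ∈ xS x S n := by
  obtain ⟨w, hw, rfl⟩ := hy
  exact ⟨w * z, S.mul_mem hw hz, by rw [LinearMap.lsmul_apply, LinearMap.lsmul_apply, smul_mul_assoc]⟩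

theorem xS_le_of_le {S' : Subalgebra A (K ⊗[A] C)} (h : S ≤ S') {n : ℕ} {y : K ⊗[A] C}
    (hy : y ∈ xS x S n) : y ∈ xS x S' n := by
  obtain ⟨w, hw, rfl⟩ := hy
  exact ⟨w, h hw, rfl⟩

/-- The ideal `x ^ n S` of `S`. -/
abbrev xI (x : A) (S : Subalgebra A (K ⊗[A] C)) (n : ℕ) : Ideal S :=
  Ideal.span {algebraMap A S (x ^ n)}

theorem mk_eq_mk_iff {n : ℕ} (a b : S) :
    Ideal.Quotient.mk (xI x S n) a = Ideal.Quotient.mk (xI x S n) b ↔
      (a : K ⊗[A] C) - b ∈ xS x S n := by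
  rw [Ideal.Quotient.eq, Ideal.mem_span_singleton']
  constructor
  · rintro ⟨w, hw⟩
    refine ⟨w, w.2, ?_⟩
    rw [LinearMap.lsmul_apply, ← S.coe_sub, ← hw, S.coe_mul, Algebra.smul_def, mul_comm]
    rfl
  · rintro ⟨w, hw, he⟩
    refine ⟨⟨w, hw⟩, Subtype.ext ?_⟩
    rw [S.coe_mul, S.coe_sub, ← he, LinearMap.lsmul_apply, Algebra.smul_def, mul_comm]
    rfl

variable {Bt : Type u} [CommRing Bt] [Algebra A Bt]

theorem isNilpotent_map_xI {A : Type u} [CommRing A] {R : Type u} [CommRing R] [Algebra A R] (x : A) (n : ℕ) :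
    IsNilpotent ((Ideal.span {algebraMap A R (x ^ 1)}).map
      (Ideal.Quotient.mk (Ideal.span {algebraMap A R (x ^ (n + 1))}))) := by
  refine ⟨n + 1, ?_⟩
  rw [Ideal.map_span, Set.image_singleton, Ideal.span_singleton_pow, Submodule.zero_eq_bot,
    Ideal.span_singleton_eq_bot, ← map_pow, ← map_pow, ← pow_mul, one_mul, Ideal.Quotient.eq_zero_iff_mem]
  exact Ideal.mem_span_singleton_self _

theorem exists_lifts {A : Type u} [CommRing A] {R Bt : Type u} [CommRing R] [Algebra A R] [CommRing Bt]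
    [Algebra A Bt] [Algebra.FormallySmooth A Bt] (I : ℕ → Ideal R) (hle : ∀ n, I n ≤ I 0)
    (hnil : ∀ n, IsNilpotent ((I 0).map (Ideal.Quotient.mk (I n)))) (β : Bt →ₐ[A] R ⧸ I 0) :
    ∀ n, ∃ ψ : Bt →ₐ[A] R ⧸ I n, ∀ b, Ideal.Quotient.factor (hle n) (ψ b) = β b := fun n => by
  have hker : IsNilpotent (RingHom.ker (Ideal.Quotient.factorₐ A (hle n) : R ⧸ I n →+* R ⧸ I 0)) := by
    show IsNilpotent (RingHom.ker (Ideal.Quotient.factor (hle n)))
    rw [Ideal.Quotient.factor_ker]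
    exact hnil n
  exact ⟨Algebra.FormallySmooth.liftOfSurjective β _ (Ideal.Quotient.factor_surjective (hle n)) hker,
    Algebra.FormallySmooth.liftOfSurjective_apply β (Ideal.Quotient.factorₐ A (hle n))
      (Ideal.Quotient.factor_surjective (hle n)) hker⟩

/-- A compatible system of homomorphisms modulo powers of `x`. -/
structure IsSys (x : A) (S : Subalgebra A (K ⊗[A] C)) (f : ℕ → Bt → K ⊗[A] C) : Prop where
  mem : ∀ n b, f n b ∈ S
  one : ∀ n, f n 1 - 1 ∈ xS x S (n + 1)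
  map_add : ∀ n b b', f n (b + b') - (f n b + f n b') ∈ xS x S (n + 1)
  map_mul : ∀ n b b', f n (b * b') - f n b * f n b' ∈ xS x S (n + 1)
  map_smul : ∀ n (a : A) b, f n (a • b) - a • f n b ∈ xS x S (n + 1)
  base : ∀ n b, f n b - f 0 b ∈ xS x S 1

namespace IsSys

variable {f f' : ℕ → Bt → K ⊗[A] C}

theorem mono (hf : IsSys x S f) {S' : Subalgebra A (K ⊗[A] C)} (h : S ≤ S') : IsSys x S' f where
  mem n b := h (hf.mem n b)
  one n := xS_le_of_le h (hf.one n)
  map_add n b b' := xS_le_of_le h (hf.map_add n b b')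
  map_mul n b b' := xS_le_of_le h (hf.map_mul n b b')
  map_smul n a b := xS_le_of_le h (hf.map_smul n a b)
  base n b := xS_le_of_le h (hf.base n b)

theorem succ (hf : IsSys x S f) : IsSys x S (fun n => f (n + 1)) where
  mem n b := hf.mem _ b
  one n := xS_mono (by omega) (hf.one (n + 1))
  map_add n b b' := xS_mono (by omega) (hf.map_add (n + 1) b b')
  map_mul n b b' := xS_mono (by omega) (hf.map_mul (n + 1) b b')
  map_smul n a b := xS_mono (by omega) (hf.map_smul (n + 1) a b)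
  base n b := by
    have := sub_mem (hf.base (n + 1) b) (hf.base 1 b)
    simpa using this

/-- The homomorphism at level `n`. -/
def hom (hf : IsSys x S f) (n : ℕ) : Bt →ₐ[A] S ⧸ xI x S (n + 1) := by
  let g : Bt → S ⧸ xI x S (n + 1) := fun b => Ideal.Quotient.mk _ ⟨f n b, hf.mem n b⟩
  have hadd : ∀ b b', g (b + b') = g b + g b' := fun b b' => by
    rw [← _root_.map_add (Ideal.Quotient.mk _)]
    exact (mk_eq_mk_iff _ _).2 (by simpa using hf.map_add n b b')
  refine AlgHom.mk'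
    { toFun := g
      map_one' := by
        rw [← (Ideal.Quotient.mk _).map_one]
        exact (mk_eq_mk_iff _ _).2 (by simpa using hf.one n)
      map_mul' := fun b b' => by
        rw [← _root_.map_mul (Ideal.Quotient.mk _)]
        exact (mk_eq_mk_iff _ _).2 (by simpa using hf.map_mul n b b')
      map_zero' := by simpa using hadd 0 0
      map_add' := hadd } ?_
  intro a b
  show Ideal.Quotient.mk (xI x S (n + 1)) (⟨f n (a • b), hf.mem n _⟩ : S) =
    Ideal.Quotient.mk (xI x S (n + 1)) (a • (⟨f n b, hf.mem n b⟩ : S))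
  exact (mk_eq_mk_iff _ _).2 (by simpa using hf.map_smul n a b)

theorem unique [Algebra.FormallyUnramified A Bt] (hf : IsSys x S f) (hf' : IsSys x S f')
    (h0 : ∀ b, f 0 b - f' 0 b ∈ xS x S 1) (n : ℕ) (b : Bt) : f n b - f' n b ∈ xS x S (n + 1) := by
  have hnil := isNilpotent_map_xI (A := A) (R := S) x n
  have : hf.hom n = hf'.hom n := Algebra.FormallyUnramified.ext _ hnil fun b => by
    rw [Ideal.Quotient.eq]
    show Ideal.Quotient.mk (xI x S (n + 1)) ((⟨f n b, hf.mem n b⟩ : S) - ⟨f' n b, hf'.mem n b⟩) ∈ _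
    refine Ideal.mem_map_of_mem (Ideal.Quotient.mk (xI x S (n + 1))) ?_
    rw [← Ideal.Quotient.eq]
    refine (mk_eq_mk_iff _ _).2 ?_
    have := add_mem (sub_mem (hf.base n b) (hf'.base n b)) (h0 b)
    rwa [show f n b - f 0 b - (f' n b - f' 0 b) + (f 0 b - f' 0 b) = f n b - f' n b by abel] at this
  exact (mk_eq_mk_iff _ _).1 (AlgHom.congr_fun this b)

theorem cauchy [Algebra.FormallyUnramified A Bt] (hf : IsSys x S f) {m n : ℕ} (h : m ≤ n) (b : Bt) :
    f n b - f m b ∈ xS x S (m + 1) := by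
  induction n, h using Nat.le_induction with
  | base => simp
  | succ n hmn ih =>
    have := xS_mono (m := m + 1) (by omega) (hf.succ.unique hf (fun b => hf.base 1 b) n b)
    simpa using add_mem this ih

end IsSys

theorem exists_sys [Algebra.FormallySmooth A Bt] (β : Bt →ₐ[A] S ⧸ xI x S 1) :
    ∃ f : ℕ → Bt → K ⊗[A] C, ∃ hf : IsSys x S f,
      ∀ b, Ideal.Quotient.mk (xI x S 1) ⟨f 0 b, hf.mem 0 b⟩ = β b := by
  have hle : ∀ n : ℕ, xI x S (n + 1) ≤ xI x S 1 := fun n =>
    Ideal.span_singleton_le_span_singleton.2 (map_dvd _ (pow_dvd_pow x (by omega)))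
  choose ψ hψ using exists_lifts (A := A) (R := S) (Bt := Bt) (fun n => xI x S (n + 1)) hle
    (fun n => isNilpotent_map_xI (A := A) (R := S) x n) β
  choose r hr using fun n b => Ideal.Quotient.mk_surjective (ψ n b)
  refine ⟨fun n b => r n b, ⟨fun n b => (r n b).2, fun n => ?_, fun n b b' => ?_, fun n b b' => ?_,
    fun n a b => ?_, fun n b => ?_⟩, fun b => ?_⟩
  · exact (mk_eq_mk_iff (r n 1) 1).1 (by rw [hr, map_one, map_one])
  · exact (mk_eq_mk_iff (r n (b + b')) (r n b + r n b')).1 (by rw [hr, map_add, map_add, hr, hr])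
  · exact (mk_eq_mk_iff (r n (b * b')) (r n b * r n b')).1 (by rw [hr, map_mul, map_mul, hr, hr])
  · exact (mk_eq_mk_iff (r n (a • b)) (a • r n b)).1 (by
      rw [hr, map_smul, ← hr n b]
      rfl)
  · refine (mk_eq_mk_iff (r n b) (r 0 b)).1 ?_
    rw [← Ideal.Quotient.factor_mk (hle n), hr, ← Ideal.Quotient.factor_mk (hle 0), hr, hψ, hψ]
  · show Ideal.Quotient.mk (xI x S 1) (r 0 b) = β b
    rw [← Ideal.Quotient.factor_mk (hle 0), hr, hψ]

section Away

theorem away_saturated {g : A} {y : K ⊗[A] C} {n : ℕ} (h : g ^ n • y ∈ away C K g) : y ∈ away C K g := by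
  obtain ⟨m, c, hc⟩ := h
  exact ⟨m + n, c, by rw [pow_add, mul_smul, hc]⟩

theorem away_mono {g g' : A} : away C K g ≤ away C K (g * g') := by
  rintro y ⟨n, c, hc⟩
  exact ⟨n, g' ^ n • c, by rw [TensorProduct.tmul_smul, ← hc, mul_pow, mul_comm, mul_smul]⟩

theorem away_mono' {g g' : A} : away C K g' ≤ away C K (g * g') := by
  rw [mul_comm]
  exact away_mono

theorem etAway_mul [Module.Finite A C] [IsNoetherianRing A] {g : A} (hg : EtAway A C g) (g' : A) :
    EtAway A C (g * g') := by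
  haveI : Algebra.FinitePresentation A C := Algebra.FinitePresentation.of_finiteType.mp inferInstance
  unfold EtAway at hg ⊢
  rw [← Algebra.basicOpen_subset_etaleLocus_iff_etale] at hg ⊢
  refine Set.Subset.trans ?_ hg
  intro p hp
  simp only [map_mul, PrimeSpectrum.basicOpen_mul] at hp
  exact hp.1

end Away

variable [IsDomain A]

/-- A triple of elements cutting out a hyperplane and two transversal functions. -/
structure Triple (x h k : A) : Prop where
  x_ne : x ≠ 0
  k_ne : k ≠ 0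
  h_nzd : ∀ (n : ℕ) (z : A), x ^ n ∣ h * z → x ^ n ∣ z
  k_nzd : ∀ (n : ℕ) (z : A), x ^ n ∣ k * z → x ^ n ∣ z
  k_nzd₂ : ∀ (n a : ℕ) (z : A), k * z ∈ Ideal.span {x ^ n, h ^ a} → z ∈ Ideal.span {x ^ n, h ^ a}
  pair : RegPair A h k

theorem dvd_of_dvd_pow_mul {x h : A} (h_nzd : ∀ (n : ℕ) (z : A), x ^ n ∣ h * z → x ^ n ∣ z)
    (n : ℕ) : ∀ (a : ℕ) (z : A), x ^ n ∣ h ^ a * z → x ^ n ∣ z := fun a => by
  induction a with
  | zero => simp
  | succ a ih => exact fun z hz => h_nzd n z (ih _ (by rwa [← mul_assoc, ← pow_succ]))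

/-- `z` is a fraction with denominator a power of `g`. -/
def InLoc (g : A) (z : K) : Prop := ∃ m : ℕ, g ^ m • z ∈ intl A K

/-- `z` is `x ^ n` times a fraction with denominator a power of `g`. -/
def InXLoc (x g : A) (n : ℕ) (z : K) : Prop := ∃ w, InLoc g w ∧ x ^ n • w = z

variable [IsFractionRing A K] {h k : A}

theorem algebraMap_mem_intl (a : A) : algebraMap A K a ∈ intl A K := ⟨a, rfl⟩

theorem exists_scalar (t : Triple x h k) {uh uk : K} (hh : InLoc h uh) (hk : InLoc k uk) {n : ℕ}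
    (hd : InXLoc x (h * k) n (uh - uk)) :
    ∃ a : A, InXLoc x h n (uh - algebraMap A K a) ∧ InXLoc x k n (uk - algebraMap A K a) := by
  obtain ⟨a, p, hp⟩ := hh
  obtain ⟨b, q, hq⟩ := hk
  obtain ⟨w, ⟨l, d, hd'⟩, hw⟩ := hd
  have hinj := IsFractionRing.injective A K
  rw [Algebra.linearMap_apply, Algebra.smul_def] at hp hq hd'
  rw [Algebra.smul_def] at hw
  have he : (h * k) ^ l * (k ^ b * p - h ^ a * q) = x ^ n * (h ^ a * k ^ b * d) := hinj (by
    simp only [map_mul, map_sub, map_pow] at hp hq hd' hw ⊢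
    rw [hp, hq, hd']
    linear_combination (algebraMap A K h ^ a * algebraMap A K k ^ b *
      (algebraMap A K h * algebraMap A K k) ^ l) * (-hw))
  have h1 : x ^ n ∣ k ^ b * p - h ^ a * q := by
    refine dvd_of_dvd_pow_mul t.h_nzd n l _ (dvd_of_dvd_pow_mul t.k_nzd n l _ ⟨h ^ a * k ^ b * d, ?_⟩)
    rw [← he]
    ring
  have h2 : p ∈ Ideal.span {x ^ n, h ^ a} := by
    have hpow : ∀ (b : ℕ) (z : A), k ^ b * z ∈ Ideal.span {x ^ n, h ^ a} →
        z ∈ Ideal.span {x ^ n, h ^ a} := fun b => by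
      induction b with
      | zero => simp
      | succ b ih => exact fun z hz => t.k_nzd₂ n a z (ih _ (by rwa [← mul_assoc, ← pow_succ]))
    obtain ⟨e, he'⟩ := h1
    exact hpow b p (Ideal.mem_span_pair.2 ⟨e, q, by linear_combination -he'⟩)
  obtain ⟨e, a₀, hea⟩ := Ideal.mem_span_pair.1 h2
  obtain ⟨f, hf⟩ : x ^ n ∣ q - k ^ b * a₀ := by
    obtain ⟨e', he'⟩ := h1
    refine dvd_of_dvd_pow_mul t.h_nzd n a _ ⟨k ^ b * e - e', ?_⟩
    linear_combination -he' - k ^ b * hea
  have hne : ∀ g : A, g ≠ 0 → ∀ m : ℕ, algebraMap A K (g ^ m) ≠ 0 := fun g hg m =>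
    (map_ne_zero_iff _ hinj).2 (pow_ne_zero m hg)
  have hk0 := t.k_ne
  refine ⟨a₀, ⟨algebraMap A K e / algebraMap A K (h ^ a), ⟨a, e, ?_⟩, ?_⟩,
    ⟨algebraMap A K f / algebraMap A K (k ^ b), ⟨b, f, ?_⟩, ?_⟩⟩
  · rw [Algebra.linearMap_apply, Algebra.smul_def, mul_div_cancel₀ _ (hne h t.pair.1 a)]
  · rw [Algebra.smul_def, mul_div_assoc', div_eq_iff (hne h t.pair.1 a)]
    have := congrArg (algebraMap A K) hea
    simp only [map_add, map_mul, map_pow] at this hp ⊢
    linear_combination this + hp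
  · rw [Algebra.linearMap_apply, Algebra.smul_def, mul_div_cancel₀ _ (hne k hk0 b)]
  · rw [Algebra.smul_def, mul_div_assoc', div_eq_iff (hne k hk0 b)]
    have := congrArg (algebraMap A K) hf
    simp only [map_sub, map_mul, map_pow] at this hq ⊢
    linear_combination -this + hq

theorem InXLoc.dvd_of_algebraMap {x g : A} (hg : g ≠ 0)
    (h_nzd : ∀ (n : ℕ) (z : A), x ^ n ∣ g * z → x ^ n ∣ z) {n : ℕ} {a : A}
    (ha : InXLoc x g n (algebraMap A K a)) : x ^ n ∣ a := by
  obtain ⟨w, ⟨m, d, hd⟩, hw⟩ := ha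
  refine dvd_of_dvd_pow_mul h_nzd n m a ⟨d, IsFractionRing.injective A K ?_⟩
  rw [Algebra.linearMap_apply, Algebra.smul_def] at hd
  rw [Algebra.smul_def] at hw
  rw [map_mul, map_mul, ← hw, hd]
  ring

theorem InXLoc.sub {x g : A} {n : ℕ} {z z' : K} (hz : InXLoc x g n z) (hz' : InXLoc x g n z') :
    InXLoc x g n (z - z') := by
  obtain ⟨w, ⟨m, hm⟩, rfl⟩ := hz
  obtain ⟨w', ⟨m', hm'⟩, rfl⟩ := hz'
  refine ⟨w - w', ⟨m + m', ?_⟩, smul_sub _ _ _⟩
  rw [smul_sub, pow_add]
  refine sub_mem ?_ ?_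
  · rw [mul_comm, mul_smul]; exact Submodule.smul_mem _ _ hm
  · rw [mul_smul]; exact Submodule.smul_mem _ _ hm'

theorem InXLoc.add {x g : A} {n : ℕ} {z z' : K} (hz : InXLoc x g n z) (hz' : InXLoc x g n z') :
    InXLoc x g n (z + z') := by
  have h0 : InXLoc x g n (0 : K) := ⟨0, ⟨0, by simp⟩, smul_zero _⟩
  simpa using hz.sub (h0.sub hz')

theorem InXLoc.mono {x g : A} {m n : ℕ} (h : m ≤ n) {z : K} (hz : InXLoc x g n z) : InXLoc x g m z := by
  obtain ⟨w, ⟨l, hl⟩, rfl⟩ := hz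
  exact ⟨x ^ (n - m) • w, ⟨l, by rw [smul_comm]; exact Submodule.smul_mem _ _ hl⟩,
    by rw [smul_smul, ← pow_add, Nat.add_sub_cancel' h]⟩

theorem inXLoc_of_dvd {x g : A} {n : ℕ} {a : A} (ha : x ^ n ∣ a) : InXLoc x g n (algebraMap A K a) := by
  obtain ⟨d, rfl⟩ := ha
  exact ⟨algebraMap A K d, ⟨0, by rw [pow_zero, one_smul]; exact algebraMap_mem_intl d⟩,
    by rw [Algebra.smul_def, map_mul]⟩

theorem dvd_of_forall_mem_sup [IsLocalRing A] [IsNoetherianRing A] {x : A} {n : ℕ} {a : A}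
    (ha : ∀ j : ℕ, a ∈ maximalIdeal A ^ j ⊔ Ideal.span {x ^ n}) : x ^ n ∣ a := by
  let I := Ideal.span {x ^ n}
  haveI : IsHausdorff (maximalIdeal A) (A ⧸ I) := IsHausdorff.of_le_jacobson _ _
    (IsLocalRing.maximalIdeal_le_jacobson _)
  rw [← Ideal.mem_span_singleton, ← Ideal.Quotient.eq_zero_iff_mem]
  refine IsHausdorff.haus (I := maximalIdeal A) inferInstance _ fun j => ?_
  rw [SModEq.zero]
  obtain ⟨y, hy, z, hz, rfl⟩ := Submodule.mem_sup.1 (ha j)
  rw [map_add, Ideal.Quotient.eq_zero_iff_mem.2 hz, add_zero]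
  rw [show Ideal.Quotient.mk I y = y • (1 : A ⧸ I) by rw [Algebra.smul_def, mul_one]; rfl]
  exact Submodule.smul_mem_smul hy Submodule.mem_top

theorem exists_limit [IsLocalRing A] [IsNoetherianRing A] [IsAdicComplete (maximalIdeal A) A] {x : A}
    (hxm : x ∈ maximalIdeal A) (a : ℕ → A) (ha : ∀ n, x ^ (n + 1) ∣ a (n + 1) - a n) :
    ∃ L, ∀ n, x ^ (n + 1) ∣ L - a n := by
  have hc : ∀ {m n : ℕ}, m ≤ n → x ^ (m + 1) ∣ a n - a m := fun {m n} h => by
    induction n, h using Nat.le_induction with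
    | base => simp
    | succ n hmn ih =>
      rw [← sub_add_sub_cancel (a (n + 1)) (a n) (a m)]
      exact dvd_add ((pow_dvd_pow x (by omega)).trans (ha n)) ih
  obtain ⟨L, hL⟩ := IsPrecomplete.prec (inferInstance : IsPrecomplete (maximalIdeal A) A) (f := a)
    fun {m n} h => by
      rw [SModEq.sub_mem, smul_eq_mul, Ideal.mul_top]
      have := Ideal.pow_le_pow_right (I := maximalIdeal A) (Nat.le_succ m)
      obtain ⟨d, hd⟩ := hc h
      rw [← neg_sub, hd]
      exact neg_mem (this (Ideal.mul_mem_right _ _ (Ideal.pow_mem_pow hxm _)))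
  refine ⟨L, fun n => dvd_of_forall_mem_sup fun j => ?_⟩
  rw [show L - a n = (L - a (max n j)) + (a (max n j) - a n) by abel]
  refine Submodule.add_mem_sup ?_ (Ideal.mem_span_singleton.2 (hc (le_max_left n j)))
  have := hL (max n j)
  rw [SModEq.sub_mem, smul_eq_mul, Ideal.mul_top] at this
  rw [← neg_sub]
  exact neg_mem (Ideal.pow_le_pow_right (le_max_right n j) this)

theorem eq_zero_of_forall_dvd [IsLocalRing A] [IsNoetherianRing A] {x : A} (hxm : x ∈ maximalIdeal A)
    {a : A} (ha : ∀ n : ℕ, x ^ n ∣ a) : a = 0 := by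
  haveI : IsHausdorff (maximalIdeal A) A := IsHausdorff.of_le_jacobson _ _
    (IsLocalRing.maximalIdeal_le_jacobson _)
  refine IsHausdorff.haus (I := maximalIdeal A) inferInstance a fun j => ?_
  rw [SModEq.zero, smul_eq_mul, Ideal.mul_top]
  obtain ⟨d, rfl⟩ := ha j
  exact Ideal.mul_mem_right _ _ (Ideal.pow_mem_pow hxm _)

section Dual

variable [Module.Finite A C]

theorem eq_zero_of_trPair {g : A} (hg : EtAway A C g) (hg0 : g ≠ 0) {y : K ⊗[A] C}
    (hy : ∀ c, trPair C K y c = 0) : y = 0 := by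
  haveI hEK := etale_fraction (C := C) K hg hg0
  refine ((TraceEtale.etale_iff_bijective_traceForm K (K ⊗[A] C)).1 hEK).1 ?_
  refine LinearMap.ext fun w => ?_
  induction w using TensorProduct.induction_on with
  | zero => simp
  | tmul r c =>
    have hr : (r ⊗ₜ[A] c : K ⊗[A] C) = r • ((1 : K) ⊗ₜ[A] c) := by simp [TensorProduct.smul_tmul']
    rw [hr, map_smul, map_smul, Algebra.traceForm_apply, map_zero, LinearMap.zero_apply, ← trPair_apply, hy]
  | add w w' hw hw' => rw [_root_.map_add, _root_.map_add, hw, hw']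

theorem exists_mem_lat {g : A} (hg : EtAway A C g) (hg0 : g ≠ 0) (l : Module.Dual A C) :
    ∃ y ∈ lat (A := A) C K, ∀ c, trPair C K y c = algebraMap A K (l c) := by
  haveI hEK := etale_fraction (C := C) K hg hg0
  obtain ⟨y, hy⟩ := ((TraceEtale.etale_iff_bijective_traceForm K (K ⊗[A] C)).1 hEK).2
    (LinearMap.liftBaseChange K ((Algebra.linearMap A K).comp l))
  have hyc : ∀ c, trPair C K y c = algebraMap A K (l c) := fun c => by
    have := LinearMap.congr_fun hy ((1 : K) ⊗ₜ[A] c)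
    simpa [trPair_apply] using this
  exact ⟨y, fun c => ⟨l c, (hyc c).symm⟩, hyc⟩

/-- A dual family for the trace form, up to a power of `x`. -/
theorem exists_dual_family [IsNoetherianRing A] {x : A} (hx : EtAway A C x) (hx0 : x ≠ 0) :
    ∃ (r : ℕ) (c : Fin r → C) (β : Fin r → K ⊗[A] C) (M : ℕ),
      Submodule.span A (Set.range c) = ⊤ ∧ (∀ t, β t ∈ lat (A := A) C K) ∧
      ∀ y : K ⊗[A] C, x ^ M • y = ∑ t, trPair C K y (c t) • β t := by
  classical
  obtain ⟨r, c, hc⟩ := Module.Finite.exists_fin (R := A) (M := C)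
  let R := Localization.Away x
  haveI : Algebra.Etale R (R ⊗[A] C) :=
    etale_tensor_of_etAway hx R (IsLocalization.Away.algebraMap_isUnit x)
  haveI : IsNoetherianRing R := IsLocalization.isNoetherianRing (Submonoid.powers x) R inferInstance
  haveI : Module.FinitePresentation R (R ⊗[A] C) := Module.finitePresentation_of_finite R _
  haveI : Module.Projective R (R ⊗[A] C) := Module.Flat.projective_of_finitePresentation
  let π : (Fin r → R) →ₗ[R] R ⊗[A] C := Fintype.linearCombination R fun t => (1 : R) ⊗ₜ[A] c t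
  have hπ : Function.Surjective π := by
    rw [← LinearMap.range_eq_top, Fintype.range_linearCombination, eq_top_iff]
    have hbc := Submodule.baseChange_top (R := A) (A := R) (M := C)
    rw [← hc, Submodule.baseChange_span] at hbc
    rw [← hbc, ← Set.range_comp]
    exact le_rfl
  obtain ⟨σ, hσ⟩ := LinearMap.exists_rightInverse_of_surjective π (LinearMap.range_eq_top.2 hπ)
  obtain ⟨⟨_, M, rfl⟩, hM⟩ := IsLocalization.exist_integer_multiples (Submonoid.powers x)
    (Finset.univ : Finset (Fin r × Fin r)) (fun p => σ ((1 : R) ⊗ₜ[A] c p.1) p.2)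
  have hinjR : Function.Injective (algebraMap A R) :=
    IsLocalization.injective R (powers_le_nonZeroDivisors_of_noZeroDivisors hx0)
  let ev : Fin r → C →ₗ[A] R := fun t => (x ^ M) •
    (((LinearMap.proj t : (Fin r → R) →ₗ[R] R).comp σ).restrictScalars A).comp (TensorProduct.mk A R C 1)
  have hev : ∀ t z, ev t z ∈ LinearMap.range (Algebra.linearMap A R) := fun t z => by
    have hz : z ∈ Submodule.span A (Set.range c) := hc.symm ▸ Submodule.mem_top
    refine (Submodule.span_le (p := (LinearMap.range (Algebra.linearMap A R)).comap (ev t))).2 ?_ hz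
    rintro _ ⟨i, rfl⟩
    obtain ⟨a, ha⟩ := hM (i, t) (Finset.mem_univ _)
    exact ⟨a, ha⟩
  let eA : A ≃ₗ[A] LinearMap.range (Algebra.linearMap A R) := LinearEquiv.ofInjective _ hinjR
  let l : Fin r → Module.Dual A C := fun t => eA.symm.toLinearMap.comp ((ev t).codRestrict _ (hev t))
  have hl : ∀ t z, algebraMap A R (l t z) = x ^ M • σ ((1 : R) ⊗ₜ[A] z) t := fun t z =>
    congrArg Subtype.val (eA.apply_symm_apply ⟨ev t z, hev t z⟩)
  choose β hβmem hβ using fun t => exists_mem_lat (K := K) hx hx0 (l t)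
  let ρ : R →ₐ[A] K := IsLocalization.liftAlgHom (M := Submonoid.powers x) (f := Algebra.ofId A K) fun y =>
    IsUnit.mk0 _ ((map_ne_zero_iff _ (IsFractionRing.injective A K)).2 fun h0 =>
      nonZeroDivisors.ne_zero (powers_le_nonZeroDivisors_of_noZeroDivisors hx0 y.2) h0)
  have hid : ∀ z : C, x ^ M • ((1 : K) ⊗ₜ[A] z) = ∑ t, algebraMap A K (l t z) • ((1 : K) ⊗ₜ[A] c t) := fun z => by
    have h1 : x ^ M • ((1 : R) ⊗ₜ[A] z) = ∑ t, algebraMap A R (l t z) • ((1 : R) ⊗ₜ[A] c t) := by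
      conv_lhs => rw [← (show π (σ ((1 : R) ⊗ₜ[A] z)) = (1 : R) ⊗ₜ[A] z from LinearMap.congr_fun hσ _)]
      rw [Fintype.linearCombination_apply, Finset.smul_sum]
      refine Finset.sum_congr rfl fun t _ => ?_
      rw [hl, smul_assoc]
    have h2 := congrArg (Algebra.TensorProduct.map ρ (AlgHom.id A C)) h1
    simpa [map_sum, TensorProduct.smul_tmul'] using h2
  refine ⟨r, c, β, M, hc, hβmem, fun y => sub_eq_zero.1 (eq_zero_of_trPair hx hx0 fun z => ?_)⟩
  rw [_root_.map_sub, LinearMap.sub_apply, sub_eq_zero, map_smul, LinearMap.smul_apply, map_sum,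
    LinearMap.sum_apply]
  simp only [trPair_apply, smul_mul_assoc, LinearMap.map_smul]
  rw [← LinearMap.map_smul_of_tower (Algebra.trace K (K ⊗[A] C)), ← mul_smul_comm, hid, Finset.mul_sum, map_sum]
  refine Finset.sum_congr rfl fun t _ => ?_
  rw [mul_smul_comm, map_smul, smul_eq_mul, smul_eq_mul, ← trPair_apply (K := K) (β t), hβ, mul_comm]

end Dual

end

end Groth.Agent.Pi1Ext.RegPurity
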