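import Groth.Agent.Pi1Ext.Zigzag
import Groth.Agent.Alg6.AssDepth
import Groth.Agent.ParaFX.Ufd

/-! Sections of finite étale covers of the punctured spectrum of a normal local ring. -/

set_option autoImplicit false
set_option linter.style.haveILetI false
universe u

open CategoryTheory CategoryTheory.Limits AlgebraicGeometry IsLocalRing TensorProduct

noncomputable section

namespace Groth.Agent.Pi1Ext.NormalSections

open RegPurity PuritySch Zigzag

set_option backward.isDefEq.respectTransparency false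
set_option backward.isDefEq.respectTransparency.types false

variable {A : Type u} [CommRing A] [IsDomain A] [IsNoetherianRing A] [IsLocalRing A]

theorem mem_intl {K : Type u} [Field K] [Algebra A K] [IsFractionRing A K]
    (hd : (2 : ℕ∞) ≤ LocCoh.depth A A) {z : K}
    (hz : ∀ g ∈ maximalIdeal A, g ≠ 0 → ∃ n : ℕ, g ^ n • z ∈ intl A K) : z ∈ intl A K := by
  obtain ⟨a₀, s, hs⟩ := IsLocalization.exists_mk'_eq (nonZeroDivisors A) z
  by_cases hsu : IsUnit (s : A)
  · obtain ⟨v, hv⟩ := hsu
    refine ⟨a₀ * ↑v⁻¹, ?_⟩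
    rw [Algebra.linearMap_apply, ← hs, IsLocalization.eq_mk'_iff_mul_eq, ← map_mul, ← hv, mul_assoc,
      Units.inv_mul, mul_one]
  have hsm : (s : A) ∈ maximalIdeal A := hsu
  have hs0 : (s : A) ≠ 0 := nonZeroDivisors.ne_zero s.2
  have hzs : algebraMap A K s * z = algebraMap A K a₀ := by
    rw [← hs, IsLocalization.mk'_spec']
  suffices hdiv : (s : A) ∣ a₀ by
    obtain ⟨w, rfl⟩ := hdiv
    refine ⟨w, mul_left_cancel₀ ((map_ne_zero_iff _ (IsFractionRing.injective A K)).2 hs0) ?_⟩
    rw [hzs, map_mul]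
    rfl
  by_contra hdiv
  have hmem : ∀ w : A, (Submodule.Quotient.mk w : QuotSMulTop (s : A) A) = 0 ↔ (s : A) ∣ w := fun w => by
    rw [Alg6.mem_pointwise_smul_top_iff]
    exact ⟨fun ⟨v, hv⟩ => ⟨v, hv.symm⟩, fun ⟨v, hv⟩ => ⟨v, hv.symm⟩⟩
  obtain ⟨P, hP, hle⟩ := exists_le_isAssociatedPrime_of_isNoetherianRing A
    (Submodule.Quotient.mk a₀ : QuotSMulTop (s : A) A) (fun h => hdiv ((hmem a₀).1 h))
  have hm : maximalIdeal A ≤ P := fun g hg => by
    by_cases hg0 : g = 0
    · exact hg0 ▸ P.zero_mem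
    obtain ⟨n, w, hw⟩ := hz g hg hg0
    refine hP.isPrime.mem_of_pow_mem n (hle (Submodule.mem_colon_singleton.2 ?_))
    rw [Submodule.mem_bot, ← Submodule.Quotient.mk_smul, hmem, smul_eq_mul]
    refine ⟨w, IsFractionRing.injective A K ?_⟩
    rw [map_mul, map_mul, ← hzs, show algebraMap A K w = g ^ n • z from hw, Algebra.smul_def]
    ring
  refine (Alg6.two_le_depth_iff hsm (fun u v huv => mul_left_cancel₀ hs0 huv)).1 hd ?_
  rw [(maximalIdeal.isMaximal A).eq_of_le hP.isPrime.ne_top hm]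
  exact hP

/-- The ring of sections of the cover given by a model. -/
abbrev Sections (A : Type u) [CommRing A] [IsLocalRing A] (B : Type u) [CommRing B] [Algebra A B] : Type u :=
  Γ(pullback (sp A B) (FEt.puncturedSpec A).ι, ⊤)

/-- The restriction of functions. -/
def res (A : Type u) [CommRing A] [IsLocalRing A] (B : Type u) [CommRing B] [Algebra A B] : B →+* Sections A B :=
  ((Scheme.ΓSpecIso (CommRingCat.of B)).inv ≫ (pullback.fst (sp A B) (FEt.puncturedSpec A).ι).appTop).hom

/-- The algebra of sections: the largest model. -/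
theorem exists_sections (hd : (2 : ℕ∞) ≤ LocCoh.depth A A) (C : Type u) [CommRing C] [Algebra A C]
    [Module.Finite A C] (hC : EtOff A C) :
    ∃ (B : Type u) (_ : CommRing B) (_ : Algebra A B) (_ : Module.Finite A B) (f : C →ₐ[A] B),
      (∀ g ∈ maximalIdeal A, IsoAway f g) ∧ Function.Bijective (res A B) ∧
        (Module.Free A C → Function.Bijective f) := by
  classical
  let K := FractionRing A
  let S : Set A := {g | g ∈ maximalIdeal A ∧ g ≠ 0}
  obtain ⟨g₀, hg₀⟩ : ∃ g, g ∈ S := by
    refine Submodule.exists_mem_ne_zero_of_ne_bot (p := maximalIdeal A) fun h => ?_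
    have h1 := (Alg6.one_le_depth_iff (R := A) (M := A)).1 (le_trans (by decide) hd)
    exact h1 (Alg6.mem_ass_iff.2 ⟨inferInstance, 1, fun b => by simp [h]⟩)
  let B : Subalgebra A (K ⊗[A] C) :=
    { carrier := {y | ∀ g ∈ S, y ∈ away C K g}
      mul_mem' := fun hy hy' g hg => mul_mem (hy g hg) (hy' g hg)
      one_mem' := fun g hg => one_mem _
      zero_mem' := fun g hg => zero_mem _
      add_mem' := fun hy hy' g hg => add_mem (hy g hg) (hy' g hg)
      algebraMap_mem' := fun a g hg => (away C K g).algebraMap_mem a }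
  have htf : ∀ {a : A}, a ≠ 0 → ∀ {y : K ⊗[A] C}, a • y = 0 → y = 0 := fun {a} ha {y} hy => by
    rw [← algebraMap_smul K a y] at hy
    exact (smul_eq_zero.1 hy).resolve_left ((map_ne_zero_iff _ (IsFractionRing.injective A K)).2 ha)
  have hlat : ∀ y ∈ B, y ∈ lat (A := A) C K := fun y hy c => mem_intl hd fun g hg hg0 =>
    trace_away (hC g hg) (mul_mem (hy g ⟨hg, hg0⟩) (image_mem_away K g c))
  haveI : Module.Finite A B := by
    obtain ⟨e⟩ := lat_equiv_dual C K (hC g₀ hg₀.1) hg₀.2
    obtain ⟨q, π, hπ⟩ := Module.Finite.exists_fin' A C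
    haveI : Module.Finite A (Module.Dual A C) :=
      Module.Finite.of_injective π.dualMap (LinearMap.dualMap_injective_of_surjective hπ)
    let i : B →ₗ[A] lat (A := A) C K :=
      LinearMap.codRestrict _ B.val.toLinearMap fun y => hlat y.1 y.2
    refine Module.Finite.of_injective (e.toLinearMap.comp i) ?_
    exact e.injective.comp fun y y' h => Subtype.ext (congrArg (fun z => z.1) h)
  let f : C →ₐ[A] B := (Algebra.TensorProduct.includeRight : C →ₐ[A] K ⊗[A] C).codRestrict B
    fun c g _ => image_mem_away K g c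
  have hiso : ∀ g, g ∈ maximalIdeal A → IsoAway (A := A) (C := C) (B := ↥B) f g := fun g hg => by
    by_cases hg0 : g = 0
    · refine ⟨fun b => ⟨1, 0, ?_⟩, fun c _ => ⟨1, ?_⟩⟩
      · rw [hg0, pow_one, map_zero]; exact zero_smul A b
      · rw [hg0, pow_one]; exact zero_smul A c
    refine ⟨fun b => ?_, fun c hc => eq_zero_of_image_eq_zero (hC g hg) (congrArg Subtype.val hc)⟩
    obtain ⟨n, c, hc⟩ := b.2 g ⟨hg, hg0⟩
    exact ⟨n, c, Subtype.ext hc⟩
  let P := pullback (sp A B) (FEt.puncturedSpec A).ι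
  let j : P ⟶ Spec (CommRingCat.of B) := pullback.fst _ _
  let t := fun a : A => res A B (algebraMap A B a)
  have hB' : EtOff A B := fun g hg => (hiso g hg).etale (hC g hg)
  haveI : IsFinite (rest A B) := (prop_rest B hB').1
  haveI : CompactSpace P := QuasiCompact.compactSpace_of_compactSpace (rest A B)
  haveI : QuasiSeparatedSpace P := quasiSeparatedSpace_of_quasiSeparated j
  -- the localizations
  have hloc : ∀ g ∈ maximalIdeal A, (∀ w, ∃ (n : ℕ) (b : B), t g ^ n * w = res A B b) ∧
      ∀ b, res A B b = 0 → ∃ n : ℕ, g ^ n • b = 0 := fun g hg => by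
    let a := (Scheme.ΓSpecIso (CommRingCat.of B)).inv.hom (algebraMap A B g)
    have hbo : (Spec (CommRingCat.of B)).basicOpen a ≤ j.opensRange := by
      rw [show (Spec (CommRingCat.of B)).basicOpen a = PrimeSpectrum.basicOpen (algebraMap A B g) from
        basicOpen_eq_of_affine (R := CommRingCat.of B) (algebraMap A B g)]
      intro q hq
      show q ∈ Set.range j.base
      rw [Scheme.Pullback.range_fst, Scheme.Opens.range_ι]
      intro h
      have h' : PrimeSpectrum.comap (algebraMap A B) q = IsLocalRing.closedPoint A := h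
      exact hq (show g ∈ (PrimeSpectrum.comap (algebraMap A B) q).asIdeal by rw [h']; exact hg)
    have hbij := ConcreteCategory.bijective_of_isIso (Scheme.ΓSpecIso (CommRingCat.of B)).inv
    obtain ⟨h1, h2⟩ := sections_away j a hbo
    refine ⟨fun w => ?_, fun b hb => ?_⟩
    · obtain ⟨n, y, hy⟩ := h1 w
      obtain ⟨y', rfl⟩ := hbij.2 y
      exact ⟨n, y', hy⟩
    · obtain ⟨n, hn⟩ := h2 _ hb
      refine ⟨n, hbij.1 ?_⟩
      show (Scheme.ΓSpecIso (CommRingCat.of B)).inv.hom (g ^ n • b) = (Scheme.ΓSpecIso (CommRingCat.of B)).inv.hom 0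
      rw [Algebra.smul_def, map_mul, map_pow, map_pow, map_zero]
      exact hn
  have hinj : Function.Injective (res A B) := (injective_iff_map_eq_zero _).2 fun b hb => by
    obtain ⟨n, hn⟩ := (hloc g₀ hg₀.1).2 b hb
    exact Subtype.ext (htf (pow_ne_zero n hg₀.2) (congrArg Subtype.val hn))
  -- sections are determined on the cover
  have hsep : ∀ z : Sections A B, (∀ g ∈ maximalIdeal A, ∃ n : ℕ, t g ^ n * z = 0) → z = 0 := fun z hz => by
    refine TopCat.Sheaf.eq_of_locally_eq' P.sheaf
      (fun g : {g : A // g ∈ maximalIdeal A} => P.basicOpen (t g.1)) ⊤ (fun g => homOfLE le_top) ?_ z 0 fun g => ?_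
    · intro x _
      obtain ⟨g, hg, hgy⟩ := exists_mem_max (rest A B x)
      refine TopologicalSpace.Opens.mem_iSup.2 ⟨⟨g, hg⟩, ?_⟩
      show x ∈ P.basicOpen (j.appTop.hom ((Scheme.ΓSpecIso (CommRingCat.of B)).inv.hom (algebraMap A B g)))
      rw [← Scheme.preimage_basicOpen_top, basicOpen_eq_of_affine]
      rw [← Scheme.Hom.comp_apply, ← pullback.condition] at hgy
      exact hgy
    · obtain ⟨n, hn⟩ := hz g.1 g.2
      let r := P.presheaf.map (homOfLE (le_top : P.basicOpen (t g.1) ≤ ⊤)).op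
      show r.hom z = r.hom 0
      have h1 := congrArg r.hom hn
      rw [map_mul, map_pow, map_zero] at h1
      rw [map_zero]
      exact (((RingedSpace.isUnit_res_basicOpen P.toLocallyRingedSpace.toRingedSpace (t g.1))).pow n).mul_right_eq_zero.1 h1
  have hsurj : Function.Surjective (res A B) := fun w => by
    obtain ⟨n₀, b₀, hb₀⟩ := (hloc g₀ hg₀.1).1 w
    have hk : (algebraMap A K (g₀ ^ n₀)) ≠ 0 :=
      (map_ne_zero_iff _ (IsFractionRing.injective A K)).2 (pow_ne_zero _ hg₀.2)
    let y : K ⊗[A] C := (algebraMap A K (g₀ ^ n₀))⁻¹ • (b₀ : K ⊗[A] C)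
    have hy : g₀ ^ n₀ • y = b₀ := by
      rw [← algebraMap_smul K, smul_inv_smul₀ hk]
    have hyB : y ∈ B := fun g hg => by
      obtain ⟨n, b, hb⟩ := (hloc g hg.1).1 w
      have he : g₀ ^ n₀ • b = g ^ n • b₀ := hinj (by
        rw [Algebra.smul_def, Algebra.smul_def, map_mul, map_mul, ← hb, ← hb₀, map_pow, map_pow, map_pow, map_pow]
        ring)
      obtain ⟨m, c, hc⟩ := b.2 g hg
      refine ⟨m + n, c, ?_⟩
      have h1 : g ^ n • y = (b : K ⊗[A] C) := by
        refine sub_eq_zero.1 (htf (pow_ne_zero n₀ hg₀.2) ?_)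
        rw [smul_sub, smul_comm, hy, sub_eq_zero]
        exact (congrArg Subtype.val he).symm
      rw [pow_add, mul_smul, h1, hc]
    refine ⟨⟨y, hyB⟩, sub_eq_zero.1 (hsep _ fun g hg => ?_)⟩
    obtain ⟨n, b, hb⟩ := (hloc g hg).1 w
    refine ⟨n, ?_⟩
    have he : g ^ n • (⟨y, hyB⟩ : B) = b := Subtype.ext (sub_eq_zero.1 (htf (pow_ne_zero n₀ hg₀.2) (by
      show g₀ ^ n₀ • (g ^ n • y - (b : K ⊗[A] C)) = 0
      rw [smul_sub, smul_comm, hy, sub_eq_zero]
      refine congrArg Subtype.val (show g ^ n • b₀ = g₀ ^ n₀ • b from hinj ?_)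
      rw [Algebra.smul_def, Algebra.smul_def, map_mul, map_mul, ← hb, ← hb₀, map_pow, map_pow, map_pow, map_pow]
      ring)))
    rw [mul_sub, hb, ← he, Algebra.smul_def, map_mul, map_pow, map_pow, sub_self]
  refine ⟨B, inferInstance, inferInstance, inferInstance, f, hiso, ⟨hinj, hsurj⟩, fun hfree => ?_⟩
  let bs := Module.Free.chooseBasis A C
  let bK := bs.baseChange K
  have hcoord : ∀ c i, bK.repr ((1 : K) ⊗ₜ[A] c) i = algebraMap A K (bs.repr c i) := fun c i => by
    simp [bK, Algebra.smul_def]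
  refine ⟨(injective_iff_map_eq_zero _).2 fun c hc => ?_, fun y => ?_⟩
  · refine bs.repr.injective (Finsupp.ext fun i => ?_)
    rw [map_zero, Finsupp.zero_apply]
    refine IsFractionRing.injective A K ?_
    rw [← hcoord, show (1 : K) ⊗ₜ[A] c = 0 from congrArg Subtype.val hc, map_zero, map_zero, Finsupp.zero_apply]
  · have h : ∀ i, ∃ a : A, algebraMap A K a = bK.repr y.1 i := fun i => mem_intl hd fun g hg hg0 => by
      obtain ⟨n, c, hc⟩ := y.2 g ⟨hg, hg0⟩
      refine ⟨n, bs.repr c i, ?_⟩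
      rw [Algebra.linearMap_apply, ← hcoord, ← hc, ← algebraMap_smul K (g ^ n) (y : K ⊗[A] C), map_smul,
        Finsupp.smul_apply, algebraMap_smul]
    choose a ha using h
    haveI : Fintype (Module.Free.ChooseBasisIndex A C) := inferInstance
    refine ⟨∑ i, a i • bs i, Subtype.ext (bK.repr.injective (Finsupp.ext fun i => ?_))⟩
    show bK.repr ((1 : K) ⊗ₜ[A] ∑ i, a i • bs i) i = _
    rw [hcoord, ← ha, map_sum]
    congr 1
    simp [Finsupp.single_apply]

end Groth.Agent.Pi1Ext.NormalSections
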