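import Groth.Agent.SGA1Q.Orbits
import Groth.Agent.SGA1Q.Properties
import Groth.Agent.S5137
import Groth.Agent.S2909
import Groth.Agent.S5062
import Groth.Agent.S0537
import Groth.Agent.S0539
import Groth.Agent.EtFound.SectionUnr
import Groth.Agent.Triage.CMMor
import Groth.Agent.SrcDescent.Scheme
import Groth.Agent.SteinConn.Basic

/-!
# Quotients of étale separated schemes by finite groups are étale
-/

set_option linter.style.haveILetI false
set_option backward.isDefEq.respectTransparency false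
set_option backward.isDefEq.respectTransparency.types false

universe u

open CategoryTheory CategoryTheory.Limits AlgebraicGeometry TopologicalSpace

noncomputable section

namespace Groth.Agent.Pi1Ext.QuotEtale

open Groth.Agent SGA1Q

variable {G : Type u} [Group G] [Finite G]

/-- Over a strictly henselian ring the quotient map is flat around a point of the closed fibre. -/
theorem exists_open_flat {A : Type u} [CommRing A] [HenselianLocalRing A]
    [IsSepClosed (IsLocalRing.ResidueField A)] {X X' : Scheme.{u}} (ρ : G →* Aut X)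
    (f : X ⟶ Spec (CommRingCat.of A)) [Etale f] [IsSeparated f] (hρ : ∀ g : G, (ρ g).hom ≫ f = f)
    (p : X ⟶ X') (hp : SGA1.IsQuot ρ p) (q : X' ⟶ Spec (CommRingCat.of A)) (hq : p ≫ q = f)
    (x : X) (hx : f x = IsLocalRing.closedPoint A) : ∃ O : X.Opens, x ∈ O ∧ Flat (O.ι ≫ p) := by
  obtain ⟨σ, hσ, hσx⟩ := (Groth.Agent.S5062.result A).1 ⟨‹_›, ‹_›⟩ X f ‹_› x hx
  haveI : IsOpenImmersion σ := EtFound.isOpenImmersion_section f σ hσ
  let σg : G → (Spec (CommRingCat.of A) ⟶ X) := fun g => σ ≫ (ρ g).hom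
  haveI : ∀ g, IsOpenImmersion (σg g) := fun g => inferInstanceAs (IsOpenImmersion (_ ≫ _))
  let s := σ ≫ p
  have hs : s ≫ q = 𝟙 _ := by rw [Category.assoc, hq, hσ]
  have hsg : ∀ g, σg g ≫ p = s := fun g => by rw [Category.assoc, hp.inv g]
  haveI : IsSeparated q := ((Groth.Agent.S2909.result ρ p hp f q hq hρ).2.1).1 ‹_›
  haveI : IsClosedImmersion s := by
    haveI : IsClosedImmersion (s ≫ q) := by rw [hs]; infer_instance
    exact IsClosedImmersion.of_comp s q
  have hpre : p ⁻¹' Set.range s = ⋃ g, Set.range (σg g) := by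
    ext z
    simp only [Set.mem_preimage, Set.mem_range, Set.mem_iUnion]
    constructor
    · rintro ⟨a, ha⟩
      obtain ⟨g, hg⟩ := (orbit_iff hp (σ a) z).1 (by rw [← Scheme.Hom.comp_apply]; exact ha)
      exact ⟨g, a, by rw [Scheme.Hom.comp_apply]; exact hg⟩
    · rintro ⟨g, a, rfl⟩
      exact ⟨a, by rw [← Scheme.Hom.comp_apply (σg g) p, hsg]⟩
  have hopen : IsOpen (Set.range s) := by
    rw [← (isQuotientMap hp).isOpen_preimage, hpre]
    exact isOpen_iUnion fun g => (σg g).isOpenEmbedding.isOpen_range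
  let W : X'.Opens := ⟨Set.range s, hopen⟩
  let s' : Spec (CommRingCat.of A) ⟶ (W : Scheme.{u}) :=
    IsOpenImmersion.lift W.ι s (by rw [Scheme.Opens.range_ι]; rfl)
  have hs' : s' ≫ W.ι = s := IsOpenImmersion.lift_fac _ _ _
  have hstab : ∀ g, p ⁻¹ᵁ W ≤ (ρ g).hom ⁻¹ᵁ (p ⁻¹ᵁ W) := fun g =>
    SGA1.preimage_le_of_inv ρ p hp.inv g W
  have hW : SGA1.IsQuot (restrictAction ρ (p ⁻¹ᵁ W) hstab) (p ∣_ W) :=
    isQuot_morphismRestrict hp W _ (restrictAction_hom_ι ρ (p ⁻¹ᵁ W) hstab)
  have hW1 : W.ι ≫ q ≫ s = W.ι := by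
    refine (desc_existsUnique_isQuot hW ((p ⁻¹ᵁ W).ι ≫ p) fun g => ?_).unique ?_
      (morphismRestrict_ι p W)
    · rw [reassoc_of% restrictAction_hom_ι ρ (p ⁻¹ᵁ W) hstab g, hp.inv g]
    · rw [reassoc_of% (morphismRestrict_ι p W), reassoc_of% hq]
      let 𝒪 := p ⁻¹ᵁ W
      refine Scheme.hom_ext_of_forall _ _ fun z => ?_
      obtain ⟨g, a, ha⟩ : ∃ g, 𝒪.ι z ∈ Set.range (σg g) :=
        Set.mem_iUnion.1 (hpre.le (show p (𝒪.ι z) ∈ Set.range s from z.2))
      let τ : Spec (CommRingCat.of A) ⟶ (𝒪 : Scheme.{u}) := IsOpenImmersion.lift 𝒪.ι (σg g) (by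
        rw [Scheme.Opens.range_ι]
        rintro _ ⟨b, rfl⟩
        exact (hpre.ge (Set.mem_iUnion.2 ⟨g, b, rfl⟩) : _))
      have hτ : τ ≫ 𝒪.ι = σg g := IsOpenImmersion.lift_fac _ _ _
      haveI : IsOpenImmersion (τ ≫ 𝒪.ι) := by rw [hτ]; infer_instance
      haveI : IsOpenImmersion τ := IsOpenImmersion.of_comp τ 𝒪.ι
      refine ⟨τ.opensRange, ⟨a, 𝒪.ι.isOpenEmbedding.injective (by rw [← Scheme.Hom.comp_apply, hτ, ha])⟩, ?_⟩
      rw [← cancel_epi (τ.isoOpensRange).hom, ← Category.assoc (τ.isoOpensRange).hom,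
        ← Category.assoc (τ.isoOpensRange).hom, Scheme.Hom.isoOpensRange_hom_ι, ← Category.assoc τ,
        ← Category.assoc τ, hτ, ← Category.assoc (σg g) f, show σg g ≫ f = 𝟙 _ by
          rw [Category.assoc, hρ, hσ], Category.id_comp, hsg]
  haveI : IsIso s' := by
    refine ⟨W.ι ≫ q, ?_, ?_⟩
    · rw [← Category.assoc, hs', hs]
    · rw [← cancel_mono W.ι, Category.assoc, Category.assoc, hs', hW1, Category.id_comp]
  haveI : IsOpenImmersion s := by rw [← hs']; infer_instance
  refine ⟨σ.opensRange, ⟨_, hσx⟩, ?_⟩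
  have : (σ.isoOpensRange).inv ≫ s = σ.opensRange.ι ≫ p := by
    rw [Iso.inv_comp_eq, ← Category.assoc, Scheme.Hom.isoOpensRange_hom_ι]
  rw [← this]
  infer_instance

/-- The quotient map of an étale separated scheme is flat. -/
theorem flat_quotMap {X X' Y : Scheme.{u}} (ρ : G →* Aut X) (f : X ⟶ Y) [Etale f] [IsSeparated f]
    (hρ : ∀ g : G, (ρ g).hom ≫ f = f) (p : X ⟶ X') (hp : SGA1.IsQuot ρ p) (q : X' ⟶ Y) (hq : p ≫ q = f) :
    Flat p := by
  refine Flat.of_stalkMap p fun z => ?_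
  let R := Y.presheaf.stalk (f z)
  obtain ⟨S, _, _, _, _, hS⟩ := Groth.Agent.S0537.result R
  haveI := hS
  haveI := hS.henselian
  haveI := hS.isSepClosure
  haveI : IsSepClosed (IsLocalRing.ResidueField S) :=
    IsSepClosure.sep_closed (IsLocalRing.ResidueField R)
  haveI : Module.FaithfullyFlat R S := Groth.Agent.S0539.result R S
  haveI : Flat (Spec.map (CommRingCat.ofHom (algebraMap R S))) :=
    (HasRingHomProperty.Spec_iff (P := @Flat)).mpr (RingHom.flat_algebraMap_iff.mpr inferInstance)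
  haveI : Flat (Y.fromSpecStalk (f z)) := GrpSchLib.flat_fromSpecStalk (f z)
  let b : Spec (CommRingCat.of S) ⟶ Y :=
    Spec.map (CommRingCat.ofHom (algebraMap R S)) ≫ Y.fromSpecStalk (f z)
  haveI : Flat b := inferInstanceAs (Flat (_ ≫ _))
  have hb : b (IsLocalRing.closedPoint S) = f z := by
    rw [Scheme.Hom.comp_apply]
    have h1 : Spec.map (CommRingCat.ofHom (algebraMap R S)) (IsLocalRing.closedPoint S) =
        IsLocalRing.closedPoint R := IsLocalRing.comap_closedPoint (algebraMap R S)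
    rw [h1]
    exact Scheme.fromSpecStalk_closedPoint
  -- base change
  let qY := pullback.fst q b
  let bY := pullback.snd q b
  let XA := pullback p qY
  let pX : XA ⟶ X := pullback.fst p qY
  let pA : XA ⟶ pullback q b := pullback.snd p qY
  let mk : G → (XA ⟶ XA) := fun g => pullback.lift (pX ≫ (ρ g).hom) pA (by
    rw [Category.assoc, hp.inv g]; exact pullback.condition)
  have hmk1 : mk 1 = 𝟙 _ := pullback.hom_ext (by simp [mk, pX, show Iso.hom (1 : Aut X) = 𝟙 X from rfl]) (by simp [mk, pA])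
  have hmkm : ∀ g g', mk (g * g') = mk g' ≫ mk g := fun g g' =>
    pullback.hom_ext (by simp [mk, pX, show (ρ g * ρ g').hom = (ρ g').hom ≫ (ρ g).hom from rfl]) (by simp [mk, pA])
  let ρ' : G →* Aut XA :=
    { toFun := fun g =>
        { hom := mk g
          inv := mk g⁻¹
          hom_inv_id := by rw [← hmkm, inv_mul_cancel, hmk1]
          inv_hom_id := by rw [← hmkm, mul_inv_cancel, hmk1] }
      map_one' := Iso.ext hmk1
      map_mul' := fun g g' => Iso.ext (hmkm g g') }
  have hpA : SGA1.IsQuot ρ' pA := Groth.Agent.S5137.result ρ p hp q b qY bY (IsPullback.of_hasPullback q b)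
    pX pA (IsPullback.of_hasPullback p qY) ρ' (fun g => pullback.lift_fst _ _ _) (fun g => pullback.lift_snd _ _ _)
  let fA : XA ⟶ Spec (CommRingCat.of S) := pA ≫ bY
  have hfA : IsPullback pX fA f b := by
    have := (IsPullback.of_hasPullback p qY).paste_vert (IsPullback.of_hasPullback q b)
    rwa [hq] at this
  haveI : Etale fA := MorphismProperty.of_isPullback hfA ‹Etale f›
  haveI : IsSeparated fA := MorphismProperty.of_isPullback hfA ‹IsSeparated f›
  obtain ⟨c, hc1, hc2⟩ := Scheme.Pullback.exists_preimage_pullback (f := f) (g := b) z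
    (IsLocalRing.closedPoint S) hb.symm
  let z' : XA := hfA.isoPullback.inv c
  have hz1 : pX z' = z := by
    rw [← Scheme.Hom.comp_apply, hfA.isoPullback_inv_fst]; exact hc1
  have hz2 : fA z' = IsLocalRing.closedPoint S := by
    rw [← Scheme.Hom.comp_apply, hfA.isoPullback_inv_snd]; exact hc2
  obtain ⟨O, hzO, hO⟩ := exists_open_flat ρ' fA
    (fun g => (pullback.lift_snd_assoc (f := p) (g := qY) _ _ _ bY : mk g ≫ pA ≫ bY = pA ≫ bY)) pA hpA bY rfl z' hz2
  haveI := hO
  haveI : Flat qY := MorphismProperty.pullback_fst q b inferInstance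
  haveI : Flat pX := MorphismProperty.pullback_fst p qY inferInstance
  let a : (O : Scheme.{u}) ⟶ X := O.ι ≫ pX
  haveI : Flat a := inferInstanceAs (Flat (_ ≫ _))
  haveI hap : Flat (a ≫ p) := by
    rw [show a ≫ p = (O.ι ≫ pA) ≫ qY by
      simp only [a, Category.assoc]; exact congrArg (O.ι ≫ ·) pullback.condition]
    infer_instance
  have ha : a ⟨z', hzO⟩ = z := hz1
  have h := Flat.stalkMap (a ≫ p) ⟨z', hzO⟩
  rw [Scheme.Hom.stalkMap_comp] at h
  have h2 := Triage.CMMor.flat_of_comp (p.stalkMap (a ⟨z', hzO⟩)).hom (a.stalkMap ⟨z', hzO⟩).hom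
    (Flat.stalkMap a _) h
  rw [ha] at h2
  exact h2

/-- Quotients of étale separated schemes by finite groups are étale. -/
theorem etale_quot {X X' Y : Scheme.{u}} (ρ : G →* Aut X) [IsLocallyNoetherian Y] (f : X ⟶ Y) [Etale f]
    [IsSeparated f] [QuasiCompact f] (hρ : ∀ g : G, (ρ g).hom ≫ f = f) (p : X ⟶ X') (hp : SGA1.IsQuot ρ p)
    (q : X' ⟶ Y) (hq : p ≫ q = f) : Etale p ∧ Etale q ∧ (IsFinite f → IsFinite q) := by
  obtain ⟨h1, h2, h3, h4⟩ := Groth.Agent.S2909.result ρ p hp f q hq hρ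
  haveI : IsFinite p := h3 inferInstance
  obtain ⟨hq1, hq2⟩ := h4 ‹_› inferInstance ‹_›
  haveI := hq1
  haveI : IsLocallyNoetherian X' := LocallyOfFiniteType.isLocallyNoetherian q
  haveI := flat_quotMap ρ f hρ p hp q hq
  haveI : FormallyUnramified p := by
    haveI : FormallyUnramified (p ≫ q) := by rw [hq]; infer_instance
    exact FormallyUnramified.of_comp p q
  haveI : LocallyOfFinitePresentation p := inferInstance
  haveI hpe : Etale p := Etale.of_formallyUnramified_of_flat p
  haveI : Surjective p := ⟨surjective hp⟩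
  haveI hqe : Etale q := SrcDescent.etale_of_etale_comp p q (by rw [hq]; infer_instance)
  refine ⟨hpe, hqe, fun hf => ?_⟩
  haveI : IsAffineHom q := h1.1 inferInstance
  haveI : UniversallyClosed (p ≫ q) := by rw [hq]; infer_instance
  haveI : UniversallyClosed q := UniversallyClosed.of_comp_surjective p q
  rw [IsFinite.iff_isProper_and_isAffineHom]
  exact ⟨{}, inferInstance⟩

end Groth.Agent.Pi1Ext.QuotEtale
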