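import Groth.Agent.TraceEtale.Basic
import Mathlib.RingTheory.Etale.Locus
import Mathlib.RingTheory.LocalRing.Module
import Mathlib.RingTheory.Localization.FractionRing

/-!
The trace dual of a finite algebra over a domain, étale away from a closed set of codimension two.
-/

set_option autoImplicit false
universe u

open TensorProduct

namespace Groth.Agent.Pi1Ext.RegPurity

noncomputable section

variable (A : Type u) [CommRing A] (C : Type u) [CommRing C] [Algebra A C]

/-- `C` is étale over `A` away from the zeros of `g`. -/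
def EtAway (g : A) : Prop := Algebra.Etale A (Localization.Away (algebraMap A C g))

/-- `h`, `k` form a regular pair. -/
def RegPair (h k : A) : Prop := h ≠ 0 ∧ ∀ z : A, h ∣ k * z → h ∣ z

variable {A C}

theorem etale_tensor_of_etAway {g : A} (hg : EtAway A C g) (R : Type u) [CommRing R] [Algebra A R]
    (hu : IsUnit (algebraMap A R g)) : Algebra.Etale R (R ⊗[A] C) := by
  haveI : Algebra.Etale A (Localization.Away (algebraMap A C g)) := hg
  let Cg := Localization.Away (algebraMap A C g)
  have huC : ∀ y : Submonoid.powers (algebraMap A C g),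
      IsUnit ((Algebra.TensorProduct.includeRight : C →ₐ[A] R ⊗[A] C) y) := by
    rintro ⟨_, n, rfl⟩
    simp only [map_pow]
    refine IsUnit.pow _ ?_
    rw [AlgHom.commutes, Algebra.TensorProduct.algebraMap_apply]
    exact hu.map (Algebra.TensorProduct.includeLeft (R := A) (S := A) (A := R) (B := C))
  let l : Cg →ₐ[A] R ⊗[A] C := IsLocalization.liftAlgHom (f := Algebra.TensorProduct.includeRight) huC
  have hl : ∀ c, l (algebraMap C Cg c) = (1 : R) ⊗ₜ[A] c := fun c => IsLocalization.lift_eq _ c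
  have hal : ∀ c, Algebra.algHom A C Cg c = algebraMap C Cg c := fun _ => rfl
  have hal' : ∀ c, IsScalarTower.toAlgHom A C Cg c = algebraMap C Cg c := fun _ => rfl
  let fwd : R ⊗[A] C →ₐ[R] R ⊗[A] Cg :=
    Algebra.TensorProduct.map (AlgHom.id R R) (IsScalarTower.toAlgHom A C Cg)
  let bwd : R ⊗[A] Cg →ₐ[R] R ⊗[A] C :=
    Algebra.TensorProduct.lift (Algebra.ofId R _) l fun _ _ => Commute.all _ _
  have h1 : bwd.comp fwd = AlgHom.id R _ := by
    ext c
    simp only [AlgHom.comp_apply, AlgHom.coe_restrictScalars', fwd, bwd, AlgHom.id_apply, hal, hal', Algebra.TensorProduct.map_tmul, Algebra.TensorProduct.lift_tmul, Algebra.TensorProduct.includeRight_apply, map_one, one_mul, hl]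
  have h2 : fwd.comp bwd = AlgHom.id R _ := by
    refine Algebra.TensorProduct.ext_ring (AlgHom.ext fun z => ?_)
    refine DFunLike.congr_fun (IsLocalization.algHom_ext (Submonoid.powers (algebraMap A C g))
      (f := ((fwd.comp bwd).restrictScalars A).comp Algebra.TensorProduct.includeRight)
      (g := ((AlgHom.id R (R ⊗[A] Cg)).restrictScalars A).comp Algebra.TensorProduct.includeRight) ?_) z
    ext c
    simp only [AlgHom.comp_apply, AlgHom.coe_restrictScalars', fwd, bwd, AlgHom.id_apply, hal, hal', Algebra.TensorProduct.map_tmul, Algebra.TensorProduct.lift_tmul, Algebra.TensorProduct.includeRight_apply, map_one, one_mul, hl]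
  exact Algebra.Etale.of_equiv (AlgEquiv.ofAlgHom bwd fwd h1 h2)

variable [IsDomain A] (K : Type u) [Field K] [Algebra A K] [IsFractionRing A K]

theorem etale_fraction {g : A} (hg : EtAway A C g) (hg0 : g ≠ 0) : Algebra.Etale K (K ⊗[A] C) :=
  etale_tensor_of_etAway hg K
    (IsUnit.mk0 _ ((map_ne_zero_iff _ (IsFractionRing.injective A K)).2 hg0))

variable [Module.Finite A C]

variable (A) in
/-- The elements of `A` inside `K`. -/
def intl : Submodule A K := LinearMap.range (Algebra.linearMap A K)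

variable (C) in
/-- The trace pairing with `C`. -/
def trPair : K ⊗[A] C →ₗ[A] C →ₗ[A] K where
  toFun y := ((Algebra.trace K (K ⊗[A] C)).restrictScalars A).comp
    ((LinearMap.mul A (K ⊗[A] C) y).comp (Algebra.TensorProduct.includeRight : C →ₐ[A] K ⊗[A] C).toLinearMap)
  map_add' y y' := by ext c; simp [add_mul]
  map_smul' a y := by ext c; simp

theorem trPair_apply (y : K ⊗[A] C) (c : C) :
    trPair C K y c = Algebra.trace K (K ⊗[A] C) (y * ((1 : K) ⊗ₜ[A] c)) := rfl

variable (C) in
/-- The trace dual of `C`. -/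
def lat : Submodule A (K ⊗[A] C) where
  carrier := {y | ∀ c, trPair C K y c ∈ intl A K}
  add_mem' hy hy' c := by rw [map_add, LinearMap.add_apply]; exact add_mem (hy c) (hy' c)
  zero_mem' c := by simp
  smul_mem' a y hy c := by rw [map_smul, LinearMap.smul_apply]; exact Submodule.smul_mem _ a (hy c)

variable (C) in
/-- The elements of the form `c / g ^ n`. -/
def away (g : A) : Subalgebra A (K ⊗[A] C) where
  carrier := {y | ∃ (n : ℕ) (c : C), g ^ n • y = (1 : K) ⊗ₜ[A] c}
  mul_mem' := by
    rintro y y' ⟨n, c, hy⟩ ⟨n', c', hy'⟩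
    refine ⟨n + n', c * c', ?_⟩
    rw [pow_add, ← smul_mul_smul_comm, hy, hy', Algebra.TensorProduct.tmul_mul_tmul, one_mul]
  add_mem' := by
    rintro y y' ⟨n, c, hy⟩ ⟨n', c', hy'⟩
    refine ⟨n + n', g ^ n' • c + g ^ n • c', ?_⟩
    rw [smul_add, TensorProduct.tmul_add, TensorProduct.tmul_smul, TensorProduct.tmul_smul, ← hy, ← hy',
      smul_smul, smul_smul, pow_add, mul_comm (g ^ n)]
  algebraMap_mem' a := ⟨0, algebraMap A C a, by
    rw [pow_zero, one_smul, Algebra.TensorProduct.algebraMap_apply, Algebra.algebraMap_eq_smul_one,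
      Algebra.algebraMap_eq_smul_one (A := C), TensorProduct.tmul_smul, TensorProduct.smul_tmul']⟩

theorem image_mem_away (g : A) (c : C) : (1 : K) ⊗ₜ[A] c ∈ away C K g :=
  ⟨0, c, by rw [pow_zero, one_smul]⟩

theorem mem_radical_of_forall_prime {J : Ideal A} {g : A}
    (h : ∀ p : Ideal A, p.IsPrime → g ∉ p → ∃ s, s ∉ p ∧ s ∈ J) : ∃ n : ℕ, g ^ n ∈ J := by
  have : g ∈ J.radical := by
    rw [Ideal.radical_eq_sInf, Ideal.mem_sInf]
    rintro p ⟨hJp, hp⟩
    by_contra hgp
    obtain ⟨s, hs, hsJ⟩ := h p hp hgp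
    exact hs (hJp hsJ)
  exact this

section Local

/-- The local structure of `C` at a prime where it is étale. -/
theorem local_main {g : A} (hg : EtAway A C g) (p : Ideal A) [p.IsPrime] (hgp : g ∉ p) :
    (∀ y : K ⊗[A] C, (∀ c, ∃ s, s ∉ p ∧ s • trPair C K y c ∈ intl A K) →
      ∃ (s : A) (c : C), s ∉ p ∧ s • y = (1 : K) ⊗ₜ[A] c) ∧
    (∀ c : C, ∃ s, s ∉ p ∧ s • Algebra.trace K (K ⊗[A] C) ((1 : K) ⊗ₜ[A] c) ∈ intl A K) ∧
    (∀ c : C, (1 : K) ⊗ₜ[A] c = 0 → ∃ s, s ∉ p ∧ s • c = 0) := by
  classical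
  let R := Localization.AtPrime p
  haveI hEK : Algebra.Etale K (K ⊗[A] C) := etale_fraction K hg fun h0 => hgp (h0 ▸ p.zero_mem)
  haveI hER : Algebra.Etale R (R ⊗[A] C) :=
    etale_tensor_of_etAway hg R (IsLocalization.map_units R (⟨g, hgp⟩ : p.primeCompl))
  haveI : Module.Free R (R ⊗[A] C) := Module.free_of_flat_of_isLocalRing
  let ρ : R →ₐ[A] K := IsLocalization.liftAlgHom (M := p.primeCompl) (f := Algebra.ofId A K) fun y =>
    IsUnit.mk0 _ ((map_ne_zero_iff _ (IsFractionRing.injective A K)).2 fun h0 => y.2 (by rw [h0]; exact p.zero_mem))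
  letI : Algebra R K := ρ.toRingHom.toAlgebra
  haveI : IsScalarTower A R K := IsScalarTower.of_algebraMap_eq fun a => (ρ.commutes a).symm
  let j : R ⊗[A] C →ₐ[A] K ⊗[A] C := Algebra.TensorProduct.map ρ (AlgHom.id A C)
  let jl : R ⊗[A] C →ₗ[R] K ⊗[A] C :=
    { toFun := j
      map_add' := map_add j
      map_smul' := fun r z => by
        show j (r • z) = r • j z
        rw [Algebra.smul_def r z, map_mul, Algebra.smul_def r (j z)]
        congr 1 }
  have hjbc : IsBaseChange K jl := by
    refine IsBaseChange.of_comp (TensorProduct.isBaseChange A C R) ?_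
    convert TensorProduct.isBaseChange A C K using 1
    ext c
    simp [jl, j]
  let b := Module.Free.chooseBasis R (R ⊗[A] C)
  let bK := (b.baseChange K).map hjbc.equiv
  have hbK : ∀ i, bK i = j (b i) := fun i => by
    simp only [bK, Module.Basis.map_apply, Module.Basis.baseChange_apply, IsBaseChange.equiv_tmul, one_smul]
    rfl
  have hrepr : ∀ z i, bK.repr (j z) i = algebraMap R K (b.repr z i) := fun z i => by
    have : hjbc.equiv.symm (j z) = (1 : K) ⊗ₜ[R] z := by
      rw [LinearEquiv.symm_apply_eq, IsBaseChange.equiv_tmul, one_smul]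
      rfl
    simp [bK, this, Algebra.smul_def]
  have htr : ∀ z, Algebra.trace K (K ⊗[A] C) (j z) = algebraMap R K (Algebra.trace R (R ⊗[A] C) z) := by
    intro z
    rw [Algebra.trace_eq_matrix_trace bK, Algebra.trace_eq_matrix_trace b, Matrix.trace, Matrix.trace, map_sum]
    refine Finset.sum_congr rfl fun i _ => ?_
    rw [Matrix.diag_apply, Matrix.diag_apply, Algebra.leftMulMatrix_eq_repr_mul,
      Algebra.leftMulMatrix_eq_repr_mul, hbK, ← map_mul, hrepr]
  have hR : ∀ r : R, ∃ s, s ∉ p ∧ s • algebraMap R K r ∈ intl A K := fun r => by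
    obtain ⟨a, s, hr⟩ := IsLocalization.exists_mk'_eq p.primeCompl r
    refine ⟨s, s.2, a, ?_⟩
    rw [← hr, Algebra.linearMap_apply, Algebra.smul_def, IsScalarTower.algebraMap_apply A R K,
      IsScalarTower.algebraMap_apply A R K (s : A), ← map_mul, IsLocalization.mk'_spec']
  have hden : ∀ z, ∃ (s : A) (c : C), s ∉ p ∧ s • j z = (1 : K) ⊗ₜ[A] c := fun z => by
    induction z using TensorProduct.induction_on with
    | zero => exact ⟨1, 0, fun h => Ideal.IsPrime.ne_top ‹_› ((Ideal.eq_top_iff_one _).2 h), by simp⟩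
    | tmul r c =>
      obtain ⟨a, s, hr⟩ := IsLocalization.exists_mk'_eq p.primeCompl r
      refine ⟨s, a • c, s.2, ?_⟩
      rw [← map_smul, TensorProduct.smul_tmul', Algebra.smul_def, ← hr, IsLocalization.mk'_spec']
      show (ρ (algebraMap A R a)) ⊗ₜ[A] c = _
      rw [AlgHom.commutes, Algebra.algebraMap_eq_smul_one, TensorProduct.smul_tmul]
    | add z z' hz hz' =>
      obtain ⟨s, c, hs, hc⟩ := hz
      obtain ⟨s', c', hs', hc'⟩ := hz'
      refine ⟨s * s', s' • c + s • c', fun h => ((Ideal.IsPrime.mem_or_mem ‹_› h)).elim hs hs', ?_⟩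
      rw [map_add, smul_add, TensorProduct.tmul_add, TensorProduct.tmul_smul, TensorProduct.tmul_smul,
        ← hc, ← hc', smul_smul, smul_smul, mul_comm s]
  refine ⟨fun y hy => ?_, fun c => ?_, fun c hc => ?_⟩
  · have hy' : ∀ z, ∃ r : R, algebraMap R K r = Algebra.trace K (K ⊗[A] C) (y * j z) := fun z => by
      obtain ⟨s, c, hs, hc⟩ := hden z
      obtain ⟨s', hs', a, ha⟩ := hy c
      have hmem : s * s' ∈ p.primeCompl := fun h => ((Ideal.IsPrime.mem_or_mem ‹_› h)).elim hs hs'
      refine ⟨IsLocalization.mk' R a ⟨s * s', hmem⟩, ?_⟩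
      have hne : algebraMap A K (s * s') ≠ 0 :=
        (map_ne_zero_iff _ (IsFractionRing.injective A K)).2 fun h0 => hmem (by rw [h0]; exact p.zero_mem)
      refine mul_left_cancel₀ hne ?_
      rw [IsScalarTower.algebraMap_apply A R K, ← map_mul, IsLocalization.mk'_spec' R a ⟨s * s', hmem⟩,
        ← IsScalarTower.algebraMap_apply, ← IsScalarTower.algebraMap_apply, ← Algebra.linearMap_apply, ha,
        trPair_apply, ← hc, mul_smul_comm, LinearMap.map_smul_of_tower, smul_smul, Algebra.smul_def, mul_comm s]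
    choose v hv using hy'
    obtain ⟨z, hz⟩ := ((TraceEtale.etale_iff_bijective_traceForm R (R ⊗[A] C)).1 hER).2
      (b.constr R fun i => v (b i))
    have h0 : y - j z = 0 := by
      refine ((TraceEtale.etale_iff_bijective_traceForm K (K ⊗[A] C)).1 hEK).1 (bK.ext fun i => ?_)
      simp only [map_zero, LinearMap.zero_apply, Algebra.traceForm_apply, hbK]
      rw [sub_mul, map_sub, ← hv (b i), ← map_mul, htr, sub_eq_zero]
      congr 1
      have := LinearMap.congr_fun hz (b i)
      rw [Module.Basis.constr_basis, Algebra.traceForm_apply] at this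
      exact this.symm
    obtain ⟨s, c, hs, hc⟩ := hden z
    exact ⟨s, c, hs, by rw [sub_eq_zero.1 h0, hc]⟩
  · have hj1 : (1 : K) ⊗ₜ[A] c = j ((1 : R) ⊗ₜ[A] c) := by simp [j]
    rw [hj1, htr]
    exact hR _
  · have hz : ((1 : R) ⊗ₜ[A] c) = 0 := by
      refine b.repr.injective (Finsupp.ext fun i => ?_)
      have h1 := hrepr ((1 : R) ⊗ₜ[A] c) i
      rw [show j ((1 : R) ⊗ₜ[A] c) = 0 by simpa [j] using hc, map_zero, Finsupp.zero_apply] at h1
      have hinj : Function.Injective (algebraMap R K) := by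
        refine (IsLocalization.lift_injective_iff _).2 fun a a' => ?_
        constructor
        · intro h
          show algebraMap A K a = algebraMap A K a'
          exact congrArg _ ((IsLocalization.injective R p.primeCompl_le_nonZeroDivisors) h)
        · intro h
          exact congrArg _ (IsFractionRing.injective A K (show algebraMap A K a = algebraMap A K a' from h))
      rw [map_zero, Finsupp.zero_apply]
      exact hinj (h1.symm.trans (map_zero _).symm)
    haveI : IsLocalizedModule p.primeCompl (TensorProduct.mk A R C 1) :=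
      (isLocalizedModule_iff_isBaseChange p.primeCompl R _).2 (TensorProduct.isBaseChange A C R)
    obtain ⟨s, hs⟩ := (IsLocalizedModule.eq_zero_iff p.primeCompl (TensorProduct.mk A R C 1)).1 hz
    exact ⟨s, s.2, hs⟩

end Local

variable {K}

/-- An element all whose traces are integral away from `g` has a denominator a power of `g`. -/
theorem mem_away_of_trace {g : A} (hg : EtAway A C g) {y : K ⊗[A] C}
    (hy : ∀ c, ∃ n : ℕ, g ^ n • trPair C K y c ∈ intl A K) : y ∈ away C K g := by
  let J : Ideal A := Submodule.comap (LinearMap.toSpanSingleton A _ y)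
    (LinearMap.range (Algebra.TensorProduct.includeRight : C →ₐ[A] K ⊗[A] C).toLinearMap)
  obtain ⟨n, c, hc⟩ := mem_radical_of_forall_prime (J := J) (g := g) fun p hp hgp => by
    obtain ⟨s, c, hs, hc⟩ := (local_main K hg p hgp).1 y fun c => by
      obtain ⟨n, hn⟩ := hy c
      exact ⟨g ^ n, fun h => hgp (hp.mem_of_pow_mem n h), hn⟩
    exact ⟨s, hs, c, hc.symm⟩
  exact ⟨n, c, hc.symm⟩

theorem mem_away_of_mem_lat {g : A} (hg : EtAway A C g) {y : K ⊗[A] C} (hy : y ∈ lat C K) :
    y ∈ away C K g :=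
  mem_away_of_trace hg fun c => ⟨0, by rw [pow_zero, one_smul]; exact hy c⟩

theorem trace_away {g : A} (hg : EtAway A C g) {y : K ⊗[A] C} (hy : y ∈ away C K g) :
    ∃ n : ℕ, g ^ n • Algebra.trace K (K ⊗[A] C) y ∈ intl A K := by
  obtain ⟨n, c, hc⟩ := hy
  let J : Ideal A := Submodule.comap
    (LinearMap.toSpanSingleton A K (Algebra.trace K (K ⊗[A] C) ((1 : K) ⊗ₜ[A] c))) (intl A K)
  obtain ⟨m, hm⟩ := mem_radical_of_forall_prime (J := J) (g := g) fun p hp hgp => by
    obtain ⟨s, hs, hs'⟩ := (local_main K hg p hgp).2.1 c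
    exact ⟨s, hs, hs'⟩
  refine ⟨m + n, ?_⟩
  rw [pow_add, ← smul_smul, ← LinearMap.map_smul_of_tower, hc]
  exact hm

theorem eq_zero_of_image_eq_zero {g : A} (hg : EtAway A C g) {c : C} (hc : (1 : K) ⊗ₜ[A] c = 0) :
    ∃ n : ℕ, g ^ n • c = 0 := by
  let J : Ideal A := Submodule.comap (LinearMap.toSpanSingleton A C c) ⊥
  obtain ⟨m, hm⟩ := mem_radical_of_forall_prime (J := J) (g := g) fun p hp hgp => by
    obtain ⟨s, hs, hs'⟩ := (local_main K hg p hgp).2.2 c hc
    exact ⟨s, hs, hs'⟩
  exact ⟨m, hm⟩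

theorem RegPair.pow_dvd {h k : A} (hr : RegPair A h k) {z : A} {a b : ℕ} (hz : h ^ a ∣ k ^ b * z) :
    h ^ a ∣ z := by
  have h1 : ∀ (b : ℕ) (z : A), h ∣ k ^ b * z → h ∣ z := fun b => by
    induction b with
    | zero => simp
    | succ b ih => exact fun z hz => hr.2 z (ih _ (by rwa [← mul_assoc, ← pow_succ]))
  induction a generalizing z with
  | zero => simp
  | succ a ih =>
    obtain ⟨w, rfl⟩ := ih ((pow_dvd_pow h (Nat.le_succ a)).trans hz)
    rw [pow_succ, mul_left_comm, mul_dvd_mul_iff_left (pow_ne_zero a hr.1)] at hz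
    rw [pow_succ]
    exact mul_dvd_mul_left _ (h1 b w hz)

theorem mem_intl_of_pair {h k : A} (hr : RegPair A h k) {z : K} {a b : ℕ}
    (ha : h ^ a • z ∈ intl A K) (hb : k ^ b • z ∈ intl A K) : z ∈ intl A K := by
  obtain ⟨u, hu⟩ := ha
  obtain ⟨v, hv⟩ := hb
  rw [Algebra.linearMap_apply, Algebra.smul_def] at hu hv
  have he : k ^ b * u = h ^ a * v := IsFractionRing.injective A K (by
    rw [map_mul, map_mul, hu, hv]; ring)
  obtain ⟨w, rfl⟩ := hr.pow_dvd (z := u) (a := a) (b := b) ⟨v, he⟩
  refine ⟨w, mul_left_cancel₀ ((map_ne_zero_iff _ (IsFractionRing.injective A K)).2 (pow_ne_zero a hr.1)) ?_⟩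
  rw [Algebra.linearMap_apply, ← map_mul, hu]

theorem mem_lat_of_away {h k : A} (hr : RegPair A h k) (hh : EtAway A C h) (hk : EtAway A C k)
    {y : K ⊗[A] C} (hy : y ∈ away C K h) (hy' : y ∈ away C K k) : y ∈ lat C K := fun c => by
  obtain ⟨a, ha⟩ := trace_away hh (mul_mem hy (image_mem_away K h c))
  obtain ⟨b, hb⟩ := trace_away hk (mul_mem hy' (image_mem_away K k c))
  exact mem_intl_of_pair hr ha hb

theorem image_mem_lat {h k : A} (hr : RegPair A h k) (hh : EtAway A C h) (hk : EtAway A C k) (c : C) :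
    (1 : K) ⊗ₜ[A] c ∈ lat C K :=
  mem_lat_of_away hr hh hk (image_mem_away K h c) (image_mem_away K k c)

variable (C K) in
/-- The trace dual is the dual module. -/
theorem lat_equiv_dual {g : A} (hg : EtAway A C g) (hg0 : g ≠ 0) :
    Nonempty (lat (A := A) C K ≃ₗ[A] Module.Dual A C) := by
  classical
  haveI hEK := etale_fraction (C := C) K hg hg0
  have hbij := (TraceEtale.etale_iff_bijective_traceForm K (K ⊗[A] C)).1 hEK
  have hinjA := IsFractionRing.injective A K
  let eA : A ≃ₗ[A] intl A K := LinearEquiv.ofInjective (Algebra.linearMap A K) hinjA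
  let Φ : lat C K →ₗ[A] Module.Dual A C :=
    { toFun := fun y => eA.symm.toLinearMap.comp ((trPair C K y.1).codRestrict (intl A K) y.2)
      map_add' := fun y y' => by
        ext c
        show eA.symm _ = eA.symm _ + eA.symm _
        rw [← map_add]
        congr 1
        exact Subtype.ext (by simp)
      map_smul' := fun a y => by
        ext c
        show eA.symm _ = a • eA.symm _
        rw [← map_smul]
        congr 1
        exact Subtype.ext (by simp) }
  have hΦ : ∀ y c, algebraMap A K (Φ y c) = trPair C K y.1 c := fun y c =>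
    congrArg Subtype.val (eA.apply_symm_apply ⟨trPair C K y.1 c, y.2 c⟩)
  refine ⟨LinearEquiv.ofBijective Φ ⟨?_, ?_⟩⟩
  · intro y y' h
    refine Subtype.ext (sub_eq_zero.1 (hbij.1 ?_))
    refine LinearMap.ext fun w => ?_
    induction w using TensorProduct.induction_on with
    | zero => simp
    | tmul r c =>
      have : (r ⊗ₜ[A] c : K ⊗[A] C) = r • ((1 : K) ⊗ₜ[A] c) := by simp [TensorProduct.smul_tmul']
      rw [this, map_smul, map_smul, Algebra.traceForm_apply, map_zero, LinearMap.zero_apply,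
        sub_mul, map_sub, ← trPair_apply, ← trPair_apply, ← hΦ, ← hΦ, h, sub_self]
    | add x x' hx hx' => rw [map_add, map_add, hx, hx']
  · intro l
    obtain ⟨y, hy⟩ := hbij.2 (LinearMap.liftBaseChange K ((Algebra.linearMap A K).comp l))
    have hyc : ∀ c, trPair C K y c = algebraMap A K (l c) := fun c => by
      have := LinearMap.congr_fun hy ((1 : K) ⊗ₜ[A] c)
      simpa [trPair_apply] using this
    exact ⟨⟨y, fun c => ⟨l c, (hyc c).symm⟩⟩, LinearMap.ext fun c => hinjA ((hΦ _ c).trans (hyc c))⟩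

end

end Groth.Agent.Pi1Ext.RegPurity
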