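import Groth.Agent.Pi1X.FEtGalois
import Groth.Agent.Pi1X.FEtFull
import Groth.Agent.EtFound.IntegralSplit
import Mathlib

/-! # Finite étale covers along universal homeomorphisms: étale-local models -/

set_option autoImplicit false

universe u

open CategoryTheory CategoryTheory.Limits AlgebraicGeometry TopologicalSpace

noncomputable section

set_option backward.isDefEq.respectTransparency false
set_option backward.isDefEq.respectTransparency.types false

namespace Groth.Agent.Pi1Ext.UH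

open Groth.Agent.Pi1X

/-- Restriction along a composite. -/
def rcomp {X Y Z : Scheme.{u}} (f : X ⟶ Y) (g : Y ⟶ Z) (W : FEt.Cat Z) :
    (FEt.restrict (f ≫ g)).obj W ≅ (FEt.restrict f).obj ((FEt.restrict g).obj W) :=
  (MorphismProperty.Over.pullbackComp (P := FEt.prop) (Q := ⊤) f g).app W

/-- Restriction along equal maps. -/
def rcongr {X Y : Scheme.{u}} {f g : X ⟶ Y} (h : f = g) (W : FEt.Cat Y) :
    (FEt.restrict f).obj W ≅ (FEt.restrict g).obj W :=
  eqToIso (by rw [h])

/-- The trivial cover. -/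
abbrev topObj (S : Scheme.{u}) : FEt.Cat S :=
  MorphismProperty.Over.mk ⊤ (𝟙 S) ⟨inferInstance, inferInstance⟩

/-- It restricts to the trivial cover. -/
def restrictTop {X S : Scheme.{u}} (g : X ⟶ S) : (FEt.restrict g).obj (topObj S) ≅ topObj X :=
  MorphismProperty.Over.isoMk (asIso (pullback.snd (𝟙 S) g)) (Category.comp_id _)

theorem comm_apply {A B C D : Scheme.{u}} {f : A ⟶ B} {g : B ⟶ D} {h : A ⟶ C} {k : C ⟶ D}
    (e : f ≫ g = h ≫ k) (t : A) : g.base (f.base t) = k.base (h.base t) := by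
  rw [← Scheme.Hom.comp_apply, ← Scheme.Hom.comp_apply, e]

variable {X Y : Scheme.{u}} (f : X ⟶ Y)

/-- An étale-local model over the base of a cover of `X`. -/
structure Model (V : FEt.Cat X) (y : Y) where
  Y' : Scheme.{u}
  v : Y' ⟶ Y
  hv : Etale v
  z : Y'
  hz : v.base z = y
  X' : Scheme.{u}
  a : X' ⟶ X
  b : X' ⟶ Y'
  sq : IsPullback a b f v
  E : FEt.Cat Y'
  κ : (FEt.restrict b).obj E ≅ (FEt.restrict a).obj V

variable {f}

/-- Shrinking a model. -/
def Model.comp {V : FEt.Cat X} {y : Y} (M : Model f V y) {Y'' : Scheme.{u}} (w : Y'' ⟶ M.Y') (hw : Etale w)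
    (z : Y'') (hz : w.base z = M.z) : Model f V y where
  Y' := Y''
  v := w ≫ M.v
  hv := haveI := M.hv; inferInstance
  z := z
  hz := by rw [Scheme.Hom.comp_apply, hz, M.hz]
  X' := pullback M.b w
  a := pullback.fst M.b w ≫ M.a
  b := pullback.snd M.b w
  sq := (IsPullback.of_hasPullback M.b w).paste_horiz M.sq
  E := (FEt.restrict w).obj M.E
  κ := (rcomp _ _ M.E).symm ≪≫ rcongr pullback.condition.symm M.E ≪≫ rcomp _ _ M.E ≪≫
    (FEt.restrict _).mapIso M.κ ≪≫ (rcomp _ _ V).symm

theorem exists_model_empty [IsIntegralHom f] [UniversallyInjective f] [Surjective f] (V : FEt.Cat X)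
    {Ω : Type u} [Field Ω] [IsAlgClosed Ω] (ξ : Spec (CommRingCat.of Ω) ⟶ X)
    (hξ : IsEmpty (FEt.fiberObj ξ V)) : Nonempty (Model f V (f.base (ξ.base (IsLocalRing.closedPoint Ω)))) := by
  let x := ξ.base (IsLocalRing.closedPoint Ω)
  have hw : ∀ w : V.left, V.hom.base w ≠ x := fun w hw =>
    hξ.elim' ⟨(Classical.choose (exists_lift_at ξ V.hom w hw)).1,
      (Classical.choose (exists_lift_at ξ V.hom w hw)).2⟩
  let O : Y.Opens := ⟨(f.base '' Set.range V.hom.base)ᶜ,
    (f.isClosedMap _ (isClopen_range V.prop).1).isOpen_compl⟩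
  have hO : f.base x ∈ O := fun ⟨x', ⟨w, hw'⟩, he⟩ => hw w (hw'.trans (f.injective he))
  haveI hemp : IsEmpty ((FEt.restrict (pullback.fst f O.ι)).obj V).left := ⟨fun (t : ↥(pullback V.hom (pullback.fst f O.ι))) => by
    refine ((pullback.snd f O.ι).base ((pullback.snd V.hom (pullback.fst f O.ι)).base t)).2
      ⟨_, ⟨(pullback.fst V.hom (pullback.fst f O.ι)).base t, rfl⟩, ?_⟩
    exact (congrArg f.base (comm_apply pullback.condition t)).trans (comm_apply pullback.condition _)⟩
  haveI hemp' : IsEmpty ((FEt.restrict (pullback.snd f O.ι)).obj (emptyCover (O : Scheme.{u}))).left :=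
    ⟨fun (t : ↥(pullback (initial.to (O : Scheme.{u})) (pullback.snd f O.ι))) =>
      IsEmpty.false ((pullback.fst (initial.to (O : Scheme.{u})) (pullback.snd f O.ι)).base t : (⊥_ Scheme.{u}))⟩
  exact ⟨{
    Y' := O, v := O.ι, hv := inferInstance, z := ⟨f.base x, hO⟩, hz := rfl
    X' := pullback f O.ι, a := pullback.fst f O.ι, b := pullback.snd f O.ι
    sq := IsPullback.of_hasPullback _ _
    E := emptyCover _
    κ := MorphismProperty.Over.isoMk ((isInitialOfIsEmpty).uniqueUpToIso isInitialOfIsEmpty)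
      ((isInitialOfIsEmpty (X := ((FEt.restrict (pullback.snd f O.ι)).obj (emptyCover (O : Scheme.{u}))).left)).hom_ext _ _) }⟩

/-- A section splits off a copy of the base. -/
theorem exists_decomp {S : Scheme.{u}} {V : FEt.Cat S} (σ : topObj S ⟶ V) :
    ∃ (R : FEt.Cat S) (ι : R ⟶ V), IsIso (coprod.desc σ ι) ∧ IsOpenImmersion ι.left ∧
      Disjoint (Set.range σ.left.base) (Set.range ι.left.base) := by
  have hσ := prop_left σ
  haveI : Etale σ.left := hσ.2
  haveI : IsOpenImmersion σ.left := by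
    haveI : Mono σ.left := SplitMono.mono ⟨V.hom, MorphismProperty.Over.w σ⟩
    exact IsOpenImmersion.of_flat_of_mono _
  have hc := isClopen_range hσ
  let U : V.left.Opens := ⟨(Set.range σ.left.base)ᶜ, hc.compl.2⟩
  let R : FEt.Cat S := MorphismProperty.Over.mk ⊤ (U.ι ≫ V.hom)
    (FEt.prop.comp_mem _ _ (prop_ι_of_isClopen U hc.compl.1) V.prop)
  let ι : R ⟶ V := MorphismProperty.Over.homMk U.ι rfl
  refine ⟨R, ι, ?_, inferInstanceAs (IsOpenImmersion U.ι), ?_⟩
  · have hcompl : IsCompl σ.left.opensRange U.ι.opensRange := by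
      rw [Scheme.Opens.opensRange_ι]
      exact ⟨disjoint_iff.mpr (Opens.ext (Set.inter_compl_self _)),
        codisjoint_iff.mpr (Opens.ext (Set.union_compl_self _))⟩
    obtain ⟨hlim⟩ := nonempty_isColimit_binaryCofanMk_of_isCompl σ.left U.ι hcompl
    let e : binCoprod (topObj S) R ≅ V := MorphismProperty.Over.isoMk
      ((colimit.isColimit (pair S (U : Scheme.{u}))).coconePointUniqueUpToIso hlim) (by
        refine coprod.hom_ext ?_ ?_
        · exact ((colimit.isColimit _).comp_coconePointUniqueUpToIso_hom_assoc hlim ⟨.left⟩ _).trans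
            ((MorphismProperty.Over.w σ).trans (coprod.inl_desc _ _).symm)
        · exact ((colimit.isColimit _).comp_coconePointUniqueUpToIso_hom_assoc hlim ⟨.right⟩ _).trans
            (coprod.inr_desc _ _).symm)
    have : coprod.desc σ ι = ((coprodIsCoprod _ _).coconePointUniqueUpToIso (binCofanIsColimit (topObj S) R) ≪≫ e).hom := by
      refine coprod.hom_ext ?_ ?_
      · rw [coprod.inl_desc]
        refine ((coprodIsCoprod _ _).comp_coconePointUniqueUpToIso_hom_assoc _ ⟨.left⟩ _).trans ?_ |>.symm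
        exact MorphismProperty.Over.Hom.ext ((colimit.isColimit _).comp_coconePointUniqueUpToIso_hom hlim ⟨.left⟩)
      · rw [coprod.inr_desc]
        refine ((coprodIsCoprod _ _).comp_coconePointUniqueUpToIso_hom_assoc _ ⟨.right⟩ _).trans ?_ |>.symm
        exact MorphismProperty.Over.Hom.ext ((colimit.isColimit _).comp_coconePointUniqueUpToIso_hom hlim ⟨.right⟩)
    rw [this]; infer_instance
  · rw [show Set.range ι.left.base = (U : Set V.left) from Scheme.Opens.range_ι U]
    exact disjoint_compl_right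

theorem exists_model_aux (n : ℕ) : ∀ {X Y : Scheme.{u}} (f : X ⟶ Y) [IsIntegralHom f] [UniversallyInjective f]
    [Surjective f] (V : FEt.Cat X) {Ω : Type u} [Field Ω] [IsAlgClosed Ω]
    (ξ : Spec (CommRingCat.of Ω) ⟶ X), Nat.card (FEt.fiberObj ξ V) ≤ n →
    Nonempty (Model f V (f.base (ξ.base (IsLocalRing.closedPoint Ω)))) := by
  induction n with
  | zero =>
    intro X Y f _ _ _ V Ω _ _ ξ h
    haveI := fiber_finite ξ V
    exact exists_model_empty V ξ (Finite.card_eq_zero_iff.mp (Nat.le_zero.mp h))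
  | succ n ih =>
    intro X Y f _ _ _ V Ω _ _ ξ h
    rcases isEmpty_or_nonempty (FEt.fiberObj ξ V) with he | ⟨⟨s, hs⟩⟩
    · exact exists_model_empty V ξ he
    let x := ξ.base (IsLocalRing.closedPoint Ω)
    let w := s.base (IsLocalRing.closedPoint Ω)
    have hw : V.hom.base w = x :=
      (Scheme.Hom.comp_apply _ _ _).symm.trans (congrArg (fun k => k.base (IsLocalRing.closedPoint Ω)) hs)
    haveI : Etale V.hom := V.prop.2
    obtain ⟨Y₀, v₀, hv₀, z₀, hz₀, h₀, hh₀, -⟩ := EtFound.exists_split f V.hom (f.base x)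
      (fun x' hx' => ⟨w, hw.trans (f.injective hx').symm⟩) w (congrArg f.base hw)
    haveI := hv₀
    let X₁ := pullback f v₀
    let a₀ : X₁ ⟶ X := pullback.fst f v₀
    let b₀ : X₁ ⟶ Y₀ := pullback.snd f v₀
    haveI : IsIntegralHom b₀ := MorphismProperty.pullback_snd _ _ inferInstance
    haveI : UniversallyInjective b₀ := MorphismProperty.pullback_snd (P := @UniversallyInjective) _ _ ‹_›
    haveI : Surjective b₀ := MorphismProperty.pullback_snd (P := @Surjective) _ _ ‹_›
    let V₁ := (FEt.restrict a₀).obj V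
    let σ : topObj X₁ ⟶ V₁ := MorphismProperty.Over.homMk
      (pullback.lift h₀ (𝟙 X₁) (hh₀.trans (Category.id_comp _).symm)) (pullback.lift_snd _ _ _)
    obtain ⟨R, ι, hiso, hopen, hdisj⟩ := exists_decomp σ
    obtain ⟨x₁, hx₁, hx₁'⟩ := Scheme.Pullback.exists_preimage_pullback (f := f) (g := v₀) x z₀ hz₀.symm
    -- a lift of the geometric point
    obtain ⟨P, hP, hP'⟩ := Scheme.Pullback.exists_preimage_pullback (f := a₀) (g := ξ) x₁
      (IsLocalRing.closedPoint Ω) hx₁
    obtain ⟨U, hU, hPU, -⟩ := exists_isAffineOpen_mem_and_subset (x := P) (U := (⊤ : (pullback a₀ ξ).Opens)) trivial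
    haveI : IsAffine U := hU
    haveI : Etale (pullback.snd a₀ ξ) := MorphismProperty.pullback_snd _ _
      (MorphismProperty.pullback_fst (P := @Etale) f v₀ hv₀)
    haveI : Etale (U.ι ≫ pullback.snd a₀ ξ) := inferInstance
    obtain ⟨⟨t, ht⟩, htP⟩ := exists_lift_at (𝟙 (Spec (CommRingCat.of Ω))) (U.ι ≫ pullback.snd a₀ ξ) ⟨P, hPU⟩
      (by simpa using hP')
    let ξ₁ : Spec (CommRingCat.of Ω) ⟶ X₁ := t ≫ U.ι ≫ pullback.fst a₀ ξ
    have hξ₁ : ξ₁ ≫ a₀ = ξ := by
      simp only [ξ₁, Category.assoc, pullback.condition]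
      exact (by simpa using congrArg (· ≫ ξ) ht)
    have hξx : ξ₁.base (IsLocalRing.closedPoint Ω) = x₁ := by
      simp only [ξ₁, Scheme.Hom.comp_apply, htP]
      exact hP
    -- the remaining cover has smaller degree
    haveI := fiber_finite ξ₁ R
    haveI := fiber_finite ξ₁ V₁
    have hV₁ : Nat.card (FEt.fiberObj ξ₁ V₁) = Nat.card (FEt.fiberObj ξ V) := by
      have := Nat.card_congr ((restrictFiberIso a₀ ξ₁).app V).toEquiv
      rw [← hξ₁]; exact this
    have hlt : Nat.card (FEt.fiberObj ξ₁ R) < Nat.card (FEt.fiberObj ξ₁ V₁) := by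
      have hinj : Function.Injective ((FEt.fiber ξ₁).map ι : FEt.fiberObj ξ₁ R → FEt.fiberObj ξ₁ V₁) := by
        intro p q hpq
        haveI := hopen
        exact Subtype.ext ((cancel_mono ι.left).mp (congrArg Subtype.val hpq))
      haveI : Finite ((FEt.fiber ξ₁).obj V₁ : Type u) := fiber_finite ξ₁ V₁
      haveI : Finite ((FEt.fiber ξ₁).obj R : Type u) := fiber_finite ξ₁ R
      refine (Nat.card_le_card_of_injective _ hinj).lt_of_ne fun e => ?_
      have hsur := (hinj.bijective_of_nat_card_le e.ge).2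
      obtain ⟨p, hp⟩ := hsur ⟨ξ₁ ≫ σ.left, by rw [Category.assoc, MorphismProperty.Over.w σ]; exact Category.comp_id _⟩
      have e : (p.1 ≫ ι.left).base (IsLocalRing.closedPoint Ω) = (ξ₁ ≫ σ.left).base (IsLocalRing.closedPoint Ω) := by
        exact congrArg (fun k => k.base (IsLocalRing.closedPoint Ω)) (congrArg Subtype.val hp)
      exact hdisj.ne_of_mem ⟨_, (Scheme.Hom.comp_apply _ _ _).symm⟩ ⟨_, (Scheme.Hom.comp_apply _ _ _).symm⟩ e.symm
    obtain ⟨M⟩ := ih b₀ R ξ₁ (by omega)
    haveI := M.hv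
    haveI : IsIso (coprod.desc σ ι) := hiso
    exact ⟨{
      Y' := M.Y', v := M.v ≫ v₀, hv := inferInstance, z := M.z
      hz := by rw [Scheme.Hom.comp_apply, M.hz, hξx, hx₁', hz₀]
      X' := M.X', a := M.a ≫ a₀, b := M.b
      sq := M.sq.paste_horiz (IsPullback.of_hasPullback f v₀)
      E := topObj M.Y' ⨿ M.E
      κ := (PreservesColimitPair.iso (FEt.restrict M.b) (topObj M.Y') M.E).symm ≪≫
        coprod.mapIso (restrictTop M.b ≪≫ (restrictTop M.a).symm) M.κ ≪≫
        PreservesColimitPair.iso (FEt.restrict M.a) (topObj X₁) R ≪≫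
        (FEt.restrict M.a).mapIso (asIso (coprod.desc σ ι)) ≪≫ (rcomp _ _ V).symm }⟩

theorem exists_model [IsIntegralHom f] [UniversallyInjective f] [Surjective f] (V : FEt.Cat X) (y : Y) :
    Nonempty (Model f V y) := by
  obtain ⟨x, rfl⟩ := f.surjective y
  obtain ⟨Ω, _, _, ξ, rfl⟩ := exists_geometric_point x
  exact exists_model_aux _ f V ξ le_rfl

end Groth.Agent.Pi1Ext.UH
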